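import Cfsg.Agent.Layer.FStar
import Cfsg.Agent.Coprime.Basic

/-!
`p`-constraint, `p`-solvable basics, and local subgroups of `p`-constrained groups.
-/

set_option autoImplicit false
set_option linter.style.haveILetI false

namespace Cfsg.Agent.Layer

open Subgroup Cfsg

universe u v

variable {G : Type u} [Group G] {H : Type v} [Group H] {p : ℕ}

/-! ### Arithmetic helpers -/

theorem exists_coprime_orderOf [Finite G] [hp : Fact p.Prime] {S : Subgroup G} (hS : ¬ IsPGroup p S) :
    ∃ q ∈ S, q ≠ 1 ∧ (orderOf q).Coprime p := by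
  rw [IsPGroup.iff_card] at hS
  obtain ⟨r, hr, hrd, hrp⟩ : ∃ r, r.Prime ∧ r ∣ Nat.card S ∧ r ≠ p := by
    by_contra h
    push Not at h
    exact hS ⟨(Nat.card S).primeFactorsList.length,
      Nat.eq_prime_pow_of_unique_prime_dvd Nat.card_pos.ne' fun {d} hd hdd => h d hd hdd⟩
  haveI := Fact.mk hr
  obtain ⟨x, hx⟩ := exists_prime_orderOf_dvd_card' r hrd
  have hx' : orderOf (x : G) = r := (orderOf_injective S.subtype S.subtype_injective x).trans hx
  refine ⟨x, x.2, fun h => hr.one_lt.ne' (by simpa [h] using hx'.symm), ?_⟩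
  rw [hx']
  exact (Nat.coprime_primes hr hp.out).mpr hrp

theorem eq_bot_of_isPGroup_of_coprime [Finite G] [Fact p.Prime] {S : Subgroup G}
    (h1 : IsPGroup p S) (h2 : (Nat.card S).Coprime p) : S = ⊥ := by
  obtain ⟨n, hn⟩ := IsPGroup.iff_card.mp h1
  refine Subgroup.eq_bot_of_card_eq _ ?_
  rcases Nat.eq_zero_or_pos n with rfl | hpos
  · simpa using hn
  · rw [hn] at h2
    exact absurd ((Nat.coprime_pow_left_iff hpos p p).mp h2) (by
      simp [(Fact.out : p.Prime).ne_one])

theorem coprime_card_of_isPGroup [Finite G] [Fact p.Prime] {P Q : Subgroup G}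
    (hP : IsPGroup p P) (hQ : (Nat.card Q).Coprime p) : (Nat.card P).Coprime (Nat.card Q) := by
  obtain ⟨n, hn⟩ := IsPGroup.iff_card.mp hP
  rw [hn]
  exact (hQ.symm).pow_left n

theorem inf_eq_bot_of_isPGroup [Finite G] [Fact p.Prime] {P Q : Subgroup G}
    (hP : IsPGroup p P) (hQ : (Nat.card Q).Coprime p) : P ⊓ Q = ⊥ :=
  Coprime.inf_eq_bot_of_coprime (coprime_card_of_isPGroup hP hQ)

theorem isSolvable_of_isPGroup [Finite G] [Fact p.Prime] {P : Subgroup G} (hP : IsPGroup p P) :
    Group.IsSolvable P := by
  haveI := hP.isNilpotent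
  infer_instance

/-! ### Lifting centralisers and normalisers of `p`-subgroups over `p'`-kernels -/

theorem map_centralizer_of_coprime [Finite G] [Fact p.Prime] {f : G →* H}
    (hf : Function.Surjective f) (hker : (Nat.card f.ker).Coprime p) {P : Subgroup G}
    (hP : IsPGroup p P) :
    (centralizer (P : Set G)).map f = centralizer ((P.map f : Subgroup H) : Set H) := by
  have h := Coprime.map_inf_centralizer f (A := P) (K := ⊤) (le_normalizer_of_normal) le_top
    (coprime_card_of_isPGroup hP hker) (Or.inl (isSolvable_of_isPGroup hP))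
  rwa [top_inf_eq, Subgroup.map_top_of_surjective f hf, top_inf_eq] at h

theorem map_normalizer_of_coprime [Finite G] [Fact p.Prime] {f : G →* H}
    (hf : Function.Surjective f) (hker : (Nat.card f.ker).Coprime p) {P : Subgroup G}
    (hP : IsPGroup p P) :
    (normalizer (P : Set G)).map f = normalizer ((P.map f : Subgroup H) : Set H) := by
  refine le_antisymm (le_normalizer_map f) fun y hy => ?_
  obtain ⟨g, rfl⟩ := hf y
  have hB : P.map (MulAut.conj g).toMonoidHom ≤ f.ker ⊔ P := by
    rw [sup_comm, ← Subgroup.comap_map_eq]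
    rintro _ ⟨x, hx, rfl⟩
    show f (g * x * g⁻¹) ∈ P.map f
    rw [map_mul, map_mul, map_inv]
    exact (mem_normalizer_iff.mp hy (f x)).mp ⟨x, hx, rfl⟩
  obtain ⟨k, hk, hkg⟩ := Coprime.exists_conj_eq (A := P) (K := f.ker) le_normalizer_of_normal
    (coprime_card_of_isPGroup hP hker) (Or.inl (isSolvable_of_isPGroup hP)) hB (card_map_conj P g)
  refine ⟨k * g, ?_, ?_⟩
  · rw [SetLike.mem_coe, mem_normalizer_iff_map_conj_eq]
    rw [Coprime.conj_smul_eq_map] at hkg
    refine Eq.trans ?_ hkg
    exact (map_conj_map_conj P g k).symm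
  · rw [map_mul, MonoidHom.mem_ker.mp hk, one_mul]

/-! ### Groups with trivial `p'`-core -/

theorem fitting_eq_pCore_of_pPrimeCore_eq_bot [Finite G] [hp : Fact p.Prime]
    (h : pPrimeCore p G = ⊥) : fittingSubgroup G = pCore p G := by
  refine le_antisymm ?_ (Core.pCore_le_fittingSubgroup p)
  rw [Core.fittingSubgroup_eq_iSup_pCore]
  refine iSup_le fun r => ?_
  haveI := Fact.mk r.2
  by_cases hr : (r : ℕ) = p
  · rw [hr]
  · exact (Core.pCore_le_pPrimeCore (p := p) (q := r) hr).trans (h.le.trans bot_le)

/-- The form of `p`-constraint for groups with trivial `p'`-core. -/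
def PCoreSelfCentral (p : ℕ) (G : Type u) [Group G] : Prop :=
  centralizer (pCore p G : Set G) ≤ pCore p G

theorem pCoreSelfCentral_congr (e : G ≃* H) (h : PCoreSelfCentral p G) : PCoreSelfCentral p H := by
  intro x hx
  obtain ⟨y, rfl⟩ := e.surjective x
  have hy : y ∈ centralizer (pCore p G : Set G) := mem_centralizer_iff.mpr fun z hz => by
    refine e.injective ?_
    rw [map_mul, map_mul]
    exact mem_centralizer_iff.mp hx (e z) (by rw [← Core.map_pCore e]; exact ⟨z, hz, rfl⟩)
  rw [← Core.map_pCore e]
  exact ⟨y, h hy, rfl⟩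

theorem pCoreSelfCentral_iff_layer [Finite G] [Fact p.Prime] (h : pPrimeCore p G = ⊥) :
    PCoreSelfCentral p G ↔ layer G = ⊥ := by
  rw [layer_eq_bot_iff_centralizer_fitting, fitting_eq_pCore_of_pPrimeCore_eq_bot h]
  rfl

theorem pPrimeCore_eq_bot_of_selfCentral [Finite G] [Fact p.Prime] (h : PCoreSelfCentral p G) :
    pPrimeCore p G = ⊥ := by
  refine le_bot_iff.mp ?_
  rw [← inf_eq_bot_of_isPGroup (Core.pCore_isPGroup (p := p) (G := G))
    (Core.coprime_card_pPrimeCore (p := p) (G := G))]
  exact le_inf ((le_centralizer_iff.mp Core.pCore_le_centralizer_pPrimeCore).trans h) le_rfl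

theorem generalizedFitting_eq_pCore_iff [Finite G] [Fact p.Prime] :
    generalizedFittingSubgroup G = pCore p G ↔ PCoreSelfCentral p G := by
  constructor
  · intro h
    have h' := centralizer_generalizedFitting_le (G := G)
    rwa [h] at h'
  · intro h
    have hO := pPrimeCore_eq_bot_of_selfCentral h
    rw [generalizedFittingSubgroup, (pCoreSelfCentral_iff_layer hO).mp h, bot_sup_eq,
      fitting_eq_pCore_of_pPrimeCore_eq_bot hO]

theorem isPConstrained_iff_selfCentral [Finite G] [Fact p.Prime] :
    IsPConstrained p G ↔ PCoreSelfCentral p (G ⧸ pPrimeCore p G) := by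
  set N := pPrimeCore p G with hN
  set f := QuotientGroup.mk' N with hf
  have hker : (Nat.card f.ker).Coprime p := by
    rw [hf, QuotientGroup.ker_mk']
    exact Core.coprime_card_pPrimeCore
  have hfs : Function.Surjective f := QuotientGroup.mk'_surjective N
  have key : ∀ P : Sylow p ↥(pPrimePCore p G),
      (centralizer (((P : Subgroup ↥(pPrimePCore p G)).map (pPrimePCore p G).subtype : Subgroup G) : Set G)
        ≤ pPrimePCore p G) ↔ PCoreSelfCentral p (G ⧸ N) := by
    intro P
    set P' := (P : Subgroup ↥(pPrimePCore p G)).map (pPrimePCore p G).subtype with hP'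
    have hPp : IsPGroup p P' := P.isPGroup'.map _
    have himg : P'.map f = pCore p (G ⧸ N) := by
      have hsurj : Function.Surjective (f.subgroupComap (pCore p (G ⧸ N))) :=
        MonoidHom.subgroupComap_surjective_of_surjective f _ hfs
      have h : (P.mapSurjective hsurj : Subgroup ↥(pCore p (G ⧸ N))) = ⊤ :=
        ((P.mapSurjective hsurj).is_maximal' (Core.pCore_isPGroup.to_subgroup ⊤) le_top).symm
      apply le_antisymm
      · rintro _ ⟨_, ⟨x, _, rfl⟩, rfl⟩
        exact x.2
      · intro y hy
        have hy' : (⟨y, hy⟩ : ↥(pCore p (G ⧸ N))) ∈ (P.mapSurjective hsurj : Subgroup _) :=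
          h ▸ mem_top _
        obtain ⟨x, hx, hxy⟩ := hy'
        exact ⟨x, ⟨x, hx, rfl⟩, congrArg Subtype.val hxy⟩
    rw [PCoreSelfCentral, ← himg, ← map_centralizer_of_coprime hfs hker hPp, himg,
      Subgroup.map_le_iff_le_comap]
    rfl
  exact ⟨fun h => (key default).mp (h default), fun h P => (key P).mpr h⟩

theorem isPConstrained_iff_layer [Finite G] [Fact p.Prime] :
    IsPConstrained p G ↔ layer (G ⧸ pPrimeCore p G) = ⊥ :=
  isPConstrained_iff_selfCentral.trans (pCoreSelfCentral_iff_layer Core.pPrimeCore_quotient_eq_bot)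

/-- If `C_G(O_p(G)) ≤ O_p(G)` and `D` has order prime to `p`, centralises a `p`-subgroup `P` and is
normalised by `C_{O_p(G)}(P)`, then `D = 1`. -/
theorem eq_bot_of_centralizes [Finite G] [Fact p.Prime] (h : PCoreSelfCentral p G) {P D : Subgroup G}
    (hP : IsPGroup p P) (hD : (Nat.card D).Coprime p) (hDP : D ≤ centralizer (P : Set G))
    (hCD : pCore p G ⊓ centralizer (P : Set G) ≤ normalizer (D : Set G)) : D = ⊥ := by
  have hDC : pCore p G ⊓ centralizer (P : Set G) ≤ centralizer (D : Set G) := by
    rw [← commutator_eq_bot_iff_le_centralizer, ← le_bot_iff,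
      ← inf_eq_bot_of_isPGroup (Core.pCore_isPGroup (p := p) (G := G)) hD]
    exact le_inf ((commutator_mono inf_le_left le_rfl).trans (commutator_le_left _ _))
      (Subgroup.le_normalizer_iff_commutator_le_right.mp hCD)
  have hDO : D ≤ centralizer (pCore p G : Set G) :=
    Coprime.thompson_pxq hP hD Core.pCore_isPGroup (le_centralizer_iff.mp hDP)
      le_normalizer_of_normal le_normalizer_of_normal hDC
  exact eq_bot_of_isPGroup_of_coprime (Core.pCore_isPGroup.to_le (hDO.trans h)) hD

/-- With `C_G(O_p(G)) ≤ O_p(G)`, an element of `p'`-order centralising `P` and `C_{O_p(G)}(P)` is trivial. -/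
theorem eq_one_of_centralizes [Finite G] [Fact p.Prime] (h : PCoreSelfCentral p G) {P : Subgroup G}
    (hP : IsPGroup p P) {q : G} (hq : (orderOf q).Coprime p) (hqP : q ∈ centralizer (P : Set G))
    (hqC : q ∈ centralizer ((pCore p G ⊓ centralizer (P : Set G) : Subgroup G) : Set G)) : q = 1 := by
  rw [← zpowers_eq_bot]
  refine eq_bot_of_centralizes h hP (by rwa [Nat.card_zpowers]) (by rwa [zpowers_le]) ?_
  refine le_trans ?_ (centralizer_le_normalizer _)
  exact le_centralizer_iff.mp (by rwa [zpowers_le])

theorem pCore_inf_normalizer_le [Finite G] [Fact p.Prime] (P : Subgroup G) :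
    pCore p G ⊓ normalizer (P : Set G) ≤
      (pCore p ↥(normalizer (P : Set G))).map (normalizer (P : Set G)).subtype := by
  rw [← subgroupOf_map_subtype]
  exact Subgroup.map_mono (Core.le_pCore
    ((Core.pCore_isPGroup (p := p) (G := G)).comap_of_injective _ (Subgroup.subtype_injective _)))

theorem le_pCore_normalizer [Finite G] [Fact p.Prime] {P : Subgroup G} (hP : IsPGroup p P) :
    P ≤ (pCore p ↥(normalizer (P : Set G))).map (normalizer (P : Set G)).subtype := by
  haveI := Subgroup.normal_in_normalizer (H := P)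
  refine le_trans (map_subgroupOf_eq_of_le (le_normalizer (H := P))).symm.le ?_
  exact Subgroup.map_mono (Core.le_pCore (hP.comap_of_injective _ (Subgroup.subtype_injective _)))

/-- If `C_G(O_p(G)) ≤ O_p(G)`, every `p`-local subgroup has the same property. -/
theorem pCoreSelfCentral_normalizer [Finite G] [Fact p.Prime] (h : PCoreSelfCentral p G)
    {P : Subgroup G} (hP : IsPGroup p P) : PCoreSelfCentral p ↥(normalizer (P : Set G)) := by
  set M := normalizer (P : Set G) with hM
  refine subnormal_le_pCore (Subgroup.Normal.isSubnormal inferInstance) ?_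
  by_contra hne
  obtain ⟨q, hq, hq1, hqo⟩ := exists_coprime_orderOf hne
  refine hq1 (Subtype.ext ?_)
  have hqc : ∀ x ∈ (pCore p ↥M).map M.subtype, x * (q : G) = q * x := by
    rintro _ ⟨y, hy, rfl⟩
    exact congrArg Subtype.val (mem_centralizer_iff.mp hq y hy)
  refine eq_one_of_centralizes h hP ?_ ?_ ?_
  · rwa [show orderOf (q : G) = orderOf q from orderOf_injective M.subtype M.subtype_injective q]
  · exact mem_centralizer_iff.mpr fun x hx => hqc x (le_pCore_normalizer hP hx)
  · exact mem_centralizer_iff.mpr fun x hx =>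
      hqc x (pCore_inf_normalizer_le P ⟨hx.1, centralizer_le_normalizer _ hx.2⟩)

/-- In a `p`-constrained group, `O_{p'}(C_G(P)) ≤ O_{p'}(G)`. -/
theorem pPrimeCore_centralizer_le [Finite G] [Fact p.Prime] (h : IsPConstrained p G) {P : Subgroup G}
    (hP : IsPGroup p P) :
    (pPrimeCore p ↥(centralizer (P : Set G))).map (centralizer (P : Set G)).subtype ≤ pPrimeCore p G := by
  set C := centralizer (P : Set G) with hC
  set f := QuotientGroup.mk' (pPrimeCore p G) with hf
  have hker : (Nat.card f.ker).Coprime p := by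
    rw [hf, QuotientGroup.ker_mk']
    exact Core.coprime_card_pPrimeCore
  have hCf : C.map f = centralizer ((P.map f : Subgroup _) : Set (G ⧸ pPrimeCore p G)) :=
    map_centralizer_of_coprime (QuotientGroup.mk'_surjective _) hker hP
  set D := ((pPrimeCore p ↥C).map C.subtype).map f with hD
  have hDC : D ≤ C.map f := Subgroup.map_mono (map_subtype_le _)
  have hcop : (Nat.card D).Coprime p :=
    Nat.Coprime.coprime_dvd_left ((card_map_dvd _ f).trans (card_map_dvd _ C.subtype))
      Core.coprime_card_pPrimeCore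
  have hCD : C.map f ≤ normalizer (D : Set (G ⧸ pPrimeCore p G)) := by
    refine (Subgroup.map_mono ?_).trans (le_normalizer_map f)
    refine Subgroup.le_normalizer_iff.mpr ?_
    rintro c hc _ ⟨y, hy, rfl⟩
    exact ⟨⟨c, hc⟩ * y * ⟨c, hc⟩⁻¹, Core.pPrimeCore_normal.conj_mem y hy _, rfl⟩
  have h0 := eq_bot_of_centralizes (isPConstrained_iff_selfCentral.mp h) (hP.map f) hcop
    (hCf ▸ hDC) (le_trans (inf_le_right.trans_eq hCf.symm) hCD)
  rwa [hD, Subgroup.map_eq_bot_iff, hf, QuotientGroup.ker_mk'] at h0

theorem pPrimeCore_normalizer_le_centralizer [Finite G] [Fact p.Prime] {P : Subgroup G}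
    (hP : IsPGroup p P) :
    (pPrimeCore p ↥(normalizer (P : Set G))).map (normalizer (P : Set G)).subtype
      ≤ centralizer (P : Set G) := by
  rintro _ ⟨x, hx, rfl⟩
  rw [mem_centralizer_iff]
  intro y hy
  obtain ⟨z, hz, rfl⟩ := le_pCore_normalizer hP hy
  exact congrArg Subtype.val (mem_centralizer_iff.mp (Core.pCore_le_centralizer_pPrimeCore hz) x hx).symm

theorem pPrimeCore_normalizer_le [Finite G] [Fact p.Prime] (h : IsPConstrained p G) {P : Subgroup G}
    (hP : IsPGroup p P) :
    (pPrimeCore p ↥(normalizer (P : Set G))).map (normalizer (P : Set G)).subtype ≤ pPrimeCore p G := by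
  refine le_trans ?_ (pPrimeCore_centralizer_le h hP)
  set C := centralizer (P : Set G) with hC
  set N := normalizer (P : Set G) with hN
  set S := (pPrimeCore p ↥N).map N.subtype with hS
  have hSC : S ≤ C := pPrimeCore_normalizer_le_centralizer hP
  have hn : (S.subgroupOf C).Normal := by
    refine (normal_subgroupOf_iff_le_normalizer hSC).mpr (Subgroup.le_normalizer_iff.mpr ?_)
    rintro c hc _ ⟨z, hz, rfl⟩
    exact ⟨⟨c, centralizer_le_normalizer _ hc⟩ * z * ⟨c, centralizer_le_normalizer _ hc⟩⁻¹,
      Core.pPrimeCore_normal.conj_mem z hz _, rfl⟩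
  have hle : S.subgroupOf C ≤ pPrimeCore p ↥C := by
    refine Core.le_pPrimeCore ?_
    rw [Nat.card_congr (subgroupOfEquivOfLe hSC).toEquiv, hS,
      Subgroup.card_map_of_injective N.subtype_injective]
    exact Core.coprime_card_pPrimeCore
  intro x hx
  exact ⟨⟨x, hSC hx⟩, hle hx, rfl⟩

/-- `p`-local subgroups of a `p`-constrained group are `p`-constrained. -/
theorem isPConstrained_normalizer [Finite G] [Fact p.Prime] (h : IsPConstrained p G) {P : Subgroup G}
    (hP : IsPGroup p P) : IsPConstrained p ↥(normalizer (P : Set G)) := by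
  rw [isPConstrained_iff_selfCentral]
  set M := normalizer (P : Set G) with hM
  set f := QuotientGroup.mk' (pPrimeCore p G) with hf
  have hker : (Nat.card f.ker).Coprime p := by
    rw [hf, QuotientGroup.ker_mk']
    exact Core.coprime_card_pPrimeCore
  have hkM : (f.subgroupMap M).ker = pPrimeCore p ↥M := by
    apply le_antisymm
    · refine Core.le_pPrimeCore ?_
      rw [MonoidHom.ker, ← Subgroup.card_map_of_injective M.subtype_injective]
      refine hker.coprime_dvd_left (Subgroup.card_dvd_of_le ?_)
      rintro _ ⟨x, hx, rfl⟩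
      exact congrArg Subtype.val hx
    · intro x hx
      refine Subtype.ext ?_
      show f (x : G) = 1
      rw [← MonoidHom.mem_ker, hf, QuotientGroup.ker_mk']
      exact pPrimeCore_normalizer_le h hP ⟨x, hx, rfl⟩
  have e : ↥M ⧸ pPrimeCore p ↥M ≃* ↥(M.map f) :=
    (QuotientGroup.quotientMulEquivOfEq hkM.symm).trans
      (QuotientGroup.quotientKerEquivOfSurjective _ (f.subgroupMap_surjective M))
  refine pCoreSelfCentral_congr ((e.trans (MulEquiv.subgroupCongr
    (map_normalizer_of_coprime (QuotientGroup.mk'_surjective _) hker hP))).symm) ?_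
  exact pCoreSelfCentral_normalizer (isPConstrained_iff_selfCentral.mp h) (hP.map f)

/-! ### `p`-solvable groups -/

theorem relIndex_dvd_relIndex_of_le {A B K : Subgroup G} [A.Normal] (h : B ≤ K) :
    A.relIndex B ∣ A.relIndex K := by
  have := fun L : Subgroup G => Subgroup.relIndex_ker (QuotientGroup.mk' A) (K := L)
  simp only [QuotientGroup.ker_mk'] at this
  rw [this, this]
  exact Subgroup.card_dvd_of_le (Subgroup.map_mono h)

theorem isPSolvable_of_surjective [Finite G] [Fact p.Prime] (h : IsPSolvable p G) {f : G →* H}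
    (hf : Function.Surjective f) : IsPSolvable p H := by
  obtain ⟨n, S, h0, hl, hm, hn, hi⟩ := h
  refine ⟨n, fun i => (S i).map f, by simp [h0], by simp [hl, Subgroup.map_top_of_surjective f hf],
    fun a b hab => Subgroup.map_mono (hm hab), fun i => (hn i).map f hf, fun i => ?_⟩
  have hdvd : ((S i.castSucc).map f).relIndex ((S i.succ).map f) ∣
      (S i.castSucc).relIndex (S i.succ) := by
    rw [Subgroup.relIndex_map_map]
    haveI := hn i.castSucc
    rcases sup_comm (S i.succ) f.ker with -
    calc (S i.castSucc ⊔ f.ker).relIndex (S i.succ ⊔ f.ker)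
        = (S i.castSucc ⊔ f.ker).relIndex (S i.succ) := by
          rw [← Subgroup.relIndex_sup_right (H := S i.succ) (K := S i.castSucc ⊔ f.ker),
            ← sup_assoc, sup_eq_left.mpr (hm i.castSucc_le_succ)]
      _ ∣ (S i.castSucc).relIndex (S i.succ) := Subgroup.relIndex_dvd_of_le_left _ le_sup_left
  rcases hi i with ⟨m, hm'⟩ | hc
  · left
    obtain ⟨j, -, hj⟩ := (Nat.dvd_prime_pow Fact.out).mp (hm' ▸ hdvd)
    exact ⟨j, hj⟩
  · exact Or.inr (hc.coprime_dvd_left hdvd)

/-- **Hall-Higman 1.2.3**: in a `p`-solvable group with trivial `p'`-core, `C_G(O_p(G)) ≤ O_p(G)`. -/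
theorem pCoreSelfCentral_of_isPSolvable [Finite G] [hp : Fact p.Prime] (h : IsPSolvable p G)
    (hO : pPrimeCore p G = ⊥) : PCoreSelfCentral p G := by
  obtain ⟨n, S, h0, hl, hm, hn, hi⟩ := h
  set C := centralizer (pCore p G : Set G) with hC
  haveI hCn : C.Normal := by rw [hC]; infer_instance
  suffices hs : ∀ i : Fin (n + 1), S i ⊓ C ≤ pCore p G by
    have := hs (Fin.last n)
    rwa [hl, top_inf_eq] at this
  intro i
  induction i using Fin.induction with
  | zero => simp [h0]
  | succ i ih =>
    set A := S i.castSucc ⊓ C with hA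
    set B := S i.succ ⊓ C with hB
    have hAB : A ≤ B := inf_le_inf_right _ (hm i.castSucc_le_succ)
    haveI := hn i.castSucc
    haveI := hn i.succ
    have hdvd : A.relIndex B ∣ (S i.castSucc).relIndex (S i.succ) := by
      have : A.relIndex B = (S i.castSucc).relIndex B := by
        rw [← Subgroup.inf_relIndex_right (S i.castSucc) B]
        congr 1
        rw [hA, hB, ← inf_assoc, inf_eq_left.mpr (hm i.castSucc_le_succ)]
      rw [this]
      exact relIndex_dvd_relIndex_of_le inf_le_left
    have hcard : Nat.card B = A.relIndex B * Nat.card A := by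
      rw [Subgroup.relIndex, ← Nat.card_congr (subgroupOfEquivOfLe hAB).toEquiv]
      exact (Subgroup.index_mul_card _).symm
    have hAp : IsPGroup p A := Core.pCore_isPGroup.to_le ih
    obtain ⟨a, ha⟩ := IsPGroup.iff_card.mp hAp
    rcases hi i with ⟨m, hm'⟩ | hc
    · obtain ⟨j, -, hj⟩ := (Nat.dvd_prime_pow hp.out).mp (hm' ▸ hdvd)
      refine Core.le_pCore (IsPGroup.of_card (n := j + a) ?_)
      rw [hcard, hj, ha, pow_add]
    · have hc' : (A.relIndex B).Coprime p := hc.coprime_dvd_left hdvd
      haveI : (A.subgroupOf B).Normal := inferInstance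
      obtain ⟨K, hK⟩ := Subgroup.exists_right_complement'_of_coprime (N := A.subgroupOf B) (by
        rw [Nat.card_congr (subgroupOfEquivOfLe hAB).toEquiv, ha]
        exact (hc'.pow_right a).symm)
      have hKcard : Nat.card K = A.relIndex B := by
        have := hK.symm.index_eq_card
        exact this.symm
      have hcen : A.subgroupOf B ≤ centralizer (K : Set ↥B) := by
        intro a' ha'
        rw [mem_centralizer_iff]
        intro k _
        exact Subtype.ext (mem_centralizer_iff.mp k.2.2 (a' : G) (ih ha')).symm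
      have hKn : K.Normal := by
        rw [← normalizer_eq_top_iff, eq_top_iff, ← hK.sup_eq_top]
        exact sup_le (hcen.trans (centralizer_le_normalizer _)) le_normalizer
      have hKbot : K.map B.subtype = ⊥ := by
        refine le_bot_iff.mp (le_trans ?_ hO.le)
        refine subnormal_le_pPrimeCore (hKn.isSubnormal.trans'
          (Subgroup.Normal.isSubnormal inferInstance)) ?_
        rw [Subgroup.card_map_of_injective B.subtype_injective, hKcard]
        exact hc'
      have hA' : A.subgroupOf B = ⊤ := by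
        have := hK.sup_eq_top
        rwa [(Subgroup.map_eq_bot_iff_of_injective _ B.subtype_injective).mp hKbot, sup_bot_eq] at this
      exact (subgroupOf_eq_top.mp hA').trans ih

theorem isPConstrained_of_isPSolvable [Finite G] [Fact p.Prime] (h : IsPSolvable p G) :
    IsPConstrained p G :=
  isPConstrained_iff_selfCentral.mpr (pCoreSelfCentral_of_isPSolvable
    (isPSolvable_of_surjective h (QuotientGroup.mk'_surjective _)) Core.pPrimeCore_quotient_eq_bot)

theorem isPConstrained_of_isSolvable [Finite G] [Fact p.Prime] [Group.IsSolvable G] :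
    IsPConstrained p G :=
  isPConstrained_iff_layer.mpr layer_eq_bot_of_isSolvable

end Cfsg.Agent.Layer
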