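import Cfsg.Prelude.Def_Local

/-!
Subnormal subgroups of finite groups: Wielandt's join theorem, socle normalises subnormal
subgroups, and subnormal p-, p'- and solvable subgroups lie in the corresponding radicals.
-/

set_option autoImplicit false
set_option linter.style.haveILetI false

namespace Cfsg.Agent.Layer

open Subgroup

universe u

variable {G : Type u} [Group G]

/-! ### Normalisers -/

theorem mem_normalizer_of_conj_mem [Finite G] {K : Subgroup G} {g : G}
    (h : ∀ x ∈ K, g * x * g⁻¹ ∈ K) : g ∈ normalizer (K : Set G) := by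
  rw [mem_normalizer_iff_map_conj_eq]
  refine Subgroup.eq_of_le_of_card_ge ?_ ?_
  · rintro _ ⟨x, hx, rfl⟩
    exact h x hx
  · rw [Subgroup.card_map_of_injective (MulEquiv.injective (MulAut.conj g))]

theorem le_normalizer_sSup {H : Subgroup G} {s : Set (Subgroup G)}
    (h : ∀ M ∈ s, H ≤ normalizer (M : Set G)) : H ≤ normalizer ((sSup s : Subgroup G) : Set G) := by
  rw [Subgroup.le_normalizer_iff]
  intro x hx y hy
  have : sSup s ≤ (sSup s).comap (MulAut.conj x).toMonoidHom := by
    refine sSup_le fun M hM m hm => ?_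
    exact le_sSup (a := M) hM ((Subgroup.le_normalizer_iff.mp (h M hM)) x hx m hm)
  exact this hy

theorem le_normalizer_sup {H A B : Subgroup G} (hA : H ≤ normalizer (A : Set G))
    (hB : H ≤ normalizer (B : Set G)) : H ≤ normalizer ((A ⊔ B : Subgroup G) : Set G) := by
  rw [← sSup_pair]
  exact le_normalizer_sSup (by rintro M (rfl | rfl) <;> assumption)

theorem le_normalizer_inf {H A B : Subgroup G} (hA : H ≤ normalizer (A : Set G))
    (hB : H ≤ normalizer (B : Set G)) : H ≤ normalizer ((A ⊓ B : Subgroup G) : Set G) :=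
  le_trans (le_inf hA hB) inf_normalizer_le_normalizer_inf

theorem le_normalizer_of_le {H K : Subgroup G} (h : H ≤ K) : H ≤ normalizer (K : Set G) :=
  h.trans le_normalizer

/-! ### Conjugates -/

theorem mem_map_conj {H : Subgroup G} {g x : G} :
    x ∈ H.map (MulAut.conj g).toMonoidHom ↔ g⁻¹ * x * g ∈ H := by
  refine ⟨?_, fun h => ⟨_, h, ?_⟩⟩
  · rintro ⟨y, hy, rfl⟩
    simpa [mul_assoc] using hy
  · simp [mul_assoc]

theorem conj_mem_map_conj {H : Subgroup G} {x : G} (g : G) (hx : x ∈ H) :
    g * x * g⁻¹ ∈ H.map (MulAut.conj g).toMonoidHom := ⟨x, hx, rfl⟩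

theorem map_conj_mono {H K : Subgroup G} (g : G) (h : H ≤ K) :
    H.map (MulAut.conj g).toMonoidHom ≤ K.map (MulAut.conj g).toMonoidHom := Subgroup.map_mono h

theorem map_conj_eq_of_normal (H : Subgroup G) [H.Normal] (g : G) :
    H.map (MulAut.conj g).toMonoidHom = H := Subgroup.Normal.map_conj_eq H g

theorem map_conj_map_conj (H : Subgroup G) (g h : G) :
    (H.map (MulAut.conj g).toMonoidHom).map (MulAut.conj h).toMonoidHom =
      H.map (MulAut.conj (h * g)).toMonoidHom := by
  rw [Subgroup.map_map, map_mul]
  rfl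

theorem map_conj_one (H : Subgroup G) : H.map (MulAut.conj (1 : G)).toMonoidHom = H := by
  ext x
  simp

theorem map_conj_inj {H K : Subgroup G} {g : G}
    (h : H.map (MulAut.conj g).toMonoidHom = K.map (MulAut.conj g).toMonoidHom) : H = K :=
  Subgroup.map_injective (MulEquiv.injective (MulAut.conj g)) h

theorem card_map_conj (H : Subgroup G) (g : G) :
    Nat.card (H.map (MulAut.conj g).toMonoidHom) = Nat.card H :=
  Subgroup.card_map_of_injective (MulEquiv.injective (MulAut.conj g))

theorem le_normalizer_map_conj {H K : Subgroup G} (g : G) (h : H ≤ normalizer (K : Set G)) :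
    H.map (MulAut.conj g).toMonoidHom ≤
      normalizer ((K.map (MulAut.conj g).toMonoidHom : Subgroup G) : Set G) :=
  (Subgroup.map_mono h).trans (le_normalizer_map _)

theorem normal_sSup_of_conj {s : Set (Subgroup G)}
    (h : ∀ L ∈ s, ∀ g : G, L.map (MulAut.conj g).toMonoidHom ∈ s) : (sSup s).Normal := by
  refine ⟨fun x hx g => ?_⟩
  have : sSup s ≤ (sSup s).comap (MulAut.conj g).toMonoidHom := by
    refine sSup_le fun L hL => ?_
    rw [← Subgroup.map_le_iff_le_comap]
    exact le_sSup (h L hL g)
  exact this hx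

/-! ### Minimal normal subgroups normalise subnormal subgroups -/

theorem minimal_normal_le_normalizer_aux : ∀ (n : ℕ) (G : Type u) [Group G] [Finite G],
    Nat.card G ≤ n → ∀ N : Subgroup G, N.Normal →
      (∀ K : Subgroup G, K.Normal → K ≤ N → K = ⊥ ∨ K = N) →
      ∀ S : Subgroup G, S.IsSubnormal → N ≤ normalizer (S : Set G) := by
  intro n
  induction n with
  | zero =>
    intro G _ _ hn
    have := Nat.card_pos (α := G)
    omega
  | succ n ih =>
    intro G _ _ hn N hN hmin S hS
    haveI := hN
    rcases hS.lt_normal with rfl | ⟨M, hM, hSM, hMlt⟩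
    · exact le_normalizer_of_le le_top
    haveI := hM
    rcases hmin (N ⊓ M) inferInstance inf_le_left with h | h
    · -- `N` centralises `M`
      have hNM : ∀ x ∈ N, ∀ y ∈ M, x * y = y * x := fun x hx y hy =>
        Subgroup.commute_of_normal_of_disjoint N M hN hM (disjoint_iff.mpr h) x y hx hy
      rw [Subgroup.le_normalizer_iff]
      intro x hx y hy
      rw [hNM x hx y (hSM hy), mul_inv_cancel_right]
      exact hy
    · have hNle : N ≤ M := inf_eq_left.mp h
      let good : Set (Subgroup G) := {L | L ≤ M ∧ L ≠ ⊥ ∧ M ≤ normalizer (L : Set G) ∧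
        ∀ K : Subgroup G, K ≤ L → M ≤ normalizer (K : Set G) → K = ⊥ ∨ K = L}
      have hgood : ∀ L ∈ good, L ≤ normalizer (S : Set G) := by
        rintro L ⟨hLM, -, hML, hLmin⟩
        have hLn : (L.subgroupOf M).Normal := (normal_subgroupOf_iff_le_normalizer hLM).mpr hML
        have := ih M (by
          have := Subgroup.card_le_card_group M
          have hne : Nat.card M ≠ Nat.card G := fun he => hMlt.ne (Subgroup.eq_top_of_card_eq M he)
          omega) (L.subgroupOf M) hLn (fun K hK hKL => by
            have hKL' : K.map M.subtype ≤ L := by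
              refine (Subgroup.map_mono hKL).trans ?_
              rw [Subgroup.map_subgroupOf_eq_of_le hLM]
            have hKn : M ≤ normalizer ((K.map M.subtype : Subgroup G) : Set G) := by
              rw [Subgroup.le_normalizer_iff]
              rintro m hm _ ⟨k, hk, rfl⟩
              exact ⟨⟨m, hm⟩ * k * ⟨m, hm⟩⁻¹, hK.conj_mem k hk ⟨m, hm⟩, rfl⟩
            rcases hLmin _ hKL' hKn with h | h
            · exact Or.inl ((Subgroup.map_eq_bot_iff_of_injective _ M.subtype_injective).mp h)
            · refine Or.inr (Subgroup.map_injective M.subtype_injective ?_)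
              rw [h, Subgroup.map_subgroupOf_eq_of_le hLM])
          (S.subgroupOf M) (hS.subgroupOf)
        rw [Subgroup.le_normalizer_iff]
        intro x hx y hy
        exact (Subgroup.le_normalizer_iff.mp this) ⟨x, hLM hx⟩ hx ⟨y, hSM hy⟩ hy
      have hRn : (sSup good).Normal := by
        refine normal_sSup_of_conj fun L hL g => ?_
        obtain ⟨hLM, hLne, hML, hLmin⟩ := hL
        refine ⟨?_, ?_, ?_, fun K hK hKn => ?_⟩
        · exact (map_conj_mono g hLM).trans_eq (map_conj_eq_of_normal M g)
        · intro h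
          exact hLne ((Subgroup.map_eq_bot_iff_of_injective _ (MulEquiv.injective (MulAut.conj g))).mp h)
        · have h := le_normalizer_map_conj g hML
          rwa [map_conj_eq_of_normal M g] at h
        · have hK' := map_conj_mono g⁻¹ hK
          rw [map_conj_map_conj, inv_mul_cancel, map_conj_one] at hK'
          have hKn' := le_normalizer_map_conj g⁻¹ hKn
          rw [map_conj_eq_of_normal M g⁻¹] at hKn'
          rcases hLmin _ hK' hKn' with h | h
          · exact Or.inl
              ((Subgroup.map_eq_bot_iff_of_injective _ (MulEquiv.injective (MulAut.conj g⁻¹))).mp h)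
          · refine Or.inr ?_
            rw [← h, map_conj_map_conj, mul_inv_cancel, map_conj_one]
      by_cases hN1 : N = ⊥
      · exact hN1 ▸ bot_le
      -- a minimal `M`-invariant nontrivial subgroup of `N`
      obtain ⟨L, ⟨hLN, hLne, hML⟩, hLmin⟩ :=
        Set.Finite.exists_minimal (Set.toFinite {L : Subgroup G | L ≤ N ∧ L ≠ ⊥ ∧ M ≤ normalizer (L : Set G)})
          ⟨N, le_rfl, hN1, le_normalizer_of_normal⟩
      have hLgood : L ∈ good := by
        refine ⟨hLN.trans hNle, hLne, hML, fun K hK hKn => ?_⟩
        by_cases hK1 : K = ⊥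
        · exact Or.inl hK1
        · exact Or.inr (le_antisymm hK (hLmin ⟨hK.trans hLN, hK1, hKn⟩ hK))
      haveI := hRn
      rcases hmin (N ⊓ sSup good) inferInstance inf_le_left with h | h
      · exact absurd (le_bot_iff.mp (h ▸ le_inf hLN (le_sSup hLgood))) hLne
      · exact (inf_eq_left.mp h).trans (sSup_le hgood)

theorem minimal_normal_le_normalizer [Finite G] {N S : Subgroup G} [N.Normal]
    (hmin : ∀ K : Subgroup G, K.Normal → K ≤ N → K = ⊥ ∨ K = N) (hS : S.IsSubnormal) :
    N ≤ normalizer (S : Set G) :=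
  minimal_normal_le_normalizer_aux _ G le_rfl N inferInstance hmin S hS

theorem exists_minimal_normal [Finite G] [Nontrivial G] :
    ∃ N : Subgroup G, N.Normal ∧ N ≠ ⊥ ∧
      ∀ K : Subgroup G, K.Normal → K ≤ N → K = ⊥ ∨ K = N := by
  obtain ⟨N, ⟨hN, hN1⟩, hmin⟩ :=
    Set.Finite.exists_minimal (Set.toFinite {L : Subgroup G | L.Normal ∧ L ≠ ⊥})
      ⟨⊤, inferInstance, top_ne_bot⟩
  refine ⟨N, hN, hN1, fun K hK hKN => ?_⟩
  by_cases hK1 : K = ⊥
  · exact Or.inl hK1
  · exact Or.inr (le_antisymm hKN (hmin ⟨hK, hK1⟩ hKN))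

/-! ### Wielandt's join theorem -/

theorem isSubnormal_sup_aux : ∀ (n : ℕ) (G : Type u) [Group G] [Finite G],
    Nat.card G ≤ n → ∀ S T : Subgroup G, S.IsSubnormal → T.IsSubnormal → (S ⊔ T).IsSubnormal := by
  intro n
  induction n with
  | zero =>
    intro G _ _ hn
    have := Nat.card_pos (α := G)
    omega
  | succ n ih =>
    intro G _ _ hn S T hS hT
    rcases subsingleton_or_nontrivial G with h | h
    · exact IsSubnormal.of_subsingleton
    obtain ⟨N, hN, hN1, hmin⟩ := exists_minimal_normal (G := G)
    haveI := hN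
    have hlt : Nat.card (G ⧸ N) ≤ n := by
      have h1 := Subgroup.card_eq_card_quotient_mul_card_subgroup N
      have h2 : 2 ≤ Nat.card N := Subgroup.one_lt_card_iff_ne_bot N |>.mpr hN1
      have h3 : 0 < Nat.card (G ⧸ N) := Nat.card_pos
      nlinarith
    have hU : (S ⊔ T ⊔ N).IsSubnormal := by
      have h := (ih (G ⧸ N) hlt _ _ hS.quotient hT.quotient).comap (QuotientGroup.mk' N)
      rw [← Subgroup.map_sup, QuotientGroup.comap_map_mk'] at h
      rwa [sup_comm]
    by_cases htop : S ⊔ T ⊔ N = ⊤
    · refine Normal.isSubnormal ?_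
      rw [← normalizer_eq_top_iff, eq_top_iff, ← htop]
      refine sup_le le_normalizer ?_
      exact le_normalizer_sup (minimal_normal_le_normalizer hmin hS)
        (minimal_normal_le_normalizer hmin hT)
    · have hlt' : Nat.card ↥(S ⊔ T ⊔ N) ≤ n := by
        have := Subgroup.card_le_card_group (S ⊔ T ⊔ N)
        have hne : Nat.card ↥(S ⊔ T ⊔ N) ≠ Nat.card G :=
          fun he => htop (Subgroup.eq_top_of_card_eq _ he)
        omega
      have h := ih _ hlt' (S.subgroupOf (S ⊔ T ⊔ N)) (T.subgroupOf (S ⊔ T ⊔ N))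
        hS.subgroupOf hT.subgroupOf
      rw [← Subgroup.subgroupOf_sup (le_sup_left.trans le_sup_left)
        (le_sup_right.trans le_sup_left)] at h
      exact h.trans le_sup_left hU

/-- **Wielandt**: in a finite group the join of two subnormal subgroups is subnormal. -/
theorem isSubnormal_sup [Finite G] {S T : Subgroup G} (hS : S.IsSubnormal) (hT : T.IsSubnormal) :
    (S ⊔ T).IsSubnormal :=
  isSubnormal_sup_aux _ G le_rfl S T hS hT

theorem isSubnormal_sSup [Finite G] {s : Set (Subgroup G)} (h : ∀ S ∈ s, S.IsSubnormal) :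
    (sSup s).IsSubnormal := by
  induction s, Set.toFinite s using Set.Finite.induction_on with
  | empty => simp [IsSubnormal.bot]
  | insert _ _ ih =>
    rw [sSup_insert]
    exact isSubnormal_sup (h _ (Set.mem_insert _ _)) (ih fun S hS => h S (Set.mem_insert_of_mem _ hS))

theorem isSubnormal_map_conj {S : Subgroup G} (hS : S.IsSubnormal) (g : G) :
    (S.map (MulAut.conj g).toMonoidHom).IsSubnormal :=
  hS.map (MulAut.conj g).surjective

/-! ### A general principle for subnormal subgroups in radicals -/

/-- Let `P` be a conjugation-invariant class of subgroups containing the trivial one and closed under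
joins `M ⊔ N` with `M` normalising `N`. If `R` contains every normal `P`-subgroup then it contains
every subnormal `P`-subgroup. -/
theorem subnormal_le_radical [Finite G] (P : Subgroup G → Prop) (hbot : P ⊥)
    (hconj : ∀ (g : G) (M : Subgroup G), P M → P (M.map (MulAut.conj g).toMonoidHom))
    (hjoin : ∀ M N : Subgroup G, P M → P N → M ≤ normalizer (N : Set G) → P (M ⊔ N))
    (R : Subgroup G) (hR : ∀ M : Subgroup G, M.Normal → P M → M ≤ R)
    {H : Subgroup G} (hH : H.IsSubnormal) (hP : P H) : H ≤ R := by
  suffices ∀ M : Subgroup G, M ≤ H → H ≤ normalizer (M : Set G) → P M → M ≤ R from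
    this H le_rfl le_normalizer hP
  clear hP
  induction hH with
  | top => exact fun M _ hM hPM => hR M (normalizer_eq_top_iff.mp (top_le_iff.mp hM)) hPM
  | step H K hHK hK hN ih =>
    intro M hMH hHM hPM
    let s : Set (Subgroup G) := {L | L ≤ H ∧ H ≤ normalizer (L : Set G) ∧ P L}
    have hKH : K ≤ normalizer (H : Set G) := (normal_subgroupOf_iff_le_normalizer hHK).mp hN
    have hs : ∀ t ⊆ s, P (sSup t) := by
      intro t
      induction t, Set.toFinite t using Set.Finite.induction_on with
      | empty => intro _; simpa using hbot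
      | @insert a t _ _ iht =>
        intro hsub
        rw [sSup_insert]
        obtain ⟨ha, -, hPa⟩ := hsub (Set.mem_insert _ _)
        have ht : t ⊆ s := (Set.subset_insert _ _).trans hsub
        exact hjoin a (sSup t) hPa (iht ht)
          (ha.trans (le_normalizer_sSup fun L hL => (ht hL).2.1))
    have hsH : sSup s ≤ H := sSup_le fun L hL => hL.1
    have hsK : K ≤ normalizer ((sSup s : Subgroup G) : Set G) := by
      intro k hk
      refine mem_normalizer_of_conj_mem fun x hx => ?_
      have : sSup s ≤ (sSup s).comap (MulAut.conj k).toMonoidHom := by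
        refine sSup_le fun L hL => ?_
        rw [← Subgroup.map_le_iff_le_comap]
        have hHk : H.map (MulAut.conj k).toMonoidHom = H :=
          mem_normalizer_iff_map_conj_eq.mp (hKH hk)
        refine le_sSup ⟨(map_conj_mono k hL.1).trans_eq hHk, ?_, hconj k L hL.2.2⟩
        have h := le_normalizer_map_conj k hL.2.1
        rwa [hHk] at h
      exact this hx
    exact (le_sSup (a := M) (show M ∈ s from ⟨hMH, hHM, hPM⟩)).trans
      (ih _ (hsH.trans hHK) hsK (hs s le_rfl))

theorem card_sup_dvd_of_le_normalizer [Finite G] {M N : Subgroup G}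
    (h : M ≤ normalizer (N : Set G)) : Nat.card ↥(M ⊔ N) ∣ Nat.card M * Nat.card N := by
  haveI := normal_subgroupOf_sup_of_le_normalizer h
  haveI := normal_subgroupOf_of_le_normalizer h
  have h1 := Nat.card_congr (QuotientGroup.quotientInfEquivProdNormalizerQuotient M N h).toEquiv
  have h2 := Subgroup.card_eq_card_quotient_mul_card_subgroup (N.subgroupOf (M ⊔ N))
  rw [← h1, Nat.card_congr (subgroupOfEquivOfLe (le_sup_right : N ≤ M ⊔ N)).toEquiv] at h2
  rw [h2]
  exact Nat.mul_dvd_mul_right (Subgroup.card_quotient_dvd_card _) _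

theorem coprime_card_sup [Finite G] {p : ℕ} {M N : Subgroup G}
    (h : M ≤ normalizer (N : Set G)) (hM : (Nat.card M).Coprime p) (hN : (Nat.card N).Coprime p) :
    (Nat.card ↥(M ⊔ N)).Coprime p :=
  (hM.mul_left hN).coprime_dvd_left (card_sup_dvd_of_le_normalizer h)

theorem isSolvable_sup [Finite G] {M N : Subgroup G}
    (h : M ≤ normalizer (N : Set G)) (hM : Group.IsSolvable M) (hN : Group.IsSolvable N) :
    Group.IsSolvable ↥(M ⊔ N) := by
  haveI := normal_subgroupOf_sup_of_le_normalizer h
  haveI := normal_subgroupOf_of_le_normalizer h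
  rw [Group.isSolvable_iff_subgroup_quotient (N.subgroupOf (M ⊔ N))]
  exact ⟨Group.isSolvable_of_surjective
      (f := (subgroupOfEquivOfLe (le_sup_right : N ≤ M ⊔ N)).symm.toMonoidHom) (MulEquiv.surjective _),
    Group.isSolvable_of_surjective
      (f := (QuotientGroup.quotientInfEquivProdNormalizerQuotient M N h).toMonoidHom.comp
        (QuotientGroup.mk' _))
      ((QuotientGroup.quotientInfEquivProdNormalizerQuotient M N h).surjective.comp
        (QuotientGroup.mk'_surjective _))⟩

theorem isSolvable_map_conj {M : Subgroup G} (g : G) (hM : Group.IsSolvable M) :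
    Group.IsSolvable ↥(M.map (MulAut.conj g).toMonoidHom) :=
  Group.isSolvable_of_surjective
    (f := (Subgroup.equivMapOfInjective M _ (MulEquiv.injective (MulAut.conj g))).toMonoidHom)
    (MulEquiv.surjective _)

/-- A subnormal `p`-subgroup lies in `O_p(G)`. -/
theorem subnormal_le_pCore [Finite G] {p : ℕ} [Fact p.Prime] {H : Subgroup G}
    (hH : H.IsSubnormal) (hp : IsPGroup p H) : H ≤ Cfsg.pCore p G :=
  subnormal_le_radical (fun M => IsPGroup p M) IsPGroup.of_bot
    (fun _ _ hM => hM.map _) (fun _ _ hM hN h => hM.to_sup_of_normal_right' hN h)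
    _ (fun M hM hp => le_sSup (a := M) (show M.Normal ∧ _ from ⟨hM, hp⟩)) hH hp

/-- A subnormal subgroup of order prime to `p` lies in `O_{p'}(G)`. -/
theorem subnormal_le_pPrimeCore [Finite G] {p : ℕ} {H : Subgroup G}
    (hH : H.IsSubnormal) (hp : (Nat.card H).Coprime p) : H ≤ Cfsg.pPrimeCore p G :=
  subnormal_le_radical (fun M => (Nat.card M).Coprime p) (by simp)
    (fun g M hM => by rwa [card_map_conj]) (fun _ _ hM hN h => coprime_card_sup h hM hN)
    _ (fun M hM hp => le_sSup (a := M) (show M.Normal ∧ _ from ⟨hM, hp⟩)) hH hp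

/-- The solvable radical. -/
def solvRad (G : Type u) [Group G] : Subgroup G :=
  sSup {N : Subgroup G | N.Normal ∧ Group.IsSolvable N}

instance solvRad_normal : (solvRad G).Normal := Subgroup.sSup_normal _ (fun _ h => h.1)

theorem solvRad_isSolvable [Finite G] : Group.IsSolvable (solvRad G) := by
  suffices ∀ t : Set (Subgroup G), (∀ N ∈ t, N.Normal ∧ Group.IsSolvable N) →
      Group.IsSolvable ↥(sSup t) from this _ fun N hN => hN
  intro t
  induction t, Set.toFinite t using Set.Finite.induction_on with
  | empty => intro _; rw [sSup_empty]; infer_instance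
  | @insert a t _ _ iht =>
    intro h
    rw [sSup_insert]
    haveI : (sSup t).Normal :=
      Subgroup.sSup_normal t fun N hN => (h N (Set.mem_insert_of_mem _ hN)).1
    exact isSolvable_sup le_normalizer_of_normal (h a (Set.mem_insert _ _)).2
      (iht fun N hN => h N (Set.mem_insert_of_mem _ hN))

/-- A subnormal solvable subgroup lies in the solvable radical. -/
theorem subnormal_le_solvRad [Finite G] {H : Subgroup G}
    (hH : H.IsSubnormal) (hs : Group.IsSolvable H) : H ≤ solvRad G :=
  subnormal_le_radical (fun M => Group.IsSolvable M) inferInstance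
    (fun g _ hM => isSolvable_map_conj g hM) (fun _ _ hM hN h => isSolvable_sup h hM hN)
    _ (fun M hM hs => le_sSup (a := M) (show M.Normal ∧ _ from ⟨hM, hs⟩)) hH hs

theorem exists_normal_solvable_ge [Finite G] {H : Subgroup G}
    (hH : H.IsSubnormal) (hs : Group.IsSolvable H) :
    ∃ N : Subgroup G, N.Normal ∧ Group.IsSolvable N ∧ H ≤ N :=
  ⟨solvRad G, inferInstance, solvRad_isSolvable, subnormal_le_solvRad hH hs⟩

end Cfsg.Agent.Layer
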