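import Cfsg.Agent.Layer.Components
import Cfsg.Agent.Core.Fitting

/-!
The generalized Fitting subgroup.
-/

set_option autoImplicit false
set_option linter.style.haveILetI false

namespace Cfsg.Agent.Layer

open Subgroup Cfsg
open scoped commutatorElement Pointwise

universe u v

variable {G : Type u} [Group G] {H : Type v} [Group H]

instance generalizedFitting_characteristic : (generalizedFittingSubgroup G).Characteristic :=
  characteristic_iff_map_eq.mpr fun e => by
    rw [generalizedFittingSubgroup, Subgroup.map_sup, map_layer_equiv, Core.map_fittingSubgroup]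

theorem map_generalizedFitting_equiv (e : G ≃* H) :
    (generalizedFittingSubgroup G).map e.toMonoidHom = generalizedFittingSubgroup H := by
  rw [generalizedFittingSubgroup, Subgroup.map_sup, map_layer_equiv, Core.map_fittingSubgroup]
  rfl

theorem layer_le_generalizedFitting : layer G ≤ generalizedFittingSubgroup G := le_sup_left

theorem fitting_le_generalizedFitting : fittingSubgroup G ≤ generalizedFittingSubgroup G :=
  le_sup_right

/-- A subnormal nilpotent subgroup lies in the Fitting subgroup. -/
theorem subnormal_le_fitting [Finite G] {S : Subgroup G} (hS : S.IsSubnormal)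
    (hn : Group.IsNilpotent S) : S ≤ fittingSubgroup G := by
  haveI := hn
  have h1 : (⊤ : Subgroup S) = ⨆ p : Nat.Primes, pCore (p : ℕ) S := by
    rw [← Core.fittingSubgroup_eq_iSup_pCore, Core.fittingSubgroup_eq_top]
  calc S = (⊤ : Subgroup S).map S.subtype := by rw [← MonoidHom.range_eq_map, range_subtype]
    _ ≤ fittingSubgroup G := by
      rw [h1, Subgroup.map_iSup]
      refine iSup_le fun p => ?_
      haveI := Fact.mk p.2
      refine le_trans ?_ (Core.pCore_le_fittingSubgroup (G := G) p)
      exact subnormal_le_pCore ((Core.pCore_normal.isSubnormal).trans' hS)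
        (Core.pCore_isPGroup.map _)

theorem map_fitting_subnormal [Finite G] {S : Subgroup G} (hS : S.IsSubnormal) :
    (fittingSubgroup S).map S.subtype = fittingSubgroup G ⊓ S := by
  refine le_antisymm (le_inf ?_ (map_subtype_le _)) ?_
  · exact subnormal_le_fitting (Core.fittingSubgroup_normal.isSubnormal.trans' hS)
      (Core.isNilpotent_map Core.fittingSubgroup_isNilpotent _)
  · have hn : Group.IsNilpotent ((fittingSubgroup G).subgroupOf S) := by
      refine (Group.isNilpotent_congr
        (Subgroup.equivMapOfInjective _ S.subtype S.subtype_injective)).mpr ?_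
      rw [subgroupOf_map_subtype]
      exact Core.isNilpotent_mono Core.fittingSubgroup_isNilpotent inf_le_left
    have h := Subgroup.map_mono (f := S.subtype) (Core.le_fittingSubgroup hn)
    rwa [subgroupOf_map_subtype] at h

/-- A normal solvable subgroup centralising `F(G)` lies in `F(G)`. -/
theorem normal_solvable_le_fitting [Finite G] {N : Subgroup G} [N.Normal]
    (hs : Group.IsSolvable N) (hc : N ≤ centralizer (fittingSubgroup G : Set G)) :
    N ≤ fittingSubgroup G := by
  obtain ⟨n, hn⟩ := hs
  suffices ∀ k, k ≤ n → (derivedSeries N (n - k)).map N.subtype ≤ fittingSubgroup G by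
    have h := this n le_rfl
    rwa [Nat.sub_self, derivedSeries_zero, ← MonoidHom.range_eq_map, range_subtype] at h
  intro k
  induction k with
  | zero => intro _; rw [Nat.sub_zero, hn, Subgroup.map_bot]; exact bot_le
  | succ k ih =>
    intro hk
    have hk' := ih (Nat.le_of_succ_le hk)
    have he : n - k = n - (k + 1) + 1 := by omega
    rw [he, derivedSeries_succ, Subgroup.map_commutator] at hk'
    refine Core.le_fittingSubgroup (Core.isNilpotent_of_commutator_le_center hk' ?_)
    exact (map_subtype_le _).trans hc

/-- A subnormal solvable subgroup centralising `F(G)` lies in `F(G)`. -/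
theorem subnormal_solvable_le_fitting [Finite G] {S : Subgroup G} (hS : S.IsSubnormal)
    (hs : Group.IsSolvable S) (hc : S ≤ centralizer (fittingSubgroup G : Set G)) :
    S ≤ fittingSubgroup G := by
  haveI := solvRad_isSolvable (G := G)
  have hR : Group.IsSolvable ↥(solvRad G ⊓ centralizer (fittingSubgroup G : Set G)) :=
    Core.isSolvable_mono inferInstance inf_le_left
  exact (le_inf (subnormal_le_solvRad hS hs) hc).trans (normal_solvable_le_fitting hR inf_le_right)

/-- A finite non-solvable group with all proper normal subgroups solvable is perfect. -/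
theorem perfect_of_normal_solvable [Finite G] (hns : ¬ Group.IsSolvable G)
    (h : ∀ N : Subgroup G, N.Normal → N ≠ ⊤ → Group.IsSolvable N) : Group.IsPerfect G := by
  refine Group.isPerfect_def.mpr (by_contra fun hne => hns ?_)
  haveI := h (commutator G) inferInstance hne
  refine Group.isSolvable_iff_subgroup_quotient (commutator G) |>.mpr ⟨inferInstance, ?_⟩
  exact Group.isSolvable_of_comm fun a b =>
    (Subgroup.Normal.quotient_commutative_iff_commutator_le.mpr le_rfl).is_comm.comm a b

/-- The generalized Fitting subgroup contains its centralizer. -/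
theorem centralizer_generalizedFitting_le [Finite G] :
    centralizer (generalizedFittingSubgroup G : Set G) ≤ generalizedFittingSubgroup G := by
  set C := centralizer (generalizedFittingSubgroup G : Set G) with hC
  haveI : C.Normal := by rw [hC]; infer_instance
  have hCF : C ≤ centralizer (fittingSubgroup G : Set G) :=
    centralizer_le (show (fittingSubgroup G : Set G) ⊆ generalizedFittingSubgroup G from
      fitting_le_generalizedFitting)
  by_cases hs : Group.IsSolvable C
  · exact (normal_solvable_le_fitting hs hCF).trans fitting_le_generalizedFitting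
  exfalso
  obtain ⟨K, ⟨hKC, hKsn, hKns⟩, hKmin⟩ := Set.Finite.exists_minimal
    (Set.toFinite {K : Subgroup G | K ≤ C ∧ K.IsSubnormal ∧ ¬ Group.IsSolvable K})
    ⟨C, le_rfl, Subgroup.Normal.isSubnormal inferInstance, hs⟩
  have hprop : ∀ N : Subgroup K, N.Normal → N ≠ ⊤ → Group.IsSolvable N := by
    intro N hN hne
    by_contra hN'
    refine hne (eq_top_iff.mpr fun x _ => ?_)
    have hle : K ≤ N.map K.subtype := hKmin
      ⟨(map_subtype_le N).trans hKC, hN.isSubnormal.trans' hKsn, fun h => hN' ?_⟩ (map_subtype_le N)
    · obtain ⟨y, hy, hyx⟩ := hle x.2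
      rwa [← Subtype.ext hyx]
    · exact Group.isSolvable_of_surjective
        (f := (Subgroup.equivMapOfInjective N _ K.subtype_injective).symm.toMonoidHom)
        (MulEquiv.surjective _)
  haveI : Nontrivial K := by
    rcases subsingleton_or_nontrivial K with h | h
    · exact (hKns inferInstance).elim
    · exact h
  have hKF : K ≤ centralizer (fittingSubgroup G : Set G) := hKC.trans hCF
  have hqs : IsQuasisimple K := by
    refine isQuasisimple_of_normal_cases (perfect_of_normal_solvable hKns hprop) fun N hN => ?_
    rcases eq_or_ne N ⊤ with h | h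
    · exact Or.inl h
    refine Or.inr fun x hx => mem_center_iff.mpr fun y => Subtype.ext ?_
    have hsn := hN.isSubnormal.trans' hKsn
    have hF : N.map K.subtype ≤ fittingSubgroup G := by
      refine subnormal_solvable_le_fitting hsn ?_ ((map_subtype_le N).trans hKF)
      exact Core.isSolvable_map (hprop N hN h) _
    exact (mem_centralizer_iff.mp (hKF y.2) _ (hF ⟨x, hx, rfl⟩)).symm
  have hKE : K ≤ generalizedFittingSubgroup G :=
    (component_le_layer (L := K) ⟨hKsn, hqs⟩).trans layer_le_generalizedFitting
  exact qs_subgroup_not_abelian hqs (commutator_eq_bot_iff_le_centralizer.mpr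
    (hKC.trans (centralizer_le hKE)))

theorem fitting_le_centralizer_layer [Finite G] :
    fittingSubgroup G ≤ centralizer (layer G : Set G) :=
  le_centralizer_iff.mp layer_le_centralizer_fitting

theorem coe_generalizedFitting [Finite G] :
    (generalizedFittingSubgroup G : Set G) = (layer G : Set G) * (fittingSubgroup G : Set G) :=
  Subgroup.coe_mul_of_left_le_normalizer_right _ _
    (layer_le_centralizer_fitting.trans (centralizer_le_normalizer _))

/-- `Z(E(G)) = F(G) ⊓ E(G)`. -/
theorem center_layer_eq [Finite G] :
    layer G ⊓ centralizer (layer G : Set G) = fittingSubgroup G ⊓ layer G := by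
  refine le_antisymm (le_inf ?_ inf_le_left) (le_inf inf_le_right (inf_le_left.trans fitting_le_centralizer_layer))
  haveI : IsMulCommutative ↥(layer G ⊓ centralizer (layer G : Set G)) :=
    le_centralizer_iff_isMulCommutative.mp
      (inf_le_right.trans (centralizer_le inf_le_left))
  exact Core.le_fittingSubgroup_of_isMulCommutative

/-- A subnormal subgroup of `F*(G)` is the product of the components it contains and its
intersection with `F(G)`. -/
theorem eq_components_sup_fitting [Finite G] {S : Subgroup G}
    (hS : S ≤ generalizedFittingSubgroup G) (hsn : S.IsSubnormal) :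
    S = sSup {L : Subgroup G | IsComponent L ∧ L ≤ S} ⊔ (fittingSubgroup G ⊓ S) := by
  refine le_antisymm ?_ (sup_le (sSup_le fun L hL => hL.2) inf_le_right)
  intro x hx
  have hx' : x ∈ (generalizedFittingSubgroup G : Set G) := hS hx
  rw [coe_generalizedFitting, Set.mem_mul] at hx'
  obtain ⟨e, he, f, hf, rfl⟩ := hx'
  set s₁ := {L : Subgroup G | IsComponent L ∧ L ≤ S} with hs₁
  set s₂ := {L : Subgroup G | IsComponent L ∧ ¬ L ≤ S} with hs₂
  have hsplit : layer G ≤ sSup s₁ ⊔ sSup s₂ := sSup_le fun L hL => by
    by_cases h : L ≤ S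
    · exact le_sup_of_le_left (le_sSup ⟨hL, h⟩)
    · exact le_sup_of_le_right (le_sSup ⟨hL, h⟩)
  have h12 : sSup s₂ ≤ normalizer ((sSup s₁ : Subgroup G) : Set G) :=
    sSup_le fun L hL => le_normalizer_sSup fun K hK =>
      component_le_normalizer_component hL.1 hK.1
  have he' : e ∈ ((sSup s₁ ⊔ sSup s₂ : Subgroup G) : Set G) := hsplit he
  rw [sup_comm, Subgroup.coe_mul_of_left_le_normalizer_right _ _ h12, Set.mem_mul] at he'
  obtain ⟨e₂, he₂, e₁, he₁, rfl⟩ := he'
  have hcomm12 : e₂ * e₁ = e₁ * e₂ := by
    refine commute_of_commutator_eq_bot ?_ he₂ he₁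
    exact commutator_sSup_eq_bot fun K hK => commutator_eq_bot_symm <|
      commutator_sSup_eq_bot fun L hL => components_commute hK.1 hL.1 fun h => hL.2 (h ▸ hK.2)
  have he₁S : e₁ ∈ S := (sSup_le fun L hL => hL.2 : sSup s₁ ≤ S) he₁
  have hy : e₂ * f ∈ S := by
    have h := S.mul_mem (S.inv_mem he₁S) hx
    rwa [hcomm12, mul_assoc, inv_mul_cancel_left] at h
  have he₂E : e₂ ∈ layer G := (sSup_le fun L hL => component_le_layer hL.1 : sSup s₂ ≤ layer G) he₂
  have hcS : ∀ y ∈ S, ∀ z ∈ sSup s₂, y * z = z * y := fun y hy z hz =>
    commute_of_commutator_eq_bot (commutator_sSup_eq_bot fun L hL => commutator_eq_bot_symm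
      ((component_le_or_commute hL.1 hsn).resolve_left hL.2)) hy hz
  have he₂c : e₂ ∈ centralizer (layer G : Set G) := by
    rw [mem_centralizer_iff]
    intro z hz
    have hz' : z ∈ ((sSup s₁ ⊔ sSup s₂ : Subgroup G) : Set G) := hsplit hz
    rw [sup_comm, Subgroup.coe_mul_of_left_le_normalizer_right _ _ h12, Set.mem_mul] at hz'
    obtain ⟨z₂, hz₂, z₁, hz₁, rfl⟩ := hz'
    have h1 : e₂ * z₁ = z₁ * e₂ :=
      (hcS z₁ ((sSup_le fun L hL => hL.2 : sSup s₁ ≤ S) hz₁) e₂ he₂).symm
    have h2 : f * z₂ = z₂ * f := (mem_centralizer_iff.mp (fitting_le_centralizer_layer hf) z₂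
      ((sSup_le fun L hL => component_le_layer hL.1 : sSup s₂ ≤ layer G) hz₂)).symm
    have h3 : e₂ * z₂ = z₂ * e₂ := by
      have h := hcS _ hy z₂ hz₂
      rw [mul_assoc e₂ f z₂, h2, ← mul_assoc, ← mul_assoc] at h
      exact mul_right_cancel h
    rw [← mul_assoc e₂, h3, mul_assoc, mul_assoc, h1]
  have he₂F : e₂ ∈ fittingSubgroup G :=
    (inf_le_left : fittingSubgroup G ⊓ layer G ≤ _) (center_layer_eq.le ⟨he₂E, he₂c⟩)
  rw [hcomm12, mul_assoc]
  exact mul_mem (mem_sup_left he₁) (mem_sup_right ⟨mul_mem he₂F hf, hy⟩)

theorem map_generalizedFitting_subnormal_le [Finite G] {S : Subgroup G} (hS : S.IsSubnormal) :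
    (generalizedFittingSubgroup S).map S.subtype ≤ generalizedFittingSubgroup G := by
  rw [generalizedFittingSubgroup, Subgroup.map_sup, map_fitting_subnormal hS]
  exact sup_le_sup (map_layer_subnormal_le hS) inf_le_left

theorem sup_eq_top_of_le_generalizedFitting [Finite G] {S : Subgroup G}
    (hS : S ≤ generalizedFittingSubgroup G) (hsn : S.IsSubnormal) :
    fittingSubgroup S ⊔ layer S = ⊤ := by
  apply Subgroup.map_injective S.subtype_injective
  rw [Subgroup.map_sup, map_fitting_subnormal hsn, map_layer_subnormal hsn, sup_comm,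
    ← eq_components_sup_fitting hS hsn, ← MonoidHom.range_eq_map, range_subtype]

/-- `F*(B) = F*(G) ⊓ B` for normal `B`. -/
theorem map_generalizedFitting_normal [Finite G] (B : Subgroup G) [hB : B.Normal] :
    (generalizedFittingSubgroup B).map B.subtype = generalizedFittingSubgroup G ⊓ B := by
  refine le_antisymm (le_inf (map_generalizedFitting_subnormal_le hB.isSubnormal) (map_subtype_le _)) ?_
  have hsn : (generalizedFittingSubgroup G ⊓ B).IsSubnormal :=
    Subgroup.Normal.isSubnormal inferInstance
  have h := eq_components_sup_fitting inf_le_left hsn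
  rw [show (generalizedFittingSubgroup B).map B.subtype = sSup {L : Subgroup G | IsComponent L ∧ L ≤ B} ⊔
      (fittingSubgroup G ⊓ B) by
    rw [generalizedFittingSubgroup, Subgroup.map_sup, map_fitting_subnormal hB.isSubnormal,
      map_layer_subnormal hB.isSubnormal]]
  refine h.trans_le ?_
  exact sup_le_sup (sSup_le_sSup fun L hL => ⟨hL.1, hL.2.trans inf_le_right⟩)
    (inf_le_inf_left _ inf_le_right)

theorem layer_eq_bot_iff_centralizer_fitting [Finite G] :
    layer G = ⊥ ↔ centralizer (fittingSubgroup G : Set G) ≤ fittingSubgroup G := by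
  constructor
  · intro h
    have h' := centralizer_generalizedFitting_le (G := G)
    rwa [generalizedFittingSubgroup, h, bot_sup_eq] at h'
  · intro h
    refine layer_eq_bot_iff.mpr fun L hL => qs_not_isSolvable hL.2 ?_
    have hle : L ≤ fittingSubgroup G :=
      ((component_le_layer hL).trans layer_le_centralizer_fitting).trans h
    exact Core.isSolvable_mono inferInstance hle

/-- For subnormal `S`, components of `G` are split. -/
theorem layer_of_subgroup_containing [Finite G] {K : Subgroup G} (h : layer G ≤ K) :
    layer G ≤ (layer ↥K).map K.subtype := by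
  refine sSup_le fun L hL => ?_
  have hLK := (component_le_layer hL).trans h
  rw [← map_subgroupOf_eq_of_le hLK]
  exact Subgroup.map_mono (component_le_layer (isComponent_subgroupOf hL hLK))

theorem generalizedFitting_ne_bot [Finite G] [Nontrivial G] : generalizedFittingSubgroup G ≠ ⊥ := by
  intro h
  have h' := centralizer_generalizedFitting_le (G := G)
  rw [h] at h'
  obtain ⟨x, hx⟩ := exists_ne (1 : G)
  exact hx (mem_bot.mp (h' (mem_centralizer_iff.mpr fun y hy => by simp [mem_bot.mp hy])))

end Cfsg.Agent.Layer
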