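import Cfsg.Agent.Layer.LBalance

/-!
Intrinsic description of `p`-components: a `p`-component is the same thing as a subnormal subgroup
which is generated by its `p`-elements and is quasisimple modulo its `p'`-core.
-/

set_option autoImplicit false
set_option linter.style.haveILetI false

namespace Cfsg.Agent.Layer

open Subgroup Cfsg
open scoped commutatorElement

universe u v

variable {G : Type u} [Group G] {H : Type v} [Group H] {p : ℕ}

/-- Generated by `p`-elements and quasisimple modulo the `p'`-core. -/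
def IsPCompGroup (p : ℕ) (K : Type u) [Group K] : Prop :=
  pElemClosure p (⊤ : Subgroup K) = ⊤ ∧ IsQuasisimple (K ⧸ pPrimeCore p K)

theorem map_pElemClosure_top (K : Subgroup G) :
    (pElemClosure p (⊤ : Subgroup ↥K)).map K.subtype = pElemClosure p K := by
  rw [pElemClosure, pElemClosure, MonoidHom.map_closure]
  congr 1
  ext x
  constructor
  · rintro ⟨y, ⟨-, k, hk⟩, rfl⟩
    exact ⟨y.2, k, by simpa using congrArg Subtype.val hk⟩
  · rintro ⟨hx, k, hk⟩
    exact ⟨⟨x, hx⟩, ⟨mem_top _, k, Subtype.ext (by simpa using hk)⟩, rfl⟩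

theorem pElemClosure_top_eq_top_iff (K : Subgroup G) :
    pElemClosure p (⊤ : Subgroup ↥K) = ⊤ ↔ pElemClosure p K = K := by
  rw [← map_pElemClosure_top K]
  constructor
  · intro h
    rw [h, ← MonoidHom.range_eq_map, range_subtype]
  · intro h
    apply Subgroup.map_injective K.subtype_injective
    rw [h, ← MonoidHom.range_eq_map, range_subtype]

theorem map_pElemClosure_le (f : G →* H) (S : Subgroup G) :
    (pElemClosure p S).map f ≤ pElemClosure p (S.map f) := by
  rw [map_le_iff_le_comap]
  refine (closure_le _).mpr ?_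
  rintro x ⟨hx, k, hk⟩
  exact pElem_mem_pElemClosure (mem_map_of_mem f hx) (k := k) (by rw [← map_pow, hk, map_one])

theorem pElemClosure_pElemClosure (S : Subgroup G) :
    pElemClosure p (pElemClosure p S) = pElemClosure p S :=
  le_antisymm (pElemClosure_le _)
    ((closure_le _).mpr fun _ hx => subset_closure ⟨subset_closure hx, hx.2⟩)

/-- If `Z` is abelian and centralises `A` then `A ⊔ Z` and `A` have the same derived subgroup. -/
theorem commutator_sup_le {A Z : Subgroup G} (hZA : Z ≤ centralizer (A : Set G))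
    (hZ : Z ≤ centralizer (Z : Set G)) : ⁅A ⊔ Z, A ⊔ Z⁆ ≤ ⁅A, A⁆ := by
  have hn : Z ≤ normalizer (A : Set G) := hZA.trans (centralizer_le_normalizer _)
  rw [commutator_le]
  intro x hx y hy
  have hx' : x ∈ ((A ⊔ Z : Subgroup G) : Set G) := hx
  have hy' : y ∈ ((A ⊔ Z : Subgroup G) : Set G) := hy
  rw [coe_mul_of_right_le_normalizer_left _ _ hn, Set.mem_mul] at hx' hy'
  obtain ⟨a, ha, z, hz, rfl⟩ := hx'
  obtain ⟨b, hb, w, hw, rfl⟩ := hy'
  have c1 : Commute z b := (mem_centralizer_iff.mp (hZA hz) b hb).symm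
  have c2 : Commute w a := (mem_centralizer_iff.mp (hZA hw) a ha).symm
  have c3 : Commute z w := (mem_centralizer_iff.mp (hZ hz) w hw).symm
  have : ⁅a * z, b * w⁆ = ⁅a, b⁆ := by
    rw [commutatorElement_mul_left_eq_conj_mul, Commute.commutator_eq (c1.mul_right c3), mul_one,
      mul_inv_cancel, one_mul, commutatorElement_mul_right_eq_mul_conj,
      Commute.commutator_eq c2.symm]
    group
  rw [this]
  exact commutator_mem_commutator ha hb

/-- A perfect subgroup of `A ⊔ Z` lies in `A` when `Z` is abelian and centralises `A`. -/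
theorem perfect_le_of_le_sup {J A Z : Subgroup G} (hJ : ⁅J, J⁆ = J)
    (hZA : Z ≤ centralizer (A : Set G)) (hZ : Z ≤ centralizer (Z : Set G)) (h : J ≤ A ⊔ Z) :
    J ≤ A := by
  rw [← hJ]
  exact (commutator_mono h h).trans ((commutator_sup_le hZA hZ).trans (commutator_le_self A))

/-- A perfect central extension of a quasisimple group is quasisimple. -/
theorem isQuasisimple_of_central_ker [Group.IsPerfect G] {f : G →* H} (hf : Function.Surjective f)
    (hker : f.ker ≤ center G) (hH : IsQuasisimple H) : IsQuasisimple G := by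
  haveI := qs_nontrivial hH
  haveI : Nontrivial G := hf.nontrivial
  refine isQuasisimple_of_normal_cases inferInstance fun N hN => ?_
  rcases qs_normal_cases hH (hN.map f hf) with ht | hc
  · left
    have h1 : (⊤ : Subgroup G) ≤ N ⊔ f.ker := by
      rw [← comap_map_eq, ht, comap_top]
    refine top_le_iff.mp (perfect_le_of_le_sup ?_ ?_ ?_ h1)
    · rw [← _root_.commutator_def, Group.IsPerfect.commutator_eq_top]
    · exact hker.trans (center_le_centralizer _)
    · exact hker.trans (center_le_centralizer _)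
  · right
    have h2 : ⁅N, (⊤ : Subgroup G)⁆ ≤ center G := by
      refine le_trans (commutator_le.mpr fun x hx y _ => ?_) hker
      rw [MonoidHom.mem_ker, map_commutatorElement, commutatorElement_eq_one_iff_mul_comm]
      exact (mem_center_iff.mp (hc (mem_map_of_mem f hx)) (f y)).symm
    have h3 : ⁅⁅N, (⊤ : Subgroup G)⁆, (⊤ : Subgroup G)⁆ = ⊥ := by
      rw [commutator_eq_bot_iff_le_centralizer]
      exact h2.trans (center_le_centralizer _)
    have h4 := commutator_commutator_eq_bot_of_rotate (H₁ := (⊤ : Subgroup G)) (H₂ := (⊤ : Subgroup G))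
      (H₃ := N) (by rwa [Subgroup.commutator_comm (⊤ : Subgroup G) N]) h3
    rw [show ⁅(⊤ : Subgroup G), (⊤ : Subgroup G)⁆ = ⊤ by
      rw [← _root_.commutator_def, Group.IsPerfect.commutator_eq_top], Subgroup.commutator_comm,
      commutator_eq_bot_iff_le_centralizer] at h4
    exact h4.trans (by rw [coe_top, centralizer_univ])

theorem isPCompGroup_perfect [Finite G] [Fact p.Prime] (h : IsPCompGroup p G) :
    Group.IsPerfect G := by
  refine ⟨top_le_iff.mp ?_⟩
  haveI := h.2.1
  have hsup : (commutator G) ⊔ pPrimeCore p G = ⊤ := by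
    rw [_root_.commutator_def, ← QuotientGroup.ker_mk' (pPrimeCore p G), ← comap_map_eq, map_commutator,
      Subgroup.map_top_of_surjective _ (QuotientGroup.mk'_surjective _),
      ← _root_.commutator_def, Group.IsPerfect.commutator_eq_top, comap_top]
  exact h.1.symm.le.trans (pElemClosure_le_of_cover (N := pPrimeCore p G)
    Core.coprime_card_pPrimeCore (Subgroup.Normal.isSubnormal inferInstance) hsup.symm.le)

theorem isPCompGroup_ne_pPrimeCore [Finite G] [Fact p.Prime] (h : IsPCompGroup p G) :
    pPrimeCore p G ≠ ⊤ := fun ht => by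
  haveI := qs_nontrivial h.2
  exact QuotientGroup.nontrivial_iff.mp inferInstance ht

/-- A nontrivial homomorphic image of such a group is again one. -/
theorem isPCompGroup_of_surjective [Finite G] [Fact p.Prime] {G' : Type u} [Group G'] [Nontrivial G']
    (h : IsPCompGroup p G) {f : G →* G'} (hf : Function.Surjective f) : IsPCompGroup p G' := by
  haveI : Finite G' := Finite.of_surjective f hf
  have h1 : pElemClosure p (⊤ : Subgroup G') = ⊤ := by
    have := map_pElemClosure_le (p := p) f ⊤
    rw [h.1, Subgroup.map_top_of_surjective f hf] at this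
    exact top_le_iff.mp this
  have hne : pPrimeCore p G' ≠ ⊤ := by
    intro ht
    have h2 : pElemClosure p (⊤ : Subgroup G') ≤ ⊥ := by
      refine (closure_le _).mpr ?_
      rintro x ⟨-, k, hk⟩
      refine mem_bot.mpr (orderOf_eq_one_iff.mp ?_)
      refine Nat.eq_one_of_dvd_coprimes (((Core.coprime_card_pPrimeCore (p := p) (G := G'))).pow_right k)
        (orderOf_dvd_natCard _ ?_) (orderOf_dvd_of_pow_eq_one hk)
      rw [ht]
      exact mem_top x
    rw [h1] at h2
    exact top_ne_bot (le_bot_iff.mp h2)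
  haveI : Nontrivial (G' ⧸ pPrimeCore p G') := QuotientGroup.nontrivial_iff.mpr hne
  refine ⟨h1, qs_of_surjective h.2 (QuotientGroup.map (pPrimeCore p G) (pPrimeCore p G') f
    (map_le_iff_le_comap.mp (Core.map_pPrimeCore_le_of_surjective hf))) ?_⟩
  intro y
  obtain ⟨y, rfl⟩ := QuotientGroup.mk'_surjective _ y
  obtain ⟨x, rfl⟩ := hf y
  exact ⟨QuotientGroup.mk' _ x, rfl⟩

theorem isPCompGroup_congr [Finite G] [Fact p.Prime] {G' : Type u} [Group G'] (e : G ≃* G')
    (h : IsPCompGroup p G) : IsPCompGroup p G' := by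
  haveI := qs_nontrivial h.2
  haveI : Nontrivial G := (QuotientGroup.mk'_surjective (pPrimeCore p G)).nontrivial
  haveI : Nontrivial G' := e.symm.surjective.nontrivial
  exact isPCompGroup_of_surjective (f := e.toMonoidHom) h e.surjective

/-- Such a group is quasisimple as soon as its `p'`-core is central. -/
theorem isQuasisimple_of_pPrimeCore_central [Finite G] [Fact p.Prime] (h : IsPCompGroup p G)
    (hc : pPrimeCore p G ≤ center G) : IsQuasisimple G := by
  haveI := isPCompGroup_perfect h
  exact isQuasisimple_of_central_ker (QuotientGroup.mk'_surjective _)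
    (by rw [QuotientGroup.ker_mk']; exact hc) h.2

theorem pPrimeCore_central_of_isQuasisimple [Finite G] [Fact p.Prime] (h : IsPCompGroup p G)
    (hq : IsQuasisimple G) : pPrimeCore p G ≤ center G :=
  (qs_normal_cases hq inferInstance).resolve_left (isPCompGroup_ne_pPrimeCore h)

theorem isQuasisimple_of_commutator_eq_bot [Finite G] [Fact p.Prime] {K : Subgroup G}
    (h : IsPCompGroup p ↥K) (hc : ⁅K, (pPrimeCore p ↥K).map K.subtype⁆ = ⊥) : IsQuasisimple ↥K := by
  refine isQuasisimple_of_pPrimeCore_central h fun x hx => mem_center_iff.mpr fun y => Subtype.ext ?_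
  exact commute_of_commutator_eq_bot hc y.2 (mem_map_of_mem K.subtype hx)

/-! ### `p`-components are subnormal subgroups of this kind -/

theorem isPComponent_iff_intrinsic [Finite G] [Fact p.Prime] {K : Subgroup G} :
    IsPComponent p K ↔ K.IsSubnormal ∧ IsPCompGroup p ↥K := by
  constructor
  · intro hK
    refine ⟨hK.1, (pElemClosure_top_eq_top_iff K).mpr ?_, pComponent_quotient_quasisimple hK⟩
    rw [← eq_pComponentOver hK, pComponentOver, pElemClosure_pElemClosure]
  · rintro ⟨hsn, h1, h2⟩
    rw [pElemClosure_top_eq_top_iff] at h1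
    refine ⟨hsn, ⟨hsn.quotient, ?_⟩, fun S hS hle hmap => le_antisymm hle ?_⟩
    · set f := QuotientGroup.mk' (pPrimeCore p G) with hf
      have hker : (f.subgroupMap K).ker = pPrimeCore p ↥K := by
        apply Subgroup.map_injective K.subtype_injective
        rw [map_pPrimeCore_eq_inf hsn]
        ext x
        constructor
        · rintro ⟨y, hy, rfl⟩
          refine ⟨y.2, ?_⟩
          have : f (y : G) = 1 := congrArg Subtype.val hy
          rwa [hf, ← MonoidHom.mem_ker, QuotientGroup.ker_mk'] at this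
        · rintro ⟨hx, hx'⟩
          refine ⟨⟨x, hx⟩, Subtype.ext ?_, rfl⟩
          show f x = 1
          rw [← MonoidHom.mem_ker, hf, QuotientGroup.ker_mk']
          exact hx'
      exact isQuasisimple_congr ((QuotientGroup.quotientMulEquivOfEq hker.symm).trans
        (QuotientGroup.quotientKerEquivOfSurjective _ (f.subgroupMap_surjective K))) h2
    · refine h1.symm.le.trans (pElemClosure_le_of_cover (N := pPrimeCore p G)
        Core.coprime_card_pPrimeCore hS ?_)
      have := le_comap_map (QuotientGroup.mk' (pPrimeCore p G)) K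
      rwa [← hmap, comap_map_eq, QuotientGroup.ker_mk'] at this

theorem isPComponent_subgroupOf_iff [Finite G] [Fact p.Prime] {K C : Subgroup G} (hKC : K ≤ C) :
    IsPComponent p (K.subgroupOf C) ↔ (K.subgroupOf C).IsSubnormal ∧ IsPCompGroup p ↥K := by
  rw [isPComponent_iff_intrinsic]
  exact and_congr_right fun _ => ⟨fun h => isPCompGroup_congr (subgroupOfEquivOfLe hKC) h,
    fun h => isPCompGroup_congr (subgroupOfEquivOfLe hKC).symm h⟩

theorem isPComponent_map_subtype_iff [Finite G] [Fact p.Prime] {C : Subgroup G} (hC : C.IsSubnormal)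
    {K : Subgroup ↥C} : IsPComponent p (K.map C.subtype) ↔ IsPComponent p K := by
  rw [isPComponent_iff_intrinsic, isPComponent_iff_intrinsic]
  refine and_congr ?_ ⟨fun h => isPCompGroup_congr (equivMapOfInjective K _ C.subtype_injective).symm h,
    fun h => isPCompGroup_congr (equivMapOfInjective K _ C.subtype_injective) h⟩
  refine ⟨fun h => ?_, fun h => h.trans' hC⟩
  have := h.comap C.subtype
  rwa [comap_map_eq_self_of_injective C.subtype_injective] at this

theorem isPCompGroup_map [Finite G] [Fact p.Prime] {G' : Type u} [Group G'] (f : G →* G')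
    {J : Subgroup G} (hJ : IsPCompGroup p ↥J) (hne : J.map f ≠ ⊥) : IsPCompGroup p ↥(J.map f) := by
  haveI := (nontrivial_iff_ne_bot _).mpr hne
  exact isPCompGroup_of_surjective hJ (f.subgroupMap_surjective J)

theorem pCompGroup_subgroup_perfect [Finite G] [Fact p.Prime] {J : Subgroup G}
    (hJ : IsPCompGroup p ↥J) : ⁅J, J⁆ = J :=
  Subgroup.isPerfect_iff.mp (isPCompGroup_perfect hJ)

/-- A `p'`-quotient of such a group is trivial. -/
theorem eq_bot_of_pCompGroup_coprime [Finite G] [Fact p.Prime] {J : Subgroup G}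
    (hJ : IsPCompGroup p ↥J) {G' : Type v} [Group G'] {f : G →* G'} {N : Subgroup G'}
    (hle : J.map f ≤ N) (hN : (Nat.card N).Coprime p) : J.map f = ⊥ := by
  rw [← le_bot_iff, ← (pElemClosure_top_eq_top_iff J).mp hJ.1, map_le_iff_le_comap]
  refine (closure_le _).mpr ?_
  rintro x ⟨hx, k, hk⟩
  refine mem_bot.mpr (orderOf_eq_one_iff.mp ?_)
  exact Nat.eq_one_of_dvd_coprimes (hN.pow_right k) (orderOf_dvd_natCard _ (hle (mem_map_of_mem f hx)))
    (orderOf_dvd_of_pow_eq_one (by rw [← map_pow, hk, map_one]))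

/-- Lifting through a surjection with central `p`-kernel. -/
theorem exists_pCompGroup_lift [Finite G] [hp : Fact p.Prime] {G' : Type u} [Group G'] {f : G →* G'}
    (hf : Function.Surjective f) (hker : f.ker ≤ center G) (hkp : IsPGroup p ↥f.ker)
    {T : Subgroup G'} (hT : T.IsSubnormal) (hTp : IsPCompGroup p ↥T) :
    ∃ K : Subgroup G, K.IsSubnormal ∧ IsPCompGroup p ↥K ∧ K.map f = T ∧ T.comap f = K ⊔ f.ker := by
  haveI : Finite G' := Finite.of_surjective f hf
  set T' := T.comap f with hT'
  set K := ⁅T', T'⁆ with hK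
  have hmapT' : T'.map f = T := map_comap_eq_self_of_surjective hf T
  have hTperf := pCompGroup_subgroup_perfect hTp
  have hmap : K.map f = T := by rw [hK, map_commutator, hmapT', hTperf]
  have hsup : T' = K ⊔ f.ker := by rw [← comap_map_eq, hmap]
  have hKc : f.ker ≤ centralizer (K : Set G) := hker.trans (center_le_centralizer _)
  have hkk : f.ker ≤ centralizer (f.ker : Set G) := hker.trans (center_le_centralizer _)
  have hKperf : ⁅K, K⁆ = K := le_antisymm (commutator_le_self K) (by
    calc K = ⁅K ⊔ f.ker, K ⊔ f.ker⁆ := by rw [← hsup]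
      _ ≤ ⁅K, K⁆ := commutator_sup_le hKc hkk)
  have hsn : K.IsSubnormal := by
    refine Subgroup.IsSubnormal.step _ _ (commutator_le_self T') (hT.comap f) ?_
    exact (normal_subgroupOf_iff_le_normalizer (commutator_le_self T')).mpr
      (normalizer_commutator_ge_left T' T')
  have hpE : pElemClosure p K = K := by
    refine le_antisymm (pElemClosure_le K) ?_
    refine perfect_le_of_le_sup hKperf (hker.trans (center_le_centralizer _)) hkk ?_
    refine (show K ≤ T' from commutator_le_self T').trans ?_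
    rw [← comap_map_eq, hT']
    refine comap_mono ((pElemClosure_top_eq_top_iff T).mp hTp.1 |>.symm.le.trans ((closure_le _).mpr ?_))
    rintro y ⟨hy, k, hk⟩
    obtain ⟨x, hx, rfl⟩ := hmap.symm.le hy
    have hxk : x ^ p ^ k ∈ f.ker := by rw [MonoidHom.mem_ker, map_pow, hk]
    obtain ⟨m, hm⟩ := hkp ⟨_, hxk⟩
    refine ⟨x, pElem_mem_pElemClosure hx (k := k + m) ?_, rfl⟩
    rw [pow_add, pow_mul]
    simpa using congrArg Subtype.val hm
  refine ⟨K, hsn, ⟨(pElemClosure_top_eq_top_iff K).mpr hpE, ?_⟩, hmap, hsup⟩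
  haveI : Group.IsPerfect ↥K := Subgroup.isPerfect_iff.mpr hKperf
  haveI : Group.IsPerfect (↥K ⧸ pPrimeCore p ↥K) :=
    Group.IsPerfect.ofSurjective (QuotientGroup.mk'_surjective _)
  set g : ↥K →* ↥T := (MulEquiv.subgroupCongr hmap).toMonoidHom.comp (f.subgroupMap K) with hg
  have hgs : Function.Surjective g :=
    (MulEquiv.subgroupCongr hmap).surjective.comp (f.subgroupMap_surjective K)
  have hgk : ∀ x : ↥K, x ∈ g.ker ↔ (x : G) ∈ f.ker := by
    intro x
    constructor
    · exact fun h => congrArg Subtype.val (MonoidHom.mem_ker.mp h)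
    · exact fun h => MonoidHom.mem_ker.mpr (Subtype.ext h)
  set L := (pPrimeCore p ↥T).comap g with hL
  have hgc : g.ker ≤ center ↥K := fun x hx => mem_center_iff.mpr fun y =>
    Subtype.ext (mem_center_iff.mp (hker ((hgk x).mp hx)) y)
  have hgp : IsPGroup p ↥g.ker := by
    intro x
    obtain ⟨m, hm⟩ := hkp ⟨((x : ↥K) : G), (hgk x).mp x.2⟩
    exact ⟨m, Subtype.ext (Subtype.ext (by simpa using congrArg Subtype.val hm))⟩
  set A := g.ker.subgroupOf L with hA
  have hAi : A.index.Coprime p := by
    refine Nat.Coprime.coprime_dvd_left ?_ (Core.coprime_card_pPrimeCore (p := p) (G := ↥T))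
    rw [hA, ← relIndex, relIndex_ker]
    exact card_dvd_of_le (map_comap_le g _)
  have hAp : IsPGroup p ↥A := hgp.comap_of_injective L.subtype L.subtype_injective
  have hAc : A ≤ center ↥L := fun x hx => mem_center_iff.mpr fun y =>
    Subtype.ext (mem_center_iff.mp (hgc hx) (y : ↥K))
  have hcop : (Nat.card A).Coprime A.index := by
    obtain ⟨n, hn⟩ := IsPGroup.iff_card.mp hAp
    rw [hn]
    exact (hAi.symm).pow_left n
  obtain ⟨W, hW⟩ := exists_right_complement'_of_coprime hcop
  have hWn : W.Normal := by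
    rw [← normalizer_eq_top_iff, eq_top_iff, ← hW.sup_eq_top]
    exact sup_le ((hAc.trans (center_le_centralizer _)).trans (centralizer_le_normalizer _)) le_normalizer
  have hWle : W.map L.subtype ≤ pPrimeCore p ↥K := by
    refine subnormal_le_pPrimeCore (hWn.isSubnormal.trans' (Subgroup.Normal.isSubnormal inferInstance)) ?_
    rw [card_map_of_injective L.subtype_injective, ← hW.symm.index_eq_card]
    exact hAi
  have hLle : L ≤ g.ker ⊔ pPrimeCore p ↥K := by
    rw [← range_subtype L, MonoidHom.range_eq_map, ← hW.sup_eq_top, Subgroup.map_sup, hA,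
      subgroupOf_map_subtype]
    exact sup_le_sup inf_le_left hWle
  have hOle : pPrimeCore p ↥K ≤ L :=
    map_le_iff_le_comap.mp (Core.map_pPrimeCore_le_of_surjective hgs)
  refine isQuasisimple_of_central_ker
    (f := QuotientGroup.map (pPrimeCore p ↥K) (pPrimeCore p ↥T) g hOle) ?_ ?_ hTp.2
  · intro y
    obtain ⟨y, rfl⟩ := QuotientGroup.mk'_surjective _ y
    obtain ⟨x, rfl⟩ := hgs y
    exact ⟨QuotientGroup.mk' _ x, rfl⟩
  · intro q hq
    obtain ⟨x, rfl⟩ := QuotientGroup.mk'_surjective _ q
    have hx : x ∈ L := by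
      rw [hL, mem_comap, ← QuotientGroup.eq_one_iff]
      exact hq
    have h1 : QuotientGroup.mk' (pPrimeCore p ↥K) x ∈ (g.ker ⊔ pPrimeCore p ↥K).map (QuotientGroup.mk' (pPrimeCore p ↥K)) :=
      mem_map_of_mem _ (hLle hx)
    rw [Subgroup.map_sup, QuotientGroup.map_mk'_self, sup_bot_eq] at h1
    obtain ⟨a, ha, hax⟩ := h1
    rw [← hax, mem_center_iff]
    intro b
    obtain ⟨b, rfl⟩ := QuotientGroup.mk'_surjective _ b
    rw [← map_mul, ← map_mul, mem_center_iff.mp (hgc ha) b]

end Cfsg.Agent.Layer

namespace Cfsg.Agent.Layer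

open Subgroup Cfsg

universe w

/-- Fixed points of an element of order `p` acting trivially on `K / O_{p'}(K)`. -/
theorem le_sup_centralizer_of_trivial_action {G : Type w} [Group G] [Finite G] {p : ℕ}
    [hp : Fact p.Prime] {K : Subgroup G} {y : G} (hy : orderOf y = p)
    (hyK : ∀ k ∈ K, y * k * y⁻¹ * k⁻¹ ∈ (pPrimeCore p ↥K).map K.subtype) :
    K ≤ (K ⊓ centralizer ({y} : Set G)) ⊔ (pPrimeCore p ↥K).map K.subtype := by
  set O := (pPrimeCore p ↥K).map K.subtype with hO
  set M := K ⊔ zpowers y with hM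
  have hOK : O ≤ K := map_subtype_le _
  have hyN : y ∈ normalizer (K : Set G) := mem_normalizer_of_conj_mem fun k hk => by
    have h1 := mul_mem (hOK (hyK k hk)) hk
    rwa [inv_mul_cancel_right] at h1
  have hyO : y ∈ normalizer (O : Set G) := mem_normalizer_of_conj_mem fun o ho => by
    have h1 := mul_mem (hyK o (hOK ho)) ho
    rwa [inv_mul_cancel_right] at h1
  have hKO : K ≤ normalizer (O : Set G) := by
    refine (normal_subgroupOf_iff_le_normalizer hOK).mp ?_
    rw [hO, subgroupOf, comap_map_eq_self_of_injective K.subtype_injective]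
    infer_instance
  have hMO : M ≤ normalizer (O : Set G) := sup_le hKO (zpowers_le.mpr hyO)
  have hyM : y ∈ M := mem_sup_right (mem_zpowers y)
  haveI : (O.subgroupOf M).Normal :=
    (normal_subgroupOf_iff_le_normalizer (hOK.trans le_sup_left)).mpr hMO
  set f := QuotientGroup.mk' (O.subgroupOf M) with hf
  have hker : (Nat.card f.ker).Coprime p := by
    rw [hf, QuotientGroup.ker_mk', Nat.card_congr (subgroupOfEquivOfLe (hOK.trans le_sup_left)).toEquiv,
      hO, card_map_of_injective K.subtype_injective]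
    exact Core.coprime_card_pPrimeCore
  have hP : IsPGroup p ↥(zpowers (⟨y, hyM⟩ : ↥M)) :=
    IsPGroup.of_card (n := 1) (by rw [Nat.card_zpowers, ← orderOf_coe, pow_one]; exact hy)
  intro k hk
  have hkM : k ∈ M := mem_sup_left hk
  have h1 : f ⟨k, hkM⟩ ∈ centralizer (((zpowers (⟨y, hyM⟩ : ↥M)).map f : Subgroup _) : Set _) := by
    rw [MonoidHom.map_zpowers]
    have hcy : f ⟨k, hkM⟩ ∈ centralizer ({f ⟨y, hyM⟩} : Set (↥M ⧸ O.subgroupOf M)) := by
      rw [mem_centralizer_singleton_iff, ← map_mul, ← map_mul]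
      refine (QuotientGroup.eq.mpr ?_).symm
      have h2 : (y * k)⁻¹ * (k * y) = (y⁻¹ * k⁻¹) * ((y * k * y⁻¹ * k⁻¹)⁻¹) * (y⁻¹ * k⁻¹)⁻¹ := by group
      show (y * k)⁻¹ * (k * y) ∈ O
      rw [h2]
      exact (mem_normalizer_iff.mp (hMO (mul_mem (inv_mem hyM) (inv_mem hkM))) _).mp (inv_mem (hyK k hk))
    have h3 : zpowers (f ⟨y, hyM⟩) ≤ centralizer ({f ⟨k, hkM⟩} : Set (↥M ⧸ O.subgroupOf M)) :=
      zpowers_le.mpr (mem_centralizer_singleton_iff.mpr (mem_centralizer_singleton_iff.mp hcy).symm)
    exact fun x hx => mem_centralizer_singleton_iff.mp (h3 hx)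
  rw [← map_centralizer_of_coprime (QuotientGroup.mk'_surjective _) hker hP] at h1
  obtain ⟨c, hc, hck⟩ := h1
  have hco : (c : G)⁻¹ * k ∈ O := by
    have := QuotientGroup.eq.mp hck
    exact this
  rw [← mul_inv_cancel_left (c : G) k]
  refine mul_mem_sup (mem_inf.mpr ⟨?_, ?_⟩) hco
  · have h4 := mul_mem hk (inv_mem (hOK hco))
    rwa [mul_inv_rev, inv_inv, mul_inv_cancel_left] at h4
  · rw [mem_centralizer_singleton_iff]
    exact (congrArg Subtype.val (mem_centralizer_iff.mp hc ⟨y, hyM⟩ (mem_zpowers _))).symm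

/-- A group mapping onto a `p'`-core-free quasisimple group with `p'`-kernel is covered by its
`p`-layer modulo the kernel. -/
theorem top_le_pLayer_sup {G : Type w} [Group G] [Finite G] {p : ℕ} [Fact p.Prime] {Q : Type w}
    [Group Q] {g : G →* Q} (hg : Function.Surjective g) (hker : (Nat.card g.ker).Coprime p)
    (hQ : IsQuasisimple Q) (hQO : pPrimeCore p Q = ⊥) : (⊤ : Subgroup G) ≤ pLayer p G ⊔ g.ker := by
  have hO : pPrimeCore p G = g.ker := by
    refine le_antisymm ?_ (Core.le_pPrimeCore hker)
    rw [← Subgroup.map_eq_bot_iff, eq_bot_iff, ← hQO]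
    exact Core.map_pPrimeCore_le_of_surjective hg
  have hq : IsQuasisimple (G ⧸ pPrimeCore p G) :=
    isQuasisimple_congr ((QuotientGroup.quotientMulEquivOfEq hO).trans
      (QuotientGroup.quotientKerEquivOfSurjective g hg)).symm hQ
  have hL : IsComponent (⊤ : Subgroup (G ⧸ pPrimeCore p G)) :=
    ⟨IsSubnormal.top, isQuasisimple_congr topEquiv.symm hq⟩
  have h1 := map_pLayer (p := p) (G := G)
  rw [top_le_iff.mp (component_le_layer hL)] at h1
  rw [← hO, ← QuotientGroup.ker_mk' (pPrimeCore p G), ← comap_map_eq, h1, comap_top]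

end Cfsg.Agent.Layer
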