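import Cfsg.Agent.Layer.Pumping

/-!
The `p`-component `L_{p'}(C_K(P))` of a centraliser inside a `p`-component `K`, and its image in
`C(y)/O_{p'}(C(y))`.
-/

set_option autoImplicit false
set_option linter.style.haveILetI false

namespace Cfsg.Agent.Layer

open Subgroup Cfsg
open scoped commutatorElement

universe u

variable {G : Type u} [Group G] {p : ℕ}

/-- The `p`-component of `C_K(P)`. -/
def coreComp (p : ℕ) (K P : Subgroup G) : Subgroup G :=
  pElemClosure p (K ⊓ centralizer (P : Set G))

/-- The order of `K / O_{p'}(K)`. -/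
noncomputable def compOrder (p : ℕ) (K : Subgroup G) : ℕ :=
  Nat.card (↥K ⧸ pPrimeCore p ↥K)

/-- `P` acts trivially on `K / O_{p'}(K)`. -/
def ActsTrivially (p : ℕ) (P K : Subgroup G) : Prop :=
  ∀ g ∈ P, ∀ k ∈ K, ⁅g, k⁆ ∈ (pPrimeCore p ↥K).map K.subtype

theorem coreComp_le (K P : Subgroup G) : coreComp p K P ≤ K :=
  (pElemClosure_le _).trans inf_le_left

theorem coreComp_le_centralizer (K P : Subgroup G) : coreComp p K P ≤ centralizer (P : Set G) :=
  (pElemClosure_le _).trans inf_le_right

theorem pElemClosure_mono {S T : Subgroup G} (h : S ≤ T) : pElemClosure p S ≤ pElemClosure p T :=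
  closure_mono fun _ hx => ⟨h hx.1, hx.2⟩

theorem coreComp_anti (K : Subgroup G) {P Q : Subgroup G} (h : P ≤ Q) :
    coreComp p K Q ≤ coreComp p K P :=
  pElemClosure_mono (inf_le_inf_left _ (centralizer_le h))

theorem le_sup_centralizer_of_pGroup_trivial [Finite G] [hp : Fact p.Prime] {P K : Subgroup G}
    (hP : IsPGroup p ↥P) (h : ActsTrivially p P K) :
    K ≤ (K ⊓ centralizer (P : Set G)) ⊔ (pPrimeCore p ↥K).map K.subtype := by
  set O := (pPrimeCore p ↥K).map K.subtype with hO
  set M := K ⊔ P with hM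
  have hOK : O ≤ K := map_subtype_le _
  have hPK : P ≤ normalizer (K : Set G) := fun g hg => mem_normalizer_of_conj_mem fun k hk => by
    have h1 := mul_mem (hOK (h g hg k hk)) hk
    rwa [commutatorElement_def, inv_mul_cancel_right] at h1
  have hPO : P ≤ normalizer (O : Set G) := fun g hg => mem_normalizer_of_conj_mem fun o ho => by
    have h1 := mul_mem (h g hg o (hOK ho)) ho
    rwa [commutatorElement_def, inv_mul_cancel_right] at h1
  have hKO : K ≤ normalizer (O : Set G) := by
    refine (normal_subgroupOf_iff_le_normalizer hOK).mp ?_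
    rw [hO, subgroupOf, comap_map_eq_self_of_injective K.subtype_injective]
    infer_instance
  have hMO : M ≤ normalizer (O : Set G) := sup_le hKO hPO
  haveI : (O.subgroupOf M).Normal :=
    (normal_subgroupOf_iff_le_normalizer (hOK.trans le_sup_left)).mpr hMO
  set f := QuotientGroup.mk' (O.subgroupOf M) with hf
  have hker : (Nat.card f.ker).Coprime p := by
    rw [hf, QuotientGroup.ker_mk', Nat.card_congr (subgroupOfEquivOfLe (hOK.trans le_sup_left)).toEquiv,
      hO, card_map_of_injective K.subtype_injective]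
    exact Core.coprime_card_pPrimeCore
  have hP' : IsPGroup p ↥(P.subgroupOf M) := hP.comap_of_injective M.subtype M.subtype_injective
  intro k hk
  have hkM : k ∈ M := mem_sup_left hk
  have h1 : f ⟨k, hkM⟩ ∈ centralizer ((((P.subgroupOf M)).map f : Subgroup _) : Set _) := by
    rw [mem_centralizer_iff]
    rintro _ ⟨g, hg, rfl⟩
    rw [← map_mul, ← map_mul]
    refine QuotientGroup.eq.mpr ?_
    have h2 : ((g : G) * k)⁻¹ * (k * g) = ((g : G) * k)⁻¹ * ⁅(g : G), k⁆⁻¹ * ((g : G) * k)⁻¹⁻¹ := by
      rw [commutatorElement_def]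
      group
    show ((g : G) * k)⁻¹ * (k * g) ∈ O
    rw [h2]
    exact (mem_normalizer_iff.mp (hMO (inv_mem (mul_mem g.2 hkM))) _).mp (inv_mem (h g hg k hk))
  rw [← map_centralizer_of_coprime (QuotientGroup.mk'_surjective _) hker hP'] at h1
  obtain ⟨c, hc, hck⟩ := h1
  have hco : (c : G)⁻¹ * k ∈ O := by
    have := QuotientGroup.eq.mp hck
    exact this
  rw [← mul_inv_cancel_left (c : G) k]
  refine mul_mem_sup (mem_inf.mpr ⟨?_, mem_centralizer_iff.mpr fun g hg => ?_⟩) hco
  · have h4 := mul_mem hk (inv_mem (hOK hco))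
    rwa [mul_inv_rev, inv_inv, mul_inv_cancel_left] at h4
  · exact congrArg Subtype.val (mem_centralizer_iff.mp hc ⟨g, mem_sup_right hg⟩ hg)

theorem isSubnormal_inf_subgroupOf {K C D : Subgroup G} (h : (K.subgroupOf C).IsSubnormal) :
    ((K ⊓ C ⊓ D).subgroupOf (C ⊓ D)).IsSubnormal := by
  have h1 := h.comap (inclusion (inf_le_left : C ⊓ D ≤ C))
  convert h1 using 1
  ext x
  exact ⟨fun hx => hx.1.1, fun hx => ⟨⟨hx, x.2.1⟩, x.2.2⟩⟩

/-- `C_K(P)` is covered by its unique `p`-component modulo `O_{p'}(K)`. -/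
theorem coreComp_spec [Finite G] [hp : Fact p.Prime] {P K : Subgroup G} (hP : IsPGroup p ↥P)
    (hK : IsPCompGroup p ↥K) (h : ActsTrivially p P K) :
    IsPCompGroup p ↥(coreComp p K P) ∧ K ≤ coreComp p K P ⊔ (pPrimeCore p ↥K).map K.subtype ∧
      Nonempty ((↥(coreComp p K P) ⧸ pPrimeCore p ↥(coreComp p K P)) ≃* (↥K ⧸ pPrimeCore p ↥K)) ∧
      (K ⊓ centralizer (P : Set G)) = coreComp p K P ⊔
        ((pPrimeCore p ↥K).map K.subtype ⊓ centralizer (P : Set G)) := by
  set O := (pPrimeCore p ↥K).map K.subtype with hO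
  set H := K ⊓ centralizer (P : Set G) with hH
  set L := coreComp p K P with hL
  have hLH : L ≤ H := pElemClosure_le _
  have hcov : K ≤ H ⊔ O := le_sup_centralizer_of_pGroup_trivial hP h
  have hKO : K ≤ normalizer (O : Set G) := by
    refine (normal_subgroupOf_iff_le_normalizer (map_subtype_le _)).mp ?_
    rw [subgroupOf, comap_map_eq_self_of_injective K.subtype_injective]
    infer_instance
  set g : ↥H →* ↥K ⧸ pPrimeCore p ↥K := (QuotientGroup.mk' _).comp (inclusion inf_le_left) with hg
  have hgs : Function.Surjective g := by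
    intro q
    obtain ⟨k, rfl⟩ := QuotientGroup.mk'_surjective _ q
    have hk : (k : G) ∈ ((H ⊔ O : Subgroup G) : Set G) := hcov k.2
    rw [coe_mul_of_left_le_normalizer_right _ _ ((inf_le_left : H ≤ K).trans hKO), Set.mem_mul] at hk
    obtain ⟨a, ha, o, ho, hao⟩ := hk
    refine ⟨⟨a, ha⟩, QuotientGroup.eq.mpr ?_⟩
    obtain ⟨o', ho', rfl⟩ := ho
    have e : (inclusion (inf_le_left : H ≤ K) ⟨a, ha⟩)⁻¹ * k = o' := Subtype.ext (by
      show a⁻¹ * (k : G) = (o' : G)
      rw [← hao]
      exact inv_mul_cancel_left a _)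
    rw [e]
    exact ho'
  have hgk : g.ker.map H.subtype = O ⊓ centralizer (P : Set G) := by
    ext z
    constructor
    · rintro ⟨a, ha, rfl⟩
      exact ⟨⟨_, (QuotientGroup.eq_one_iff _).mp (MonoidHom.mem_ker.mp ha), rfl⟩, a.2.2⟩
    · rintro ⟨⟨o, ho, rfl⟩, hz⟩
      exact ⟨⟨o, o.2, hz⟩, MonoidHom.mem_ker.mpr ((QuotientGroup.eq_one_iff _).mpr ho), rfl⟩
  have hcop : (Nat.card g.ker).Coprime p := by
    rw [← card_map_of_injective H.subtype_injective, hgk]
    refine Nat.Coprime.coprime_dvd_left (card_dvd_of_le inf_le_left) ?_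
    rw [hO, card_map_of_injective K.subtype_injective]
    exact Core.coprime_card_pPrimeCore
  haveI : (L.subgroupOf H).Normal := pElemClosure_normal _
  -- the image of `L` is everything
  have himg : (L.subgroupOf H).map g = ⊤ := by
    haveI := qs_nontrivial hK.2
    have hq := (isPCompGroup_of_surjective hK (QuotientGroup.mk'_surjective (pPrimeCore p ↥K))).1
    rw [eq_top_iff, ← hq]
    refine (closure_le _).mpr ?_
    rintro q ⟨-, k, hk⟩
    haveI : ((L.subgroupOf H).map g).Normal := Subgroup.Normal.map inferInstance g hgs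
    exact pElem_mem_of_normal (N := (L.subgroupOf H).map g) ((coprime_index_pElemClosure (p := p) H).coprime_dvd_left
      (index_map_dvd _ hgs)) hk
  set g' : ↥L →* ↥K ⧸ pPrimeCore p ↥K := g.comp (inclusion hLH) with hg'
  have hgs' : Function.Surjective g' := by
    intro q
    obtain ⟨a, ha, rfl⟩ := himg.symm.le (mem_top q)
    exact ⟨⟨a, ha⟩, rfl⟩
  have hker' : g'.ker = pPrimeCore p ↥L := by
    refine le_antisymm (Core.le_pPrimeCore (hN := g'.normal_ker) ?_) ?_
    · refine hcop.coprime_dvd_left ?_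
      rw [← card_map_of_injective (inclusion_injective hLH)]
      refine card_dvd_of_le ?_
      rintro _ ⟨a, ha, rfl⟩
      exact ha
    · intro a ha
      have := Core.map_pPrimeCore_le_of_surjective (p := p) hgs' (mem_map_of_mem g' ha)
      rw [Core.pPrimeCore_quotient_eq_bot, mem_bot] at this
      exact this
  let e := (QuotientGroup.quotientMulEquivOfEq hker'.symm).trans
    (QuotientGroup.quotientKerEquivOfSurjective g' hgs')
  refine ⟨⟨(pElemClosure_top_eq_top_iff L).mpr (pElemClosure_pElemClosure _),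
    isQuasisimple_congr e.symm hK.2⟩, ?_, ⟨e⟩, ?_⟩
  · intro k hk
    obtain ⟨a, ha⟩ := hgs' (QuotientGroup.mk' _ ⟨k, hk⟩)
    rw [← mul_inv_cancel_left (a : G) k]
    exact mul_mem_sup a.2 ⟨_, QuotientGroup.eq.mp ha, rfl⟩
  · refine le_antisymm ?_ (sup_le hLH (inf_le_inf_right _ (map_subtype_le _)))
    intro a ha
    obtain ⟨b, hb⟩ := hgs' (g ⟨a, ha⟩)
    rw [← mul_inv_cancel_left (b : G) a]
    refine mul_mem_sup b.2 ?_
    rw [← hgk]
    refine ⟨(inclusion hLH b)⁻¹ * ⟨a, ha⟩, ?_, rfl⟩
    rw [SetLike.mem_coe, MonoidHom.mem_ker, map_mul, map_inv, inv_mul_eq_one]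
    exact hb

theorem coreComp_compOrder [Finite G] [Fact p.Prime] {P K : Subgroup G} (hP : IsPGroup p ↥P)
    (hK : IsPCompGroup p ↥K) (h : ActsTrivially p P K) :
    compOrder p (coreComp p K P) = compOrder p K := by
  obtain ⟨e⟩ := (coreComp_spec hP hK h).2.2.1
  exact Nat.card_congr e.toEquiv

/-- `L_{p'}(C_K(P))` is subnormal in `C(P)` when `K` is subnormal in `C(x)` with `x ∈ P`. -/
theorem coreComp_subnormal [Finite G] {x : G} {P K : Subgroup G} (hxP : x ∈ P)
    (hKC : K ≤ centralizer ({x} : Set G))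
    (hKsn : (K.subgroupOf (centralizer ({x} : Set G))).IsSubnormal) :
    ((coreComp p K P).subgroupOf (centralizer (P : Set G))).IsSubnormal := by
  have hle : centralizer (P : Set G) ≤ centralizer ({x} : Set G) :=
    centralizer_le (Set.singleton_subset_iff.mpr hxP)
  have h1 : ((K ⊓ centralizer (P : Set G)).subgroupOf (centralizer (P : Set G))).IsSubnormal := by
    rw [inf_subgroupOf_right]
    exact hKsn.comap (inclusion hle)
  refine Subgroup.IsSubnormal.step _ _ (comap_mono (pElemClosure_le _)) h1 ?_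
  haveI := pElemClosure_normal (p := p) (K ⊓ centralizer (P : Set G))
  exact Subgroup.Normal.comap this (subgroupOfEquivOfLe
    (inf_le_right : K ⊓ centralizer (P : Set G) ≤ centralizer (P : Set G))).toMonoidHom

/-- The image in `C(y) / O_{p'}(C(y))`. -/
def localImage (p : ℕ) (y : G) (L : Subgroup G) :
    Subgroup (↥(centralizer ({y} : Set G)) ⧸ pPrimeCore p ↥(centralizer ({y} : Set G))) :=
  (L.subgroupOf (centralizer ({y} : Set G))).map (QuotientGroup.mk' _)

/-- The image of an element of `C(y)`. -/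
def localElt (p : ℕ) (y : G) (g : ↥(centralizer ({y} : Set G))) :
    ↥(centralizer ({y} : Set G)) ⧸ pPrimeCore p ↥(centralizer ({y} : Set G)) :=
  QuotientGroup.mk' _ g

theorem centralizer_pair (x y : G) :
    centralizer ((zpowers x ⊔ zpowers y : Subgroup G) : Set G) =
      centralizer ({x} : Set G) ⊓ centralizer ({y} : Set G) := by
  refine le_antisymm (le_inf ?_ ?_) ?_
  · exact centralizer_le (Set.singleton_subset_iff.mpr (mem_sup_left (mem_zpowers x)))
  · exact centralizer_le (Set.singleton_subset_iff.mpr (mem_sup_right (mem_zpowers y)))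
  · rw [le_centralizer_iff]
    exact sup_le (zpowers_le.mpr (mem_centralizer_iff.mpr fun g hg => mem_centralizer_singleton_iff.mp hg.1))
      (zpowers_le.mpr (mem_centralizer_iff.mpr fun g hg => mem_centralizer_singleton_iff.mp hg.2))

theorem isPGroup_pair [Finite G] [hp : Fact p.Prime] {x y : G} (hx : orderOf x = p) (hy : orderOf y = p)
    (hxy : Commute x y) : IsPGroup p ↥(zpowers x ⊔ zpowers y) := by
  have h1 : IsPGroup p ↥(zpowers x) := IsPGroup.of_card (n := 1) (by rw [Nat.card_zpowers, hx, pow_one])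
  have h2 : IsPGroup p ↥(zpowers y) := IsPGroup.of_card (n := 1) (by rw [Nat.card_zpowers, hy, pow_one])
  refine h1.to_sup_of_normal_right' h2 (zpowers_le.mpr ?_)
  refine centralizer_le_normalizer _ (mem_centralizer_iff.mpr fun g hg => ?_)
  obtain ⟨i, rfl⟩ := mem_zpowers_iff.mp hg
  exact ((hxy.symm.zpow_left i)).eq

/-- `p`-component groups inside `C(y)` keep at least their order in `C(y)/O_{p'}(C(y))`. -/
theorem localImage_spec [Finite G] [Fact p.Prime] {y : G} {L : Subgroup G}
    (hLy : L ≤ centralizer ({y} : Set G)) (hL : IsPCompGroup p ↥L) :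
    IsPCompGroup p ↥(localImage p y L) ∧ compOrder p L ≤ Nat.card (localImage p y L) ∧
      (Nat.card (localImage p y L) ≤ compOrder p L →
        Nonempty (↥(localImage p y L) ≃* (↥L ⧸ pPrimeCore p ↥L))) := by
  set C := centralizer ({y} : Set G) with hC
  set f : ↥L →* ↥C ⧸ pPrimeCore p ↥C := (QuotientGroup.mk' _).comp (inclusion hLy) with hf
  have hrange : f.range = localImage p y L := by
    rw [hf, MonoidHom.range_comp, localImage]
    congr 1
    ext a
    exact ⟨fun ⟨b, hb⟩ => hb ▸ b.2, fun ha => ⟨⟨a, ha⟩, rfl⟩⟩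
  have hle : f.ker ≤ pPrimeCore p ↥L := by
    refine Core.le_pPrimeCore (hN := f.normal_ker) ?_
    rw [← card_map_of_injective (inclusion_injective hLy)]
    refine Core.coprime_card_pPrimeCore.coprime_dvd_left (card_dvd_of_le ?_)
    rintro _ ⟨a, ha, rfl⟩
    exact (QuotientGroup.eq_one_iff _).mp (MonoidHom.mem_ker.mp ha)
  have hidx : Nat.card (localImage p y L) = f.ker.index := by rw [← hrange, index_ker]
  have hge : compOrder p L ≤ f.ker.index :=
    Nat.le_of_dvd (Nat.pos_of_ne_zero index_ne_zero_of_finite) (index_dvd_of_le hle)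
  refine ⟨?_, hidx ▸ hge, fun h => ?_⟩
  · rw [← hrange]
    haveI : Nontrivial ↥f.range := by
      rw [nontrivial_iff_ne_bot]
      intro hb
      have hcard : Nat.card f.range = 1 := by rw [hb, Subgroup.card_bot]
      rw [← index_ker] at hcard
      haveI := qs_nontrivial hL.2
      have h1 : 1 < compOrder p L := Finite.one_lt_card
      omega
    exact isPCompGroup_of_surjective hL f.rangeRestrict_surjective
  · have heq : f.ker = pPrimeCore p ↥L := by
      refine eq_of_le_of_card_ge hle ?_
      have h1 := f.ker.index_mul_card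
      have h2 := (pPrimeCore p ↥L).index_mul_card
      have h3 : (pPrimeCore p ↥L).index = f.ker.index := le_antisymm hge (hidx ▸ h)
      rw [h3, ← h1] at h2
      exact (Nat.eq_of_mul_eq_mul_left (Nat.pos_of_ne_zero index_ne_zero_of_finite) h2).le
    exact ⟨(MulEquiv.subgroupCongr hrange.symm).trans ((QuotientGroup.quotientKerEquivRange f).symm.trans
      (QuotientGroup.quotientMulEquivOfEq heq))⟩

theorem localImage_mono {y : G} {L L' : Subgroup G} (h : L ≤ L') :
    localImage p y L ≤ localImage p y L' := map_mono (comap_mono h)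

theorem localImage_centralizes {y : G} {L : Subgroup G} {g : G} (hg : g ∈ centralizer ({y} : Set G))
    (hgL : g ∈ centralizer (L : Set G)) :
    localElt p y ⟨g, hg⟩ ∈ centralizer ((localImage p y L : Subgroup _) : Set _) := by
  rw [mem_centralizer_iff]
  rintro _ ⟨a, ha, rfl⟩
  rw [localElt, ← map_mul, ← map_mul]
  exact congrArg _ (Subtype.ext (mem_centralizer_iff.mp hgL a ha))

/-- The pumping situation for `L ≤ C(x) ∩ C(y)` in `C(y) / O_{p'}(C(y))`. -/
theorem exists_pumpUp_local [Finite G] [hp : Fact p.Prime] {x y : G} (hx : orderOf x = p)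
    (hxy : Commute x y)
    (hS : ∀ K : Subgroup (↥(centralizer ({y} : Set G)) ⧸ pPrimeCore p ↥(centralizer ({y} : Set G))),
      IsComponent K → Group.IsSolvable (Out (↥K ⧸ center ↥K)))
    {L : Subgroup G} (hLC : L ≤ centralizer ({x} : Set G) ⊓ centralizer ({y} : Set G))
    (hLsn : (L.subgroupOf (centralizer ({x} : Set G) ⊓ centralizer ({y} : Set G))).IsSubnormal)
    (hLp : IsPCompGroup p ↥L) :
    localImage p y L ≤ centralizer ({localElt p y ⟨x, mem_centralizer_singleton_iff.mpr hxy.eq⟩} : Set _) ∧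
    ∃ K, IsPumpUp p (localElt p y ⟨x, mem_centralizer_singleton_iff.mpr hxy.eq⟩) (localImage p y L) K := by
  set C := centralizer ({y} : Set G) with hC
  set f := QuotientGroup.mk' (pPrimeCore p ↥C) with hf
  set xc : ↥C := ⟨x, mem_centralizer_singleton_iff.mpr hxy.eq⟩ with hxc
  set xb := localElt p y xc with hxb
  have hxp : xb ^ p = 1 := by
    have h0 : xc ^ p = 1 := Subtype.ext (by simpa using hx ▸ pow_orderOf_eq_one x)
    rw [hxb, localElt, ← map_pow, h0, map_one]
  have hcentR : ∀ (H : Type u) [Group H] (a : H), centralizer (zpowers a : Set H) = centralizer ({a} : Set H) := by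
    intro H _ a
    refine le_antisymm (centralizer_le (Set.singleton_subset_iff.mpr (mem_zpowers a))) ?_
    rw [le_centralizer_iff, zpowers_le, mem_centralizer_iff]
    exact fun g hg => mem_centralizer_singleton_iff.mp hg
  have hker : (Nat.card f.ker).Coprime p := by
    rw [hf, QuotientGroup.ker_mk']
    exact Core.coprime_card_pPrimeCore
  have hcent : (centralizer ({xc} : Set ↥C)).map f = centralizer ({xb} : Set _) := by
    have h := map_centralizer_of_coprime (QuotientGroup.mk'_surjective _) hker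
      (P := zpowers xc) (IsPGroup.of_card (n := 1) (by rw [Nat.card_zpowers, ← orderOf_coe, pow_one]; exact hx))
    rwa [MonoidHom.map_zpowers, hcentR, hcentR] at h
  have hLxc : L.subgroupOf C ≤ centralizer ({xc} : Set ↥C) := fun a ha =>
    mem_centralizer_singleton_iff.mpr (Subtype.ext (mem_centralizer_singleton_iff.mp (hLC ha).1))
  have hle : localImage p y L ≤ centralizer ({xb} : Set _) := hcent ▸ map_mono hLxc
  refine ⟨hle, exists_pumpUp Core.pPrimeCore_quotient_eq_bot hS hxp hle ?_
    (localImage_spec (hLC.trans inf_le_right) hLp).1⟩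
  rw [← hcent]
  have h1 : ((L.subgroupOf C).subgroupOf (centralizer ({xc} : Set ↥C))).IsSubnormal :=
    hLsn.comap ((C.subtype.comp (centralizer ({xc} : Set ↥C)).subtype).codRestrict _ fun a =>
      mem_inf.mpr ⟨mem_centralizer_singleton_iff.mpr
        (congrArg Subtype.val (mem_centralizer_singleton_iff.mp a.2)), a.1.2⟩)
  have h2 := h1.map (f := f.subgroupMap _) (f.subgroupMap_surjective _)
  convert h2 using 1
  ext z
  constructor
  · rintro ⟨a, ha, haz⟩
    exact ⟨⟨a, hLxc ha⟩, ha, Subtype.ext haz⟩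
  · rintro ⟨a, ha, rfl⟩
    exact mem_map_of_mem f ha

end Cfsg.Agent.Layer
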