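import Cfsg.Agent.Layer.SylowCentralizer
import Cfsg.Agent.Layer.CoreComp

/-!
L-balance for the prime 2, without any hypothesis on the components involved: a 2-component of the
centraliser of a 2-subgroup lies in the 2-layer.
-/

set_option autoImplicit false
set_option linter.style.haveILetI false

namespace Cfsg.Agent.Layer

open Subgroup Cfsg
open scoped commutatorElement

universe u

variable {G : Type u} [Group G]

/-- A Sylow subgroup of `G` meets a normal subgroup in a Sylow subgroup. -/
theorem not_dvd_relIndex_sylow_normal [Finite G] {p : ℕ} [Fact p.Prime] (P : Sylow p G)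
    (E : Subgroup G) [E.Normal] : ¬ p ∣ (P : Subgroup G).relIndex E := by
  intro hd
  apply P.not_dvd_index
  have h1 := Core.card_sup_mul_card_inf (P : Subgroup G) E
  have h2 := Subgroup.card_mul_index ((P : Subgroup G).subgroupOf E)
  have h4 : Nat.card ((P : Subgroup G).subgroupOf E) = Nat.card ↥((P : Subgroup G) ⊓ E) := by
    rw [← card_map_of_injective E.subtype_injective, subgroupOf_map_subtype]
  rw [h4] at h2
  have h5 := Subgroup.card_mul_index (P : Subgroup G)
  have h6 : Nat.card ↥((P : Subgroup G) ⊔ E) ∣ Nat.card G := card_subgroup_dvd_card _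
  have h7 : Nat.card ↥((P : Subgroup G) ⊔ E) = Nat.card (P : Subgroup G) * (P : Subgroup G).relIndex E := by
    have hpos : 0 < Nat.card ↥((P : Subgroup G) ⊓ E) := Nat.card_pos
    apply Nat.eq_of_mul_eq_mul_right hpos
    rw [h1, ← h2, relIndex]
    ring
  rw [h7, ← h5] at h6
  exact hd.trans (Nat.dvd_of_mul_dvd_mul_left Nat.card_pos h6)

/-- The image of `E` in `G / C(E)` has trivial core. -/
theorem oddCore_map_mk_centralizer [Finite G] {E : Subgroup G} [E.Normal] (hO : oddCore E = ⊥) :
    oddCore ↥(E.map (QuotientGroup.mk' (centralizer (E : Set G)))) = ⊥ := by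
  haveI : Fact (Nat.Prime 2) := ⟨Nat.prime_two⟩
  set C := centralizer (E : Set G) with hC
  set f : G →* G ⧸ C := QuotientGroup.mk' C with hf
  set g : ↥E →* ↥(E.map f) := f.subgroupMap E with hg
  have hgs : Function.Surjective g := f.subgroupMap_surjective E
  have hgk : g.ker = center ↥E := by
    ext x
    rw [MonoidHom.mem_ker, mem_center_iff]
    constructor
    · intro h y
      have h1 : (x : G) ∈ C := (QuotientGroup.eq_one_iff _).mp (congrArg Subtype.val h)
      exact Subtype.ext (mem_centralizer_iff.mp h1 y y.2)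
    · intro h
      exact Subtype.ext ((QuotientGroup.eq_one_iff _).mpr
        (mem_centralizer_iff.mpr fun y hy => congrArg Subtype.val (h ⟨y, hy⟩)))
  set S := (oddCore ↥(E.map f)).comap g with hS
  have hZS : center ↥E ≤ S := hgk.symm.le.trans (g.ker_le_comap _)
  obtain ⟨Q⟩ : Nonempty (Sylow 2 S) := inferInstance
  have hQ : ((Q : Subgroup S).map S.subtype) ≤ center ↥E := by
    rintro _ ⟨z, hz, rfl⟩
    obtain ⟨k, hk⟩ := Q.isPGroup' ⟨z, hz⟩
    have hk' : (z : ↥E) ^ 2 ^ k = 1 := congrArg (fun w : (Q : Subgroup S) => ((w : S) : ↥E)) hk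
    rw [← hgk, MonoidHom.mem_ker, ← orderOf_eq_one_iff]
    exact Nat.eq_one_of_dvd_coprimes
      ((Core.coprime_card_pPrimeCore (p := 2) (G := ↥(E.map f))).pow_right k)
      (orderOf_dvd_natCard _ (z.2 : g z ∈ oddCore ↥(E.map f)))
      (orderOf_dvd_of_pow_eq_one (by rw [← map_pow]; exact (congrArg g hk').trans (map_one g)))
  have hQc : (Q : Subgroup S) ≤ center S := fun z hz => mem_center_iff.mpr fun y =>
    Subtype.ext (mem_center_iff.mp (hQ (mem_map_of_mem S.subtype hz)) y)
  have hsup := sylow_sup_oddCore_eq_top Q hQc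
  have hOS : (oddCore S).map S.subtype = ⊥ := by
    rw [← le_bot_iff, ← hO]
    exact subnormal_le_pPrimeCore
      ((Core.pPrimeCore_normal.isSubnormal).trans' (Subgroup.Normal.isSubnormal inferInstance))
      (by rw [card_map_of_injective S.subtype_injective]; exact Core.coprime_card_pPrimeCore)
  have hSZ : S ≤ center ↥E := by
    rw [← range_subtype S, MonoidHom.range_eq_map, ← hsup, Subgroup.map_sup, hOS, sup_bot_eq]
    exact hQ
  rw [← map_comap_eq_self_of_surjective hgs (oddCore ↥(E.map f)), Subgroup.map_eq_bot_iff, hgk]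
  exact hSZ

/-- No element of the derived group of `A ≤ C(T)` induces an involution on a perfect normal subgroup `E`. -/
theorem no_involution_image [Finite G] {E A : Subgroup G} [E.Normal] (hE : ⁅E, E⁆ = E)
    (hO : oddCore E = ⊥) (T₀ : Sylow 2 E)
    (hAT : A ≤ centralizer (((T₀ : Subgroup E).map E.subtype : Subgroup G) : Set G))
    {x : G} (hx : x ∈ ⁅A, A⁆) :
    orderOf (QuotientGroup.mk' (centralizer (E : Set G)) x) ≠ 2 := by
  haveI : Fact (Nat.Prime 2) := ⟨Nat.prime_two⟩
  intro ho
  set C := centralizer (E : Set G) with hC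
  set f : G →* G ⧸ C := QuotientGroup.mk' C with hf
  haveI : (E.map f).Normal := Subgroup.Normal.map inferInstance f (QuotientGroup.mk'_surjective _)
  have hgs : Function.Surjective (f.subgroupMap E) := f.subgroupMap_surjective E
  set T' := T₀.mapSurjective hgs with hT'
  have hT'map : (T' : Subgroup ↥(E.map f)).map (E.map f).subtype =
      ((T₀ : Subgroup E).map E.subtype).map f := by
    rw [hT', Sylow.coe_mapSurjective, Subgroup.map_map, Subgroup.map_map]
    rfl
  have hAT' : A.map f ≤ centralizer (((T' : Subgroup ↥(E.map f)).map (E.map f).subtype :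
      Subgroup (G ⧸ C)) : Set (G ⧸ C)) := by
    rw [hT'map]
    rintro _ ⟨a, ha, rfl⟩
    rw [mem_centralizer_iff]
    rintro _ ⟨t, ht, rfl⟩
    rw [← map_mul, ← map_mul, mem_centralizer_iff.mp (hAT ha) t ht]
  have hw : f x ∈ ⁅A.map f, A.map f⁆ := by
    rw [← map_commutator]
    exact mem_map_of_mem f hx
  have hc := involution_centralizes (oddCore_map_mk_centralizer hO) T' hAT' hw ho
  have hxC : x ∈ C := by
    refine mem_centralizer_of_commutator_central hE fun e he => ⟨?_, ?_⟩
    · exact E.mul_mem ((inferInstance : E.Normal).conj_mem e he x) (E.inv_mem he)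
    · show ⁅x, e⁆ ∈ C
      rw [← QuotientGroup.eq_one_iff]
      show f ⁅x, e⁆ = 1
      rw [map_commutatorElement, commutatorElement_eq_one_iff_mul_comm]
      exact (mem_centralizer_iff.mp hc _ (mem_map_of_mem f he)).symm
  rw [show f x = 1 from (QuotientGroup.eq_one_iff _).mpr hxC, orderOf_one] at ho
  omega

/-- A perfect group generated by `2`-elements that centralises a Sylow `2`-subgroup of a perfect normal
subgroup with trivial core centralises that subgroup. -/
theorem centralizes_of_perfect [Finite G] {E J : Subgroup G} [E.Normal] (hE : ⁅E, E⁆ = E)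
    (hO : oddCore E = ⊥) (hJ : ⁅J, J⁆ = J) (hJp : pElemClosure 2 J = J) (T₀ : Sylow 2 E)
    (hJT : J ≤ centralizer (((T₀ : Subgroup E).map E.subtype : Subgroup G) : Set G)) :
    J ≤ centralizer (E : Set G) := by
  haveI : Fact (Nat.Prime 2) := ⟨Nat.prime_two⟩
  set C := centralizer (E : Set G) with hC
  set f : G →* G ⧸ C := QuotientGroup.mk' C with hf
  have key : ∀ (k : ℕ) (x : G), x ∈ J → x ^ 2 ^ k = 1 → x ∈ C := by
    intro k
    induction k with
    | zero =>
      intro x _ hx
      rw [pow_zero, pow_one] at hx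
      exact hx ▸ C.one_mem
    | succ k ih =>
      intro x hx hxk
      have h2 : x ^ 2 ∈ C := ih _ (pow_mem hx 2) (by rw [← pow_mul, ← pow_succ']; exact hxk)
      by_contra hnot
      exact no_involution_image hE hO T₀ hJT (hJ.symm ▸ hx) (orderOf_eq_prime
        (by rw [← map_pow]; exact (QuotientGroup.eq_one_iff _).mpr h2)
        (fun h1 => hnot ((QuotientGroup.eq_one_iff _).mp h1)))
  rw [← hJp]
  refine (closure_le _).mpr ?_
  rintro x ⟨hx, k, hk⟩
  exact key k x hx hk

/-- A group generated by `p`-elements inside `U ⊔ O`, `O` of order prime to `p`, lies in `U`. -/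
theorem pCompGroup_le_of_le_sup [Finite G] {p : ℕ} [Fact p.Prime] {J U O : Subgroup G} [U.Normal]
    (hJ : IsPCompGroup p ↥J) (hO : (Nat.card O).Coprime p) (h : J ≤ U ⊔ O) : J ≤ U := by
  have h1 := eq_bot_of_pCompGroup_coprime hJ (f := QuotientGroup.mk' U) (N := O.map (QuotientGroup.mk' U))
    (by rw [← bot_sup_eq (O.map _), ← QuotientGroup.map_mk'_self U, ← Subgroup.map_sup]
        exact map_mono h)
    (hO.coprime_dvd_left (card_map_dvd O _))
  rwa [Subgroup.map_eq_bot_iff, QuotientGroup.ker_mk'] at h1

/-- A perfect subgroup of the generalized Fitting subgroup lies in the layer. -/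
theorem perfect_le_layer [Finite G] {J : Subgroup G} (hJ : ⁅J, J⁆ = J)
    (h : J ≤ generalizedFittingSubgroup G) : J ≤ layer G := by
  set f := QuotientGroup.mk' (layer G) with hf
  have hle : J.map f ≤ (fittingSubgroup G).map f := by
    refine (map_mono h).trans ?_
    rw [generalizedFittingSubgroup, Subgroup.map_sup, hf, QuotientGroup.map_mk'_self, bot_sup_eq]
  have hs : Group.IsSolvable ↥(J.map f) := Core.isSolvable_mono
    (haveI := Core.isNilpotent_map (Core.fittingSubgroup_isNilpotent (G := G)) f
     inferInstance) hle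
  have hp : Group.IsPerfect ↥(J.map f) := Subgroup.isPerfect_iff.mpr (by rw [← map_commutator, hJ])
  have hb : J.map f = ⊥ := by
    by_contra hne
    haveI := (nontrivial_iff_ne_bot _).mpr hne
    haveI := hp
    exact Group.IsPerfect.not_isSolvable ↥(J.map f) hs
  rwa [Subgroup.map_eq_bot_iff, QuotientGroup.ker_mk'] at hb

theorem jcomp_le_layer_aux [Finite G] (hO : oddCore G = ⊥) : ∀ (n : ℕ) (R : Subgroup G),
    IsPGroup 2 R → Nat.card G ≤ n + Nat.card R → ∀ J : Subgroup G, J ≤ centralizer (R : Set G) →
      (J.subgroupOf (centralizer (R : Set G))).IsSubnormal → IsPCompGroup 2 ↥J → J ≤ layer G := by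
  haveI : Fact (Nat.Prime 2) := ⟨Nat.prime_two⟩
  intro n
  induction n using Nat.strong_induction_on with
  | _ n ih =>
  intro R hR hn J hJC hJsn hJ
  set U := generalizedFittingSubgroup G with hU
  have hperf := pCompGroup_subgroup_perfect hJ
  refine perfect_le_layer hperf ?_
  obtain ⟨P, hP⟩ := hR.exists_le_sylow
  have hPU : IsPGroup 2 ↥((P : Subgroup G) ⊓ U) := P.2.to_inf_left
  by_cases hcase : (P : Subgroup G) ⊓ U ≤ R
  · -- `R` contains a Sylow subgroup of the layer and `O_2(G)`
    haveI : (layer G).Normal := inferInstance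
    have hPs : IsPGroup 2 ↥((P : Subgroup G).subgroupOf (layer G)) := P.2.comap_subtype
    set T₀ : Sylow 2 ↥(layer G) := hPs.toSylow (show ¬ 2 ∣ ((P : Subgroup G).subgroupOf (layer G)).index
      from not_dvd_relIndex_sylow_normal P (layer G)) with hT₀
    have hTR : (T₀ : Subgroup ↥(layer G)).map (layer G).subtype ≤ R := by
      refine le_trans ?_ ((inf_le_inf_left _ layer_le_generalizedFitting).trans hcase)
      rw [hT₀, IsPGroup.toSylow_coe, ← subgroupOf_map_subtype]
    have hOE : oddCore ↥(layer G) = ⊥ := by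
      rw [← (Subgroup.map_injective (layer G).subtype_injective).eq_iff, Subgroup.map_bot, ← le_bot_iff,
        ← hO]
      exact subnormal_le_pPrimeCore
        (Core.pPrimeCore_normal.isSubnormal.trans' (Subgroup.Normal.isSubnormal inferInstance))
        (by rw [card_map_of_injective (layer G).subtype_injective]; exact Core.coprime_card_pPrimeCore)
    have h1 : J ≤ centralizer (layer G : Set G) := centralizes_of_perfect layer_perfect hOE hperf
      ((pElemClosure_top_eq_top_iff J).mp hJ.1) T₀ (hJC.trans (centralizer_le hTR))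
    have h2 : J ≤ centralizer (fittingSubgroup G : Set G) := by
      refine hJC.trans (centralizer_le ?_)
      refine (le_inf ?_ fitting_le_generalizedFitting).trans hcase
      rw [fitting_eq_pCore_of_pPrimeCore_eq_bot hO]
      exact Core.pCore_isPGroup.le_sylow_of_normal P
    refine le_trans ?_ centralizer_generalizedFitting_le
    rw [le_centralizer_iff]
    exact sup_le (le_centralizer_iff.mp h1) (le_centralizer_iff.mp h2)
  -- enlarge `R` inside `U`
  set M := normalizer (R : Set G) with hM
  set V := (P : Subgroup G) ⊓ U ⊓ M with hV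
  have hRPU : R ≤ normalizer (((P : Subgroup G) ⊓ U : Subgroup G) : Set G) :=
    le_normalizer_inf (hP.trans le_normalizer) le_normalizer_of_normal
  have hlt : R < R ⊔ ((P : Subgroup G) ⊓ U) := left_lt_sup.mpr hcase
  obtain ⟨x, ⟨hx, hxM⟩, hxR⟩ := SetLike.exists_of_lt
    (Fusion.lt_inf_normalizer_of_isPGroup (P.2.to_le (sup_le hP inf_le_left)) hlt)
  have hRV : R < R ⊔ V := by
    refine left_lt_sup.mpr fun hle => hxR ?_
    have hx' : x ∈ ((R ⊔ ((P : Subgroup G) ⊓ U) : Subgroup G) : Set G) := hx
    rw [coe_mul_of_left_le_normalizer_right _ _ hRPU, Set.mem_mul] at hx'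
    obtain ⟨r, hr, v, hv, rfl⟩ := hx'
    refine R.mul_mem hr (hle ⟨hv, ?_⟩)
    exact (Subgroup.mul_mem_cancel_left M (le_normalizer hr)).mp hxM
  have hR₁ : IsPGroup 2 ↥(R ⊔ V) := P.2.to_le (sup_le hP (inf_le_left.trans inf_le_left))
  have hVp : IsPGroup 2 ↥V := hPU.to_le inf_le_left
  have hJM : J ≤ M := hJC.trans (centralizer_le_normalizer _)
  have hCM : ((centralizer (R : Set G)).subgroupOf M).Normal :=
    (normal_subgroupOf_iff_le_normalizer (centralizer_le_normalizer _)).mpr
      (Coprime.le_normalizer_centralizer le_rfl)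
  have hJMsn : (J.subgroupOf M).IsSubnormal := by
    refine Subgroup.IsSubnormal.trans (fun y hy => hJC hy) ?_ hCM.isSubnormal
    exact hJsn.comap (subgroupOfEquivOfLe (centralizer_le_normalizer (R : Set G))).toMonoidHom
  have hK : IsPComponent 2 (J.subgroupOf M) := (isPComponent_subgroupOf_iff hJM).mpr ⟨hJMsn, hJ⟩
  set O := (oddCore ↥M).map M.subtype with hOdef
  have hOcard : (Nat.card O).Coprime 2 := by
    rw [hOdef, card_map_of_injective M.subtype_injective]
    exact Core.coprime_card_pPrimeCore
  rcases component_le_or_commute hK.2.1 ((Subgroup.Normal.isSubnormal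
    (inferInstance : (U.subgroupOf M).Normal)).quotient (K := oddCore ↥M)) with hle | hcom
  · refine pCompGroup_le_of_le_sup hJ hOcard ?_
    rw [map_le_iff_le_comap, comap_map_eq, QuotientGroup.ker_mk'] at hle
    have h3 := map_mono (f := M.subtype) hle
    rw [map_subgroupOf_eq_of_le hJM, Subgroup.map_sup] at h3
    exact h3.trans (sup_le_sup_right ((subgroupOf_map_subtype U M).le.trans inf_le_left) _)
  -- `V` acts trivially on `J / O(J)`
  have hVJ : ∀ v : ↥M, v ∈ U.subgroupOf M → v ∈ normalizer ((J.subgroupOf M : Subgroup ↥M) : Set ↥M) := by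
    intro v hv
    rw [← eq_pComponentOver hK]
    refine normalizer_le_normalizer_pElemClosure _ (le_normalizer_comap _ ?_)
    exact centralizer_le_normalizer _ (commutator_eq_bot_iff_le_centralizer.mp
      (commutator_eq_bot_symm hcom) (mem_map_of_mem _ hv))
  have hact : ActsTrivially 2 V J := by
    intro v hv k hk
    have hvU : (⟨v, hv.2⟩ : ↥M) ∈ U.subgroupOf M := hv.1.2
    have h4 : ⁅(⟨v, hv.2⟩ : ↥M), (⟨k, hJM hk⟩ : ↥M)⁆ ∈ oddCore ↥M := by
      rw [← QuotientGroup.eq_one_iff]
      show QuotientGroup.mk' (oddCore ↥M) _ = 1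
      rw [map_commutatorElement, commutatorElement_eq_one_iff_mul_comm]
      exact commute_of_commutator_eq_bot (commutator_eq_bot_symm hcom) (mem_map_of_mem _ hvU)
        (mem_map_of_mem _ hk)
    have h5 : ⁅v, k⁆ ∈ J := by
      rw [commutatorElement_def]
      exact J.mul_mem ((mem_normalizer_iff.mp (hVJ _ hvU) ⟨k, hJM hk⟩).mp hk) (J.inv_mem hk)
    have hn : (O.subgroupOf J).Normal := normal_subgroupOf_of_le_normalizer
      (hJM.trans ((le_normalizer_of_normal (H := oddCore ↥M) : (⊤ : Subgroup ↥M) ≤ _) |>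
        fun h => le_trans (range_subtype M).symm.le ((MonoidHom.range_eq_map M.subtype).le.trans
          ((map_mono h).trans (le_normalizer_map M.subtype)))))
    haveI := hn
    have h6 : O.subgroupOf J ≤ oddCore ↥J := Core.le_pPrimeCore (by
      rw [← card_map_of_injective J.subtype_injective, subgroupOf_map_subtype]
      exact hOcard.coprime_dvd_left (card_dvd_of_le inf_le_left))
    exact ⟨⟨_, h5⟩, h6 (show ⁅v, k⁆ ∈ O from ⟨_, h4, rfl⟩), rfl⟩
  obtain ⟨hJ₁, hcov, -, -⟩ := coreComp_spec hVp hJ hact
  have hcen : centralizer ((R ⊔ V : Subgroup G) : Set G) = centralizer (R : Set G) ⊓ centralizer (V : Set G) := by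
    refine le_antisymm (le_inf (centralizer_le (SetLike.coe_subset_coe.mpr le_sup_left))
      (centralizer_le (SetLike.coe_subset_coe.mpr le_sup_right))) ?_
    rw [le_centralizer_iff]
    exact sup_le (le_centralizer_iff.mp inf_le_left) (le_centralizer_iff.mp inf_le_right)
  have hJ₁C : coreComp 2 J V ≤ centralizer ((R ⊔ V : Subgroup G) : Set G) :=
    hcen ▸ le_inf ((coreComp_le J V).trans hJC) (coreComp_le_centralizer J V)
  have hJ₁sn : ((coreComp 2 J V).subgroupOf (centralizer ((R ⊔ V : Subgroup G) : Set G))).IsSubnormal := by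
    set C₁ := centralizer ((R ⊔ V : Subgroup G) : Set G) with hC₁
    have hC₁le : C₁ ≤ centralizer (R : Set G) := hcen.le.trans inf_le_left
    have h7 : ((J ⊓ centralizer (V : Set G)).subgroupOf C₁).IsSubnormal := by
      have h8 := hJsn.comap (inclusion hC₁le)
      convert h8 using 1
      ext y
      exact ⟨fun hy => hy.1, fun hy => ⟨hy, (hcen.le y.2).2⟩⟩
    refine Subgroup.IsSubnormal.step _ _ (comap_mono (pElemClosure_le _)) h7 ?_
    haveI := pElemClosure_normal (p := 2) (J ⊓ centralizer (V : Set G))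
    exact Subgroup.Normal.comap this (subgroupOfEquivOfLe
      (le_inf ((inf_le_left).trans hJC) inf_le_right |>.trans hcen.ge :
        J ⊓ centralizer (V : Set G) ≤ C₁)).toMonoidHom
  have hlt' := Core.card_lt_of_lt hRV
  have hle' := Subgroup.card_le_card_group (R ⊔ V)
  have hJ₁U : coreComp 2 J V ≤ U := (ih (Nat.card G - Nat.card ↥(R ⊔ V)) (by omega) (R ⊔ V) hR₁ (by omega)
    _ hJ₁C hJ₁sn hJ₁).trans layer_le_generalizedFitting
  refine pCompGroup_le_of_le_sup hJ (O := (oddCore ↥J).map J.subtype) ?_
    (hcov.trans (sup_le_sup_right hJ₁U _))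
  rw [card_map_of_injective J.subtype_injective]
  exact Core.coprime_card_pPrimeCore

/-- In a group with trivial core, the 2-components of centralisers of 2-subgroups lie in the layer. -/
theorem jcomp_le_layer [Finite G] (hO : oddCore G = ⊥) {R : Subgroup G} (hR : IsPGroup 2 R)
    {J : Subgroup G} (hJC : J ≤ centralizer (R : Set G))
    (hJsn : (J.subgroupOf (centralizer (R : Set G))).IsSubnormal) (hJ : IsPCompGroup 2 ↥J) :
    J ≤ layer G :=
  jcomp_le_layer_aux hO (Nat.card G) R hR (Nat.le_add_right _ _) J hJC hJsn hJ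

/-- **L-balance** for the prime 2. -/
theorem pLayer_centralizer_le_two [Finite G] {T : Subgroup G} (hT : IsPGroup 2 T) :
    (pLayer 2 ↥(centralizer (T : Set G))).map (centralizer (T : Set G)).subtype ≤ pLayer 2 G := by
  haveI : Fact (Nat.Prime 2) := ⟨Nat.prime_two⟩
  set C := centralizer (T : Set G) with hC
  rw [map_le_iff_le_comap]
  refine sSup_le fun J hJ => ?_
  rw [← map_le_iff_le_comap]
  set f := QuotientGroup.mk' (pPrimeCore 2 G) with hf
  have hker : (Nat.card f.ker).Coprime 2 := by
    rw [hf, QuotientGroup.ker_mk']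
    exact Core.coprime_card_pPrimeCore
  have hCf : C.map f = centralizer ((T.map f : Subgroup (G ⧸ pPrimeCore 2 G)) : Set (G ⧸ pPrimeCore 2 G)) :=
    map_centralizer_of_coprime (QuotientGroup.mk'_surjective _) hker hT
  obtain ⟨hsn, hJg⟩ := isPComponent_iff_intrinsic.mp hJ
  have hJ' : IsPCompGroup 2 ↥(J.map C.subtype) :=
    isPCompGroup_congr (equivMapOfInjective J _ C.subtype_injective) hJg
  have h2 : J.map C.subtype ≤ pLayer 2 G ⊔ pPrimeCore 2 G := by
    have h : (J.map C.subtype).map f ≤ (pLayer 2 G).map f := by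
      by_cases hb : (J.map C.subtype).map f = ⊥
      · rw [hb]
        exact bot_le
      rw [map_pLayer]
      refine jcomp_le_layer Core.pPrimeCore_quotient_eq_bot (hT.map f) ?_ ?_ (isPCompGroup_map f hJ' hb)
      · exact (map_mono (map_subtype_le J)).trans hCf.le
      · set g : ↥C →* ↥(centralizer ((T.map f : Subgroup (G ⧸ pPrimeCore 2 G)) : Set (G ⧸ pPrimeCore 2 G))) :=
          (MulEquiv.subgroupCongr hCf).toMonoidHom.comp (f.subgroupMap C) with hg
        have hgs : Function.Surjective g :=
          (MulEquiv.subgroupCongr hCf).surjective.comp (f.subgroupMap_surjective C)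
        convert hsn.map hgs using 1
        ext y
        constructor
        · rintro ⟨_, ⟨z, hz, rfl⟩, hzy⟩
          exact ⟨z, hz, Subtype.ext hzy⟩
        · rintro ⟨z, hz, rfl⟩
          exact ⟨_, ⟨z, hz, rfl⟩, rfl⟩
    rwa [map_le_iff_le_comap, comap_map_eq, QuotientGroup.ker_mk'] at h
  have hgen : J.map C.subtype ≤ pElemClosure 2 (pLayer 2 G ⊔ pPrimeCore 2 G) := by
    rw [← (pElemClosure_top_eq_top_iff _).mp hJ'.1]
    exact pElemClosure_mono h2
  exact hgen.trans (pElemClosure_le_of_cover Core.coprime_card_pPrimeCore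
    (isSubnormal_sSup fun K hK => hK.1) le_rfl)

end Cfsg.Agent.Layer
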