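import Cfsg.Agent.Layer.Subnormal

/-!
Quasisimple groups, components and the layer.
-/

set_option autoImplicit false
set_option linter.style.haveILetI false

namespace Cfsg.Agent.Layer

open Subgroup Cfsg
open scoped commutatorElement

universe u v

variable {G : Type u} [Group G] {H : Type v} [Group H]

/-! ### Small facts -/

theorem commute_of_commutator_eq_bot {A B : Subgroup G} (h : ⁅A, B⁆ = ⊥) {a b : G} (ha : a ∈ A)
    (hb : b ∈ B) : a * b = b * a :=
  (mem_centralizer_iff.mp (commutator_eq_bot_iff_le_centralizer.mp h ha) b hb).symm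

theorem commutator_eq_bot_symm {A B : Subgroup G} (h : ⁅A, B⁆ = ⊥) : ⁅B, A⁆ = ⊥ := by
  rwa [Subgroup.commutator_comm]

theorem mem_map_center_iff (K : Subgroup G) {x : G} :
    x ∈ (center ↥K).map K.subtype ↔ x ∈ K ∧ x ∈ centralizer (K : Set G) := by
  constructor
  · rintro ⟨⟨z, hz⟩, hzc, rfl⟩
    exact ⟨hz, mem_centralizer_iff.mpr fun y hy =>
      congrArg Subtype.val (mem_center_iff.mp hzc ⟨y, hy⟩)⟩
  · rintro ⟨hx, hc⟩
    exact ⟨⟨x, hx⟩, mem_center_iff.mpr fun y => Subtype.ext (mem_centralizer_iff.mp hc y y.2), rfl⟩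

theorem map_center_eq_inf (K : Subgroup G) :
    (center ↥K).map K.subtype = K ⊓ centralizer (K : Set G) := by
  ext x
  rw [mem_map_center_iff, Subgroup.mem_inf]

theorem sSup_le_centralizer {s : Set (Subgroup G)} {T : Set G}
    (h : ∀ M ∈ s, M ≤ centralizer T) : sSup s ≤ centralizer T := sSup_le h

theorem le_centralizer_sSup {s : Set (Subgroup G)} {A : Subgroup G}
    (h : ∀ M ∈ s, ⁅A, M⁆ = ⊥) : A ≤ centralizer ((sSup s : Subgroup G) : Set G) := by
  rw [le_centralizer_iff]
  exact sSup_le fun M hM => le_centralizer_iff.mp (commutator_eq_bot_iff_le_centralizer.mp (h M hM))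

theorem commutator_sSup_eq_bot {s : Set (Subgroup G)} {A : Subgroup G}
    (h : ∀ M ∈ s, ⁅A, M⁆ = ⊥) : ⁅A, sSup s⁆ = ⊥ :=
  commutator_eq_bot_iff_le_centralizer.mpr (le_centralizer_sSup h)

/-! ### Quasisimple groups -/

theorem isQuasisimple_congr (e : G ≃* H) (h : IsQuasisimple G) : IsQuasisimple H := by
  obtain ⟨h1, h2⟩ := h
  have hc : (center G).map e.toMonoidHom = center H := by
    ext x
    constructor
    · rintro ⟨z, hz, rfl⟩
      rw [mem_center_iff]
      intro y
      obtain ⟨y, rfl⟩ := e.surjective y
      simpa using congrArg e (mem_center_iff.mp hz y)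
    · intro hx
      obtain ⟨z, rfl⟩ := e.surjective x
      exact ⟨z, mem_center_iff.mpr fun y => e.injective (by simpa using mem_center_iff.mp hx (e y)),
        rfl⟩
  exact ⟨Group.IsPerfect.ofSurjective (f := e.toMonoidHom) e.surjective,
    (QuotientGroup.congr (center G) (center H) e hc).symm.isSimpleGroup⟩

theorem isQuasisimple_congr_iff (e : G ≃* H) : IsQuasisimple G ↔ IsQuasisimple H :=
  ⟨isQuasisimple_congr e, isQuasisimple_congr e.symm⟩

theorem qs_nontrivial (h : IsQuasisimple G) : Nontrivial G := by
  haveI := h.2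
  exact (QuotientGroup.mk'_surjective (center G)).nontrivial

theorem qs_center_ne_top (h : IsQuasisimple G) : center G ≠ ⊤ := by
  intro hc
  haveI := qs_nontrivial h
  haveI := h.1
  exact Group.IsPerfect.not_isMulCommutative G (center_eq_top_iff.mp hc)

theorem qs_not_isSolvable (h : IsQuasisimple G) : ¬ Group.IsSolvable G := by
  haveI := qs_nontrivial h
  haveI := h.1
  exact Group.IsPerfect.not_isSolvable G

theorem qs_normal_cases (h : IsQuasisimple G) {N : Subgroup G} (hN : N.Normal) :
    N = ⊤ ∨ N ≤ center G := by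
  haveI := h.2
  rcases (hN.map (QuotientGroup.mk' (center G)) (QuotientGroup.mk'_surjective _)).eq_bot_or_eq_top
    with hb | ht
  · right
    rwa [Subgroup.map_eq_bot_iff, QuotientGroup.ker_mk'] at hb
  · left
    have hsup : center G ⊔ N = ⊤ := by
      rw [← QuotientGroup.comap_map_mk', ht, Subgroup.comap_top]
    have := hN.commutator_le_of_self_sup_commutative_eq_top (H := center G) (by rwa [sup_comm]) inferInstance
    rw [h.1.commutator_eq_top] at this
    exact top_le_iff.mp this

theorem qs_subnormal_cases (h : IsQuasisimple G) {N : Subgroup G} (hN : N.IsSubnormal) :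
    N = ⊤ ∨ N ≤ center G := by
  rcases hN.lt_normal with h' | ⟨K, hK, hNK, hlt⟩
  · exact Or.inl h'
  · exact Or.inr (hNK.trans ((qs_normal_cases h hK).resolve_left hlt.ne))

theorem isQuasisimple_of_normal_cases [Nontrivial G] (hp : Group.IsPerfect G)
    (h : ∀ N : Subgroup G, N.Normal → N = ⊤ ∨ N ≤ center G) : IsQuasisimple G := by
  refine ⟨hp, ?_⟩
  haveI : Nontrivial (G ⧸ center G) := by
    refine QuotientGroup.nontrivial_iff.mpr fun hc => ?_
    haveI := hp
    exact Group.IsPerfect.not_isMulCommutative G (center_eq_top_iff.mp hc)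
  refine ⟨fun N hN => ?_⟩
  have hN' := Subgroup.map_comap_eq_self_of_surjective (QuotientGroup.mk'_surjective (center G)) N
  rcases h (N.comap (QuotientGroup.mk' (center G))) (hN.comap _) with ht | hc
  · right
    rw [← hN', ht]
    exact Subgroup.map_top_of_surjective _ (QuotientGroup.mk'_surjective _)
  · left
    rw [← hN', Subgroup.map_eq_bot_iff, QuotientGroup.ker_mk']
    exact hc

theorem qs_of_surjective [Nontrivial H] (h : IsQuasisimple G) (f : G →* H)
    (hf : Function.Surjective f) : IsQuasisimple H := by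
  haveI := h.1
  refine isQuasisimple_of_normal_cases (Group.IsPerfect.ofSurjective hf) fun N hN => ?_
  rcases qs_normal_cases h (hN.comap f) with ht | hc
  · left
    rw [← Subgroup.map_comap_eq_self_of_surjective hf N, ht]
    exact Subgroup.map_top_of_surjective f hf
  · right
    rw [← Subgroup.map_comap_eq_self_of_surjective hf N]
    rintro _ ⟨z, hz, rfl⟩
    rw [mem_center_iff]
    intro y
    obtain ⟨y, rfl⟩ := hf y
    rw [← map_mul, ← map_mul, mem_center_iff.mp (hc hz) y]

theorem qs_quotient (h : IsQuasisimple G) {N : Subgroup G} [N.Normal] (hN : N ≠ ⊤) :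
    IsQuasisimple (G ⧸ N) := by
  haveI : Nontrivial (G ⧸ N) := QuotientGroup.nontrivial_iff.mpr hN
  exact qs_of_surjective h _ (QuotientGroup.mk'_surjective N)

/-! ### Quasisimple subgroups -/

theorem qs_subgroup_perfect {K : Subgroup G} (h : IsQuasisimple K) : ⁅K, K⁆ = K :=
  Subgroup.isPerfect_iff.mp h.1

theorem qs_subgroup_ne_bot {K : Subgroup G} (h : IsQuasisimple K) : K ≠ ⊥ :=
  (nontrivial_iff_ne_bot K).mp (qs_nontrivial h)

theorem qs_subgroup_not_abelian {K : Subgroup G} (h : IsQuasisimple K) : ⁅K, K⁆ ≠ ⊥ := by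
  rw [qs_subgroup_perfect h]
  exact qs_subgroup_ne_bot h

theorem qs_sub_subnormal_cases {K N : Subgroup G} (h : IsQuasisimple K) (hNK : N ≤ K)
    (hN : (N.subgroupOf K).IsSubnormal) : N = K ∨ ⁅N, K⁆ = ⊥ := by
  rcases qs_subnormal_cases h hN with ht | hc
  · exact Or.inl (le_antisymm hNK (subgroupOf_eq_top.mp ht))
  · refine Or.inr (commutator_eq_bot_iff_le_centralizer.mpr fun x hx => ?_)
    exact ((mem_map_center_iff K).mp ⟨⟨x, hNK hx⟩, hc hx, rfl⟩).2

theorem qs_sub_normalized_cases {K N : Subgroup G} (h : IsQuasisimple K) (hNK : N ≤ K)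
    (hN : K ≤ normalizer (N : Set G)) : N = K ∨ ⁅N, K⁆ = ⊥ :=
  qs_sub_subnormal_cases h hNK ((normal_subgroupOf_iff_le_normalizer hNK).mpr hN).isSubnormal

/-! ### Components -/

theorem isComponent_map_subtype_iff {K : Subgroup G} (hK : K.IsSubnormal) (L : Subgroup K) :
    IsComponent L ↔ IsComponent (L.map K.subtype) := by
  have e := Subgroup.equivMapOfInjective L _ K.subtype_injective
  constructor
  · rintro ⟨h1, h2⟩
    exact ⟨h1.trans' hK, isQuasisimple_congr e h2⟩
  · rintro ⟨h1, h2⟩
    refine ⟨?_, isQuasisimple_congr e.symm h2⟩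
    have h : ((L.map K.subtype).subgroupOf K).IsSubnormal := h1.subgroupOf
    rwa [subgroupOf, comap_map_eq_self_of_injective K.subtype_injective] at h

theorem isComponent_subgroupOf {K L : Subgroup G} (hL : IsComponent L) (hLK : L ≤ K) :
    IsComponent (L.subgroupOf K) :=
  ⟨hL.1.subgroupOf, isQuasisimple_congr (subgroupOfEquivOfLe hLK).symm hL.2⟩

theorem isComponent_map_surj {L : Subgroup G} (e : G ≃* H) (hL : IsComponent L) :
    IsComponent (L.map e.toMonoidHom) :=
  ⟨hL.1.map e.surjective,
    isQuasisimple_congr (Subgroup.equivMapOfInjective L _ e.injective) hL.2⟩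

theorem isComponent_map_conj {L : Subgroup G} (hL : IsComponent L) (g : G) :
    IsComponent (L.map (MulAut.conj g).toMonoidHom) := isComponent_map_surj (MulAut.conj g) hL

theorem component_le_or_commute_aux : ∀ (n : ℕ) (G : Type u) [Group G] [Finite G],
    Nat.card G ≤ n → ∀ L S : Subgroup G, IsComponent L → S.IsSubnormal → L ≤ S ∨ ⁅L, S⁆ = ⊥ := by
  intro n
  induction n with
  | zero =>
    intro G _ _ hn
    have := Nat.card_pos (α := G)
    omega
  | succ n ih =>
    intro G _ _ hn L S hL hS
    have hsmall : ∀ K : Subgroup G, K < ⊤ → Nat.card K ≤ n := by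
      intro K hK
      have := Subgroup.card_le_card_group K
      have hne : Nat.card K ≠ Nat.card G := fun he => hK.ne (Subgroup.eq_top_of_card_eq K he)
      omega
    have hin : ∀ K : Subgroup G, K < ⊤ → ∀ T : Subgroup G, T.IsSubnormal → L ≤ K → T ≤ K →
        L ≤ T ∨ ⁅L, T⁆ = ⊥ := by
      intro K hK T hT hLK hTK
      rcases ih K (hsmall K hK) (L.subgroupOf K) (T.subgroupOf K) (isComponent_subgroupOf hL hLK)
        hT.subgroupOf with h | h
      · left
        intro x hx
        exact h (x := ⟨x, hLK hx⟩) hx
      · right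
        have h' := congrArg (Subgroup.map K.subtype) h
        rwa [Subgroup.map_commutator, map_subgroupOf_eq_of_le hLK, map_subgroupOf_eq_of_le hTK,
          Subgroup.map_bot] at h'
    rcases hS.lt_normal with rfl | ⟨M, hM, hSM, hMlt⟩
    · exact Or.inl le_top
    haveI := hM
    by_cases hLM : L ≤ M
    · exact hin M hMlt S hS hLM hSM
    rcases hL.1.lt_normal with rfl | ⟨N, hN, hLN, hNlt⟩
    · right
      rcases qs_subgroup_perfect hL.2 with -
      have hqs : IsQuasisimple G := isQuasisimple_congr Subgroup.topEquiv hL.2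
      have hSc : S ≤ center G := (qs_subnormal_cases hqs hS).resolve_left
        fun h => hMlt.ne (top_le_iff.mp (h ▸ hSM))
      rwa [commutator_top_left_eq_bot_iff_le_center]
    haveI := hN
    have hMN : ⁅L, M ⊓ N⁆ = ⊥ := by
      refine (hin N hNlt (M ⊓ N) (hM.isSubnormal.inf hN.isSubnormal) hLN inf_le_right).resolve_left ?_
      exact fun h => hLM (h.trans inf_le_left)
    have h1 : ⁅L, M⁆ ≤ M ⊓ N :=
      le_inf (commutator_le_right _ _) ((commutator_mono hLN le_rfl).trans (commutator_le_left _ _))
    have h2 : ⁅⁅L, M⁆, L⁆ = ⊥ :=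
      le_bot_iff.mp ((commutator_mono h1 le_rfl).trans (commutator_eq_bot_symm hMN).le)
    have h3 : ⁅⁅L, L⁆, M⁆ = ⊥ :=
      commutator_commutator_eq_bot_of_rotate h2 (by rwa [Subgroup.commutator_comm M L])
    rw [qs_subgroup_perfect hL.2] at h3
    exact Or.inr (le_bot_iff.mp ((commutator_mono le_rfl hSM).trans h3.le))

/-- A component lies in each subnormal subgroup or centralises it. -/
theorem component_le_or_commute [Finite G] {L S : Subgroup G} (hL : IsComponent L)
    (hS : S.IsSubnormal) : L ≤ S ∨ ⁅L, S⁆ = ⊥ :=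
  component_le_or_commute_aux _ G le_rfl L S hL hS

theorem component_eq_of_le [Finite G] {L K : Subgroup G} (hL : IsComponent L) (hK : IsComponent K)
    (h : L ≤ K) : L = K := by
  refine (qs_sub_subnormal_cases hK.2 h hL.1.subgroupOf).resolve_right fun hc => ?_
  exact qs_subgroup_not_abelian hL.2 (le_bot_iff.mp ((commutator_mono le_rfl h).trans hc.le))

/-- Distinct components centralise each other. -/
theorem components_commute [Finite G] {L K : Subgroup G} (hL : IsComponent L) (hK : IsComponent K)
    (hne : L ≠ K) : ⁅L, K⁆ = ⊥ :=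
  (component_le_or_commute hL hK.1).resolve_left fun h => hne (component_eq_of_le hL hK h)

theorem component_le_normalizer_component [Finite G] {L K : Subgroup G} (hL : IsComponent L)
    (hK : IsComponent K) : L ≤ normalizer (K : Set G) := by
  rcases eq_or_ne L K with rfl | hne
  · exact le_normalizer
  · exact (commutator_eq_bot_iff_le_centralizer.mp (components_commute hL hK hne)).trans
      (centralizer_le_normalizer _)

/-- A component centralises every solvable subgroup that it normalises. -/
theorem component_commute_solvable [Finite G] {L S : Subgroup G} (hL : IsComponent L)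
    (hs : Group.IsSolvable S) (hinv : L ≤ normalizer (S : Set G)) : ⁅L, S⁆ = ⊥ := by
  have hLT : L ≤ L ⊔ S := le_sup_left
  have hST : S ≤ L ⊔ S := le_sup_right
  have hSn : (S.subgroupOf (L ⊔ S)).Normal := normal_subgroupOf_sup_of_le_normalizer hinv
  rcases component_le_or_commute (isComponent_subgroupOf hL hLT) hSn.isSubnormal with h | h
  · exfalso
    have hle : L ≤ S := fun x hx => h (x := ⟨x, hLT hx⟩) hx
    exact qs_not_isSolvable hL.2
      (Group.isSolvable_of_isSolvable_injective (Subgroup.inclusion_injective hle))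
  · have h' := congrArg (Subgroup.map (L ⊔ S).subtype) h
    rwa [Subgroup.map_commutator, map_subgroupOf_eq_of_le hLT, map_subgroupOf_eq_of_le hST,
      Subgroup.map_bot] at h'

theorem component_commute_subnormal_solvable [Finite G] {L S : Subgroup G} (hL : IsComponent L)
    (hs : Group.IsSolvable S) (hS : S.IsSubnormal) : ⁅L, S⁆ = ⊥ := by
  refine (component_le_or_commute hL hS).resolve_left fun hle => ?_
  exact qs_not_isSolvable hL.2
    (Group.isSolvable_of_isSolvable_injective (Subgroup.inclusion_injective hle))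

/-! ### The layer -/

theorem component_le_layer {L : Subgroup G} (hL : IsComponent L) : L ≤ layer G :=
  le_sSup (a := L) (show L ∈ {K : Subgroup G | IsComponent K} from hL)

theorem map_layer_equiv (e : G ≃* H) : (layer G).map e.toMonoidHom = layer H := by
  refine le_antisymm ?_ (sSup_le fun K hK => ?_)
  · rw [Subgroup.map_le_iff_le_comap]
    exact sSup_le fun K hK =>
      Subgroup.map_le_iff_le_comap.mp (component_le_layer (isComponent_map_surj e hK))
  · have h := isComponent_map_surj e.symm hK
    intro x hx
    exact ⟨e.symm x, component_le_layer h ⟨x, hx, rfl⟩, e.apply_symm_apply x⟩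

instance layer_characteristic : (layer G).Characteristic :=
  characteristic_iff_map_eq.mpr fun e => map_layer_equiv e

theorem layer_eq_bot_iff : layer G = ⊥ ↔ ∀ L : Subgroup G, ¬ IsComponent L := by
  refine ⟨fun h L hL => qs_subgroup_ne_bot hL.2 (le_bot_iff.mp (h ▸ component_le_layer hL)),
    fun h => ?_⟩
  exact le_bot_iff.mp (sSup_le fun L hL => absurd hL (h L))

theorem layer_le_normalizer_component [Finite G] {L : Subgroup G} (hL : IsComponent L) :
    layer G ≤ normalizer (L : Set G) :=
  sSup_le fun _ hK => component_le_normalizer_component hK hL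

theorem component_normal_in_layer [Finite G] {L : Subgroup G} (hL : IsComponent L) :
    (L.subgroupOf (layer G)).Normal :=
  (normal_subgroupOf_iff_le_normalizer (component_le_layer hL)).mpr
    (layer_le_normalizer_component hL)

theorem sSup_components_perfect {s : Set (Subgroup G)} (hs : ∀ L ∈ s, IsComponent L) :
    ⁅sSup s, sSup s⁆ = sSup s :=
  le_antisymm (commutator_le_self _) (sSup_le fun L hL =>
    (qs_subgroup_perfect (hs L hL).2).symm.le.trans (commutator_mono (le_sSup hL) (le_sSup hL)))

theorem layer_perfect : ⁅layer G, layer G⁆ = layer G := sSup_components_perfect fun _ h => h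

theorem layer_eq_bot_of_isSolvable [Group.IsSolvable G] : layer G = ⊥ :=
  layer_eq_bot_iff.mpr fun _ hL => qs_not_isSolvable hL.2 inferInstance

theorem layer_commute_of_subnormal_solvable [Finite G] {S : Subgroup G}
    (hs : Group.IsSolvable S) (hS : S.IsSubnormal) : ⁅layer G, S⁆ = ⊥ := by
  rw [Subgroup.commutator_comm]
  exact commutator_sSup_eq_bot fun L hL =>
    commutator_eq_bot_symm (component_commute_subnormal_solvable hL hs hS)

theorem layer_le_centralizer_fitting [Finite G] :
    layer G ≤ centralizer (fittingSubgroup G : Set G) := by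
  refine le_centralizer_sSup fun N hN => ?_
  exact layer_commute_of_subnormal_solvable
    (haveI := hN.2; inferInstance) hN.1.isSubnormal

/-- The layer of a subgroup, as a subgroup of `G`, is generated by the images of its components. -/
theorem map_layer_subtype_eq_sSup (K : Subgroup G) :
    (layer ↥K).map K.subtype =
      sSup ((fun L : Subgroup K => L.map K.subtype) '' {L | IsComponent L}) := by
  rw [layer, sSup_eq_iSup, Subgroup.map_iSup, sSup_image]
  simp only [Subgroup.map_iSup]

theorem map_layer_subnormal {K : Subgroup G} (hK : K.IsSubnormal) :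
    (layer ↥K).map K.subtype = sSup {L : Subgroup G | IsComponent L ∧ L ≤ K} := by
  rw [map_layer_subtype_eq_sSup]
  congr 1
  ext L
  constructor
  · rintro ⟨L, hL, rfl⟩
    exact ⟨(isComponent_map_subtype_iff hK L).mp hL, map_subtype_le L⟩
  · rintro ⟨hL, hle⟩
    exact ⟨L.subgroupOf K, isComponent_subgroupOf hL hle, map_subgroupOf_eq_of_le hle⟩

theorem map_layer_subnormal_le {K : Subgroup G} (hK : K.IsSubnormal) :
    (layer ↥K).map K.subtype ≤ layer G := by
  rw [map_layer_subnormal hK]
  exact sSup_le fun L hL => component_le_layer hL.1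

/-- The centre of a join of components is the join of their centres. -/
theorem center_sSup_components [Finite G] {s : Set (Subgroup G)} (hs : ∀ L ∈ s, IsComponent L) :
    sSup s ⊓ centralizer ((sSup s : Subgroup G) : Set G) =
      sSup ((fun L : Subgroup G => L ⊓ centralizer (L : Set G)) '' s) := by
  refine le_antisymm ?_ ?_
  · induction s, Set.toFinite s using Set.Finite.induction_on with
    | empty => simp
    | @insert a t hat _ iht =>
      have ht : ∀ L ∈ t, IsComponent L := fun L hL => hs L (Set.mem_insert_of_mem _ hL)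
      have ha : IsComponent a := hs a (Set.mem_insert _ _)
      have hcomm : ⁅a, sSup t⁆ = ⊥ := commutator_sSup_eq_bot fun L hL =>
        components_commute ha (ht L hL) fun h => hat (h ▸ hL)
      have hnorm : a ≤ normalizer ((sSup t : Subgroup G) : Set G) :=
        (commutator_eq_bot_iff_le_centralizer.mp hcomm).trans (centralizer_le_normalizer _)
      rw [sSup_insert, Set.image_insert_eq, sSup_insert]
      rintro z ⟨hz, hzc⟩
      replace hz : z ∈ ((a ⊔ sSup t : Subgroup G) : Set G) := hz
      rw [Subgroup.coe_mul_of_left_le_normalizer_right _ _ hnorm, Set.mem_mul] at hz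
      obtain ⟨l, hl, m, hm, rfl⟩ := hz
      have hzc' := mem_centralizer_iff.mp hzc
      have hlc : l ∈ centralizer (a : Set G) := mem_centralizer_iff.mpr fun y hy => by
        have h1 : y * m = m * y := commute_of_commutator_eq_bot hcomm hy hm
        have h2 : y * (l * m) = l * m * y := hzc' y (le_sup_left (b := sSup t) hy)
        have h3 : y * l * m = l * y * m := by
          rw [mul_assoc, h2, mul_assoc, ← h1, mul_assoc]
        exact mul_right_cancel h3
      have hmc : m ∈ centralizer ((sSup t : Subgroup G) : Set G) :=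
        mem_centralizer_iff.mpr fun y hy => by
          have h1 : l * y = y * l := commute_of_commutator_eq_bot hcomm hl hy
          have h2 : y * (l * m) = l * m * y := hzc' y (le_sup_right (a := a) hy)
          have h3 : l * (y * m) = l * (m * y) := by
            rw [← mul_assoc, h1, mul_assoc, h2, mul_assoc]
          exact mul_left_cancel h3
      exact mul_mem (Subgroup.mem_sup_left ⟨hl, hlc⟩) (Subgroup.mem_sup_right (iht ht ⟨hm, hmc⟩))
  · refine sSup_le ?_
    rintro _ ⟨L, hL, rfl⟩
    refine le_inf (inf_le_left.trans (le_sSup hL)) (le_centralizer_sSup fun M hM => ?_)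
    rcases eq_or_ne L M with rfl | hne
    · exact commutator_eq_bot_iff_le_centralizer.mpr inf_le_right
    · exact le_bot_iff.mp ((commutator_mono inf_le_left le_rfl).trans
        (components_commute (hs L hL) (hs M hM) hne).le)

/-- A component that a subgroup moves or acts on nontrivially lies in the commutator with it. -/
theorem component_le_commutator_or_commute [Finite G] {L U : Subgroup G} (hL : IsComponent L) :
    L ≤ ⁅layer G, U⁆ ∨ ⁅L, U⁆ = ⊥ := by
  have hE : layer G ≤ normalizer ((⁅layer G, U⁆ : Subgroup G) : Set G) := normalizer_commutator_ge_left _ _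
  by_cases hfix : ∀ u ∈ U, L.map (MulAut.conj u).toMonoidHom = L
  · have hUL : U ≤ normalizer (L : Set G) := fun u hu => mem_normalizer_iff_map_conj_eq.mpr (hfix u hu)
    have hle : ⁅L, U⁆ ≤ L := Subgroup.le_normalizer_iff_commutator_le_left.mp hUL
    rcases qs_sub_normalized_cases hL.2 hle (normalizer_commutator_ge_left _ _) with h | h
    · exact Or.inl (h.symm.le.trans (commutator_mono (component_le_layer hL) le_rfl))
    · right
      have h3 : ⁅⁅L, L⁆, U⁆ = ⊥ :=
        commutator_commutator_eq_bot_of_rotate h (by rwa [Subgroup.commutator_comm U L])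
      rwa [qs_subgroup_perfect hL.2] at h3
  · push Not at hfix
    obtain ⟨u, hu, hne⟩ := hfix
    left
    have hL' := isComponent_map_conj hL u
    have hc := components_commute hL hL' hne.symm
    rw [← qs_subgroup_perfect hL.2, commutator_le]
    intro a ha b hb
    have h1 : ⁅b, u⁆ ∈ ⁅layer G, U⁆ := commutator_mem_commutator (component_le_layer hL hb) hu
    have h2 : u * b⁻¹ * u⁻¹ ∈ L.map (MulAut.conj u).toMonoidHom :=
      conj_mem_map_conj u (inv_mem hb)
    have h3 : a * (u * b⁻¹ * u⁻¹) * a⁻¹ = u * b⁻¹ * u⁻¹ := by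
      rw [commute_of_commutator_eq_bot hc ha h2, mul_inv_cancel_right]
    have h4 : a * ⁅b, u⁆ * a⁻¹ ∈ ⁅layer G, U⁆ :=
      (Subgroup.le_normalizer_iff.mp hE) a (component_le_layer hL ha) _ h1
    have h5 : ⁅a, b⁆ = a * ⁅b, u⁆ * a⁻¹ * ⁅b, u⁆⁻¹ := by
      have e : a * ⁅b, u⁆ * a⁻¹ = a * b * a⁻¹ * (a * (u * b⁻¹ * u⁻¹) * a⁻¹) := by
        simp only [commutatorElement_def, mul_assoc, inv_mul_cancel_left]
      rw [e, h3]
      simp only [commutatorElement_def, mul_inv_rev, inv_inv, mul_assoc, inv_mul_cancel_left,
        mul_inv_cancel_left]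
    rw [h5]
    exact mul_mem h4 (inv_mem h1)

end Cfsg.Agent.Layer
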