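import Cfsg.Agent.Layer.PConstraint

/-!
`p`-components and the `p`-layer. The `p`-component over a component `L` of `G / O_{p'}(G)` is the
subgroup generated by the `p`-elements of the preimage of `L`.
-/

set_option autoImplicit false
set_option linter.style.haveILetI false

namespace Cfsg.Agent.Layer

open Subgroup Cfsg

universe u v

variable {G : Type u} [Group G] {H : Type v} [Group H] {p : ℕ}

/-- The subgroup generated by the elements of `p`-power order of `S`. -/
def pElemClosure (p : ℕ) (S : Subgroup G) : Subgroup G :=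
  closure {x | x ∈ S ∧ ∃ k : ℕ, x ^ p ^ k = 1}

theorem pElemClosure_le (S : Subgroup G) : pElemClosure p S ≤ S :=
  (closure_le _).mpr fun _ hx => hx.1

theorem pElem_mem_pElemClosure {S : Subgroup G} {x : G} (hx : x ∈ S) {k : ℕ} (hk : x ^ p ^ k = 1) :
    x ∈ pElemClosure p S := subset_closure ⟨hx, k, hk⟩

theorem normalizer_le_normalizer_pElemClosure (S : Subgroup G) :
    normalizer (S : Set G) ≤ normalizer ((pElemClosure p S : Subgroup G) : Set G) := by
  refine le_normalizer_closure_iff.mpr fun g hg x hx => subset_closure ⟨?_, ?_⟩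
  · exact (mem_normalizer_iff.mp hg x).mp hx.1
  · obtain ⟨k, hk⟩ := hx.2
    exact ⟨k, by rw [conj_pow, hk, mul_one, mul_inv_cancel]⟩

theorem pElemClosure_normal (S : Subgroup G) : ((pElemClosure p S).subgroupOf S).Normal :=
  (normal_subgroupOf_iff_le_normalizer (pElemClosure_le S)).mpr
    (le_normalizer.trans (normalizer_le_normalizer_pElemClosure S))

theorem isSubnormal_pElemClosure {S : Subgroup G} (hS : S.IsSubnormal) :
    (pElemClosure p S).IsSubnormal :=
  Subgroup.IsSubnormal.step _ _ (pElemClosure_le S) hS (pElemClosure_normal S)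

theorem pElem_mem_of_normal [Finite G] [Fact p.Prime] {N : Subgroup G} [N.Normal]
    (h : N.index.Coprime p) {x : G} {k : ℕ} (hk : x ^ p ^ k = 1) : x ∈ N := by
  have h1 : orderOf (QuotientGroup.mk' N x) ∣ p ^ k :=
    orderOf_dvd_of_pow_eq_one (by rw [← map_pow, hk, map_one])
  have h2 : orderOf (QuotientGroup.mk' N x) ∣ N.index := orderOf_dvd_natCard _
  have h3 := Nat.eq_one_of_dvd_coprimes (h.pow_right k) h2 h1
  rwa [orderOf_eq_one_iff, QuotientGroup.mk'_apply, QuotientGroup.eq_one_iff] at h3

/-- A subnormal subgroup of index prime to `p` contains every `p`-element. -/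
theorem pElem_mem_of_subnormal [Finite G] [Fact p.Prime] {S : Subgroup G} (hS : S.IsSubnormal)
    (h : S.index.Coprime p) {x : G} {k : ℕ} (hk : x ^ p ^ k = 1) : x ∈ S := by
  induction hS with
  | top => exact mem_top x
  | step S K hSK hK hN ih =>
    have hxK : x ∈ K := ih (h.coprime_dvd_left (index_dvd_of_le hSK))
    haveI := hN
    have := pElem_mem_of_normal (N := S.subgroupOf K)
      (h.coprime_dvd_left (relIndex_dvd_index_of_le hSK)) (x := ⟨x, hxK⟩) (k := k)
      (Subtype.ext (by rw [SubmonoidClass.coe_pow]; exact hk))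
    exact this

/-- If `S` is subnormal and covers `T` modulo a normal subgroup of order prime to `p`, then `S`
contains all `p`-elements of `T`. -/
theorem pElemClosure_le_of_cover [Finite G] [Fact p.Prime] {S T N : Subgroup G} [N.Normal]
    (hN : (Nat.card N).Coprime p) (hS : S.IsSubnormal) (hST : T ≤ S ⊔ N) :
    pElemClosure p T ≤ S := by
  refine (closure_le _).mpr fun x hx => ?_
  obtain ⟨hxT, k, hk⟩ := hx
  have hcop : (S.subgroupOf (S ⊔ N)).index.Coprime p := by
    refine hN.coprime_dvd_left (Nat.dvd_of_mul_dvd_mul_left (Nat.card_pos (α := S)) ?_)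
    refine dvd_trans (dvd_of_eq ?_) (card_sup_dvd_of_le_normalizer le_normalizer_of_normal)
    rw [← Nat.card_congr (subgroupOfEquivOfLe (le_sup_left : S ≤ S ⊔ N)).toEquiv]
    exact Subgroup.card_mul_index _
  exact pElem_mem_of_subnormal hS.subgroupOf hcop (x := ⟨x, hST hxT⟩) (k := k)
    (Subtype.ext (by rw [SubmonoidClass.coe_pow]; exact hk))

theorem coprime_index_pElemClosure [Finite G] [hp : Fact p.Prime] (S : Subgroup G) :
    ((pElemClosure p S).subgroupOf S).index.Coprime p := by
  obtain ⟨P⟩ := (inferInstance : Nonempty (Sylow p ↥S))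
  have hle : (P : Subgroup ↥S) ≤ (pElemClosure p S).subgroupOf S := by
    intro x hx
    obtain ⟨k, hk⟩ := P.isPGroup' ⟨x, hx⟩
    refine pElem_mem_pElemClosure x.2 (k := k) ?_
    exact congrArg (fun y : (P : Subgroup ↥S) => ((y : ↥S) : G)) hk
  exact ((hp.out.coprime_iff_not_dvd.mpr P.not_dvd_index).symm).coprime_dvd_left (index_dvd_of_le hle)

theorem dvd_card_component [Finite G] [hp : Fact p.Prime] (hO : pPrimeCore p G = ⊥) {L : Subgroup G}
    (hL : IsComponent L) : p ∣ Nat.card L := by
  by_contra h
  exact qs_subgroup_ne_bot hL.2 (le_bot_iff.mp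
    (hO ▸ subnormal_le_pPrimeCore hL.1 (hp.out.coprime_iff_not_dvd.mpr h).symm))

/-- In a group with trivial `p'`-core, a component has no proper normal subgroup of `p'`-index. -/
theorem component_eq_of_coprime_index [Finite G] [hp : Fact p.Prime] (hO : pPrimeCore p G = ⊥)
    {L : Subgroup G} (hL : IsComponent L) {N : Subgroup ↥L} [N.Normal] (h : N.index.Coprime p) :
    N = ⊤ := by
  refine (qs_normal_cases hL.2 ‹N.Normal›).resolve_right fun hc => ?_
  obtain ⟨P⟩ := (inferInstance : Nonempty (Sylow p ↥L))
  have hPN : (P : Subgroup ↥L) ≤ N := fun x hx => by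
    obtain ⟨k, hk⟩ := P.isPGroup' ⟨x, hx⟩
    exact pElem_mem_of_normal h (congrArg Subtype.val hk)
  have hPc := hPN.trans hc
  haveI : (P : Subgroup ↥L).Normal := by
    rw [← normalizer_eq_top_iff, eq_top_iff]
    refine le_trans ?_ (centralizer_le_normalizer _)
    exact le_centralizer_iff.mp (hPc.trans (center_le_centralizer _))
  obtain ⟨K, hK⟩ := exists_right_complement'_of_coprime P.card_coprime_index
  have hKn : K.Normal := by
    rw [← normalizer_eq_top_iff, eq_top_iff, ← hK.sup_eq_top]
    exact sup_le ((hPc.trans (center_le_centralizer _)).trans (centralizer_le_normalizer _)) le_normalizer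
  haveI : IsMulCommutative ↥(P : Subgroup ↥L) :=
    le_centralizer_iff_isMulCommutative.mp (hPc.trans (center_le_centralizer _))
  have htop : ⊤ ≤ K := by
    have := hKn.commutator_le_of_self_sup_commutative_eq_top (by rw [sup_comm]; exact hK.sup_eq_top)
      inferInstance
    rwa [hL.2.1.commutator_eq_top] at this
  have hcard : (Nat.card ↥L).Coprime p := by
    have h1 : Nat.card K = (P : Subgroup ↥L).index := hK.symm.index_eq_card.symm
    have h2 : Nat.card K = Nat.card ↥L := by rw [top_le_iff.mp htop, Subgroup.card_top]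
    rw [← h2, h1]
    exact (hp.out.coprime_iff_not_dvd.mpr P.not_dvd_index).symm
  exact hp.out.not_dvd_one (hcard.symm.eq_one_of_dvd (dvd_card_component hO hL) ▸ dvd_rfl)

/-! ### `p`-components -/

/-- The `p`-component over a subgroup of `G / O_{p'}(G)`. -/
def pComponentOver (p : ℕ) (L : Subgroup (G ⧸ pPrimeCore p G)) : Subgroup G :=
  pElemClosure p (L.comap (QuotientGroup.mk' (pPrimeCore p G)))

theorem isSubnormal_pComponentOver {L : Subgroup (G ⧸ pPrimeCore p G)} (hL : L.IsSubnormal) :
    (pComponentOver p L).IsSubnormal := isSubnormal_pElemClosure (hL.comap _)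

theorem map_pComponentOver [Finite G] [Fact p.Prime] {L : Subgroup (G ⧸ pPrimeCore p G)}
    (hL : IsComponent L) :
    (pComponentOver p L).map (QuotientGroup.mk' (pPrimeCore p G)) = L := by
  set f := QuotientGroup.mk' (pPrimeCore p G) with hf
  set T := L.comap f with hT
  have hTL : T.map f = L := map_comap_eq_self_of_surjective (QuotientGroup.mk'_surjective _) L
  have hle : (pComponentOver p L).map f ≤ L := (map_mono (pElemClosure_le T)).trans hTL.le
  have hnorm : L ≤ normalizer (((pComponentOver p L).map f : Subgroup _) : Set (G ⧸ pPrimeCore p G)) :=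
    hTL.symm.le.trans
      ((map_mono (le_normalizer.trans (normalizer_le_normalizer_pElemClosure T))).trans
        (le_normalizer_map f))
  haveI := (normal_subgroupOf_iff_le_normalizer hle).mpr hnorm
  refine le_antisymm hle (subgroupOf_eq_top.mp (component_eq_of_coprime_index
    Core.pPrimeCore_quotient_eq_bot hL ?_))
  have h := relIndex_map_map f (pElemClosure p T) T
  have h' : (pElemClosure p T ⊔ f.ker).relIndex (T ⊔ f.ker) ∣ (pElemClosure p T).relIndex T := by
    rw [sup_eq_left.mpr (show f.ker ≤ T from f.ker_le_comap L)]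
    exact relIndex_dvd_of_le_left _ le_sup_left
  rw [← h, hTL] at h'
  exact (coprime_index_pElemClosure T).coprime_dvd_left h'

theorem pComponentOver_le_of_map_eq [Finite G] [Fact p.Prime] {L : Subgroup (G ⧸ pPrimeCore p G)}
    {S : Subgroup G} (hS : S.IsSubnormal) (h : L ≤ S.map (QuotientGroup.mk' (pPrimeCore p G))) :
    pComponentOver p L ≤ S := by
  refine pElemClosure_le_of_cover (N := pPrimeCore p G) Core.coprime_card_pPrimeCore hS ?_
  refine (comap_mono h).trans ?_
  rw [Subgroup.comap_map_eq, QuotientGroup.ker_mk']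

theorem isPComponent_pComponentOver [Finite G] [Fact p.Prime]
    {L : Subgroup (G ⧸ pPrimeCore p G)} (hL : IsComponent L) :
    IsPComponent p (pComponentOver p L) := by
  refine ⟨isSubnormal_pComponentOver hL.1, ?_, fun S hS hle hmap => le_antisymm hle ?_⟩
  · rwa [map_pComponentOver hL]
  · refine pComponentOver_le_of_map_eq hS ?_
    rw [hmap, map_pComponentOver hL]

theorem eq_pComponentOver [Finite G] [Fact p.Prime] {K : Subgroup G} (hK : IsPComponent p K) :
    pComponentOver p (K.map (QuotientGroup.mk' (pPrimeCore p G))) = K :=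
  hK.2.2 _ (isSubnormal_pComponentOver hK.2.1.1) (pComponentOver_le_of_map_eq hK.1 le_rfl)
    (map_pComponentOver hK.2.1)

theorem pComponent_ext [Finite G] [Fact p.Prime] {K K' : Subgroup G} (hK : IsPComponent p K)
    (hK' : IsPComponent p K')
    (h : K.map (QuotientGroup.mk' (pPrimeCore p G)) = K'.map (QuotientGroup.mk' (pPrimeCore p G))) :
    K = K' := by
  rw [← eq_pComponentOver hK, h, eq_pComponentOver hK']

theorem pComponent_le_pLayer {K : Subgroup G} (hK : IsPComponent p K) : K ≤ pLayer p G :=
  le_sSup (a := K) (show K ∈ {K : Subgroup G | IsPComponent p K} from hK)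

theorem map_pLayer [Finite G] [Fact p.Prime] :
    (pLayer p G).map (QuotientGroup.mk' (pPrimeCore p G)) = layer (G ⧸ pPrimeCore p G) := by
  refine le_antisymm ?_ (sSup_le fun L hL => ?_)
  · rw [map_le_iff_le_comap]
    exact sSup_le fun K hK => map_le_iff_le_comap.mp (component_le_layer hK.2.1)
  · rw [← map_pComponentOver (p := p) hL]
    exact map_mono (pComponent_le_pLayer (isPComponent_pComponentOver hL))

theorem pLayer_eq_bot_iff [Finite G] [Fact p.Prime] :
    pLayer p G = ⊥ ↔ layer (G ⧸ pPrimeCore p G) = ⊥ := by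
  refine ⟨fun h => by rw [← map_pLayer, h, Subgroup.map_bot], fun h => ?_⟩
  exact le_bot_iff.mp (sSup_le fun K hK => absurd hK.2.1 (layer_eq_bot_iff.mp h _))

theorem isPConstrained_iff_pLayer [Finite G] [Fact p.Prime] :
    IsPConstrained p G ↔ pLayer p G = ⊥ :=
  isPConstrained_iff_layer.trans pLayer_eq_bot_iff.symm

theorem pComponent_perfect [Finite G] [Fact p.Prime] {K : Subgroup G} (hK : IsPComponent p K) :
    ⁅K, K⁆ = K := by
  refine hK.2.2 _ ?_ (commutator_le_self K) ?_
  · refine Subgroup.IsSubnormal.step _ _ (commutator_le_self K) hK.1 ?_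
    exact (normal_subgroupOf_iff_le_normalizer (commutator_le_self K)).mpr
      (normalizer_commutator_ge_left K K)
  · rw [map_commutator, qs_subgroup_perfect hK.2.1.2]

theorem dvd_card_pComponent [Finite G] [Fact p.Prime] {K : Subgroup G} (hK : IsPComponent p K) :
    p ∣ Nat.card K :=
  (dvd_card_component Core.pPrimeCore_quotient_eq_bot hK.2.1).trans (card_map_dvd K _)

theorem pComponent_not_le_pPrimeCore [Finite G] [hp : Fact p.Prime] {K : Subgroup G}
    (hK : IsPComponent p K) : ¬ K ≤ pPrimeCore p G := fun h =>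
  Core.not_dvd_card_pPrimeCore ((dvd_card_pComponent hK).trans (card_dvd_of_le h))

theorem pLayer_le_normalizer_pComponent [Finite G] [Fact p.Prime] {K : Subgroup G}
    (hK : IsPComponent p K) : pLayer p G ≤ normalizer (K : Set G) := by
  refine sSup_le fun J hJ => ?_
  rw [← eq_pComponentOver hK]
  refine le_trans ?_ (normalizer_le_normalizer_pElemClosure _)
  refine le_trans ?_ (le_normalizer_comap _)
  exact map_le_iff_le_comap.mp (component_le_normalizer_component hJ.2.1 hK.2.1)

theorem pComponent_normal_pLayer [Finite G] [Fact p.Prime] {K : Subgroup G}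
    (hK : IsPComponent p K) : (K.subgroupOf (pLayer p G)).Normal :=
  (normal_subgroupOf_iff_le_normalizer (le_sSup hK)).mpr (pLayer_le_normalizer_pComponent hK)

theorem pComponent_normal_eq_top [Finite G] [Fact p.Prime] {K : Subgroup G}
    (hK : IsPComponent p K) {N : Subgroup ↥K} [N.Normal] (h : N.index.Coprime p) : N = ⊤ := by
  refine eq_top_iff.mpr fun x _ => ?_
  have hle : pElemClosure p K ≤ N.map K.subtype := (closure_le _).mpr fun y hy => by
    obtain ⟨hyK, k, hk⟩ := hy
    exact ⟨⟨y, hyK⟩, pElem_mem_of_normal h (k := k) (Subtype.ext (by simpa using hk)), rfl⟩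
  have hK' : K ≤ pElemClosure p K := by
    refine le_trans (eq_pComponentOver hK).symm.le ((closure_le _).mpr fun y hy => subset_closure ?_)
    exact ⟨(eq_pComponentOver hK).le (subset_closure hy), hy.2⟩
  obtain ⟨y, hy, hyx⟩ := hle (hK' x.2)
  rwa [← Subtype.ext hyx]

theorem inf_pPrimeCore_le_pPrimeCore [Finite G] [Fact p.Prime] (K : Subgroup G) :
    K ⊓ pPrimeCore p G ≤ (pPrimeCore p ↥K).map K.subtype := by
  rw [inf_comm, ← subgroupOf_map_subtype]
  refine map_mono (Core.le_pPrimeCore ?_)
  refine Nat.Coprime.coprime_dvd_left ?_ (Core.coprime_card_pPrimeCore (p := p) (G := G))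
  rw [← card_map_of_injective K.subtype_injective, subgroupOf_map_subtype]
  exact card_dvd_of_le inf_le_left

theorem pPrimeCore_pComponent_le [Finite G] [Fact p.Prime] {K : Subgroup G} (hK : K.IsSubnormal) :
    (pPrimeCore p ↥K).map K.subtype ≤ K ⊓ pPrimeCore p G := by
  refine le_inf (map_subtype_le _) (subnormal_le_pPrimeCore
    (Core.pPrimeCore_normal.isSubnormal.trans' hK) ?_)
  rw [card_map_of_injective K.subtype_injective]
  exact Core.coprime_card_pPrimeCore

theorem map_pPrimeCore_eq_inf [Finite G] [Fact p.Prime] {K : Subgroup G} (hK : K.IsSubnormal) :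
    (pPrimeCore p ↥K).map K.subtype = K ⊓ pPrimeCore p G :=
  le_antisymm (pPrimeCore_pComponent_le hK) (inf_pPrimeCore_le_pPrimeCore K)

theorem pComponent_quotient_quasisimple [Finite G] [Fact p.Prime] {K : Subgroup G}
    (hK : IsPComponent p K) : IsQuasisimple (↥K ⧸ pPrimeCore p ↥K) := by
  set f := QuotientGroup.mk' (pPrimeCore p G) with hf
  have hker : (f.subgroupMap K).ker = pPrimeCore p ↥K := by
    apply Subgroup.map_injective K.subtype_injective
    rw [map_pPrimeCore_eq_inf hK.1]
    ext x
    constructor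
    · rintro ⟨y, hy, rfl⟩
      refine ⟨y.2, ?_⟩
      have : f (y : G) = 1 := congrArg Subtype.val hy
      rwa [hf, ← MonoidHom.mem_ker, QuotientGroup.ker_mk'] at this
    · rintro ⟨hx, hx'⟩
      refine ⟨⟨x, hx⟩, Subtype.ext ?_, rfl⟩
      show f x = 1
      rw [← MonoidHom.mem_ker, hf, QuotientGroup.ker_mk']
      exact hx'
  exact isQuasisimple_congr ((QuotientGroup.quotientMulEquivOfEq hker.symm).trans
    (QuotientGroup.quotientKerEquivOfSurjective _ (f.subgroupMap_surjective K))).symm hK.2.1.2

/-- `p`-components commute modulo the `p'`-core. -/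
theorem commutator_pComponents_le [Finite G] [Fact p.Prime] {K L : Subgroup G}
    (hK : IsPComponent p K) (hL : IsPComponent p L) (hne : K ≠ L) :
    ⁅K, L⁆ ≤ K ⊓ L ⊓ pPrimeCore p G := by
  refine le_inf (le_inf ?_ ?_) ?_
  · exact Subgroup.le_normalizer_iff_commutator_le_left.mp
      ((pComponent_le_pLayer hL).trans (pLayer_le_normalizer_pComponent hK))
  · exact Subgroup.le_normalizer_iff_commutator_le_right.mp
      ((pComponent_le_pLayer hK).trans (pLayer_le_normalizer_pComponent hL))
  · have h := components_commute hK.2.1 hL.2.1 fun h => hne (pComponent_ext hK hL h)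
    rwa [← map_commutator, Subgroup.map_eq_bot_iff, QuotientGroup.ker_mk'] at h

theorem isPComponent_of_isComponent [Finite G] [Fact p.Prime] {K : Subgroup G}
    (hK : IsPComponent p K) (hq : IsQuasisimple K) : IsComponent K := ⟨hK.1, hq⟩

/-- Image of a component in `G / O_{p'}(G)`. -/
theorem map_component_cases [Finite G] [Fact p.Prime] {L : Subgroup G} (hL : IsComponent L) :
    L ≤ pPrimeCore p G ∨ IsComponent (L.map (QuotientGroup.mk' (pPrimeCore p G))) := by
  by_cases h : L ≤ pPrimeCore p G
  · exact Or.inl h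
  refine Or.inr ⟨hL.1.quotient, ?_⟩
  haveI : Nontrivial ↥(L.map (QuotientGroup.mk' (pPrimeCore p G))) := by
    rw [nontrivial_iff_ne_bot]
    intro hb
    rw [Subgroup.map_eq_bot_iff, QuotientGroup.ker_mk'] at hb
    exact h hb
  exact qs_of_surjective hL.2 _ (MonoidHom.subgroupMap_surjective _ L)

/-- A component not inside the `p'`-core is a `p`-component. -/
theorem isPComponent_component [Finite G] [Fact p.Prime] {L : Subgroup G} (hL : IsComponent L)
    (h : ¬ L ≤ pPrimeCore p G) : IsPComponent p L := by
  have hbar := (map_component_cases (p := p) hL).resolve_left h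
  refine ⟨hL.1, hbar, fun S hS hle hmap => ?_⟩
  refine (qs_sub_subnormal_cases hL.2 hle hS.subgroupOf).resolve_right fun hc => ?_
  have := congrArg (Subgroup.map (QuotientGroup.mk' (pPrimeCore p G))) hc
  rw [map_commutator, hmap, Subgroup.map_bot] at this
  exact qs_subgroup_not_abelian hbar.2 this

theorem pLayer_characteristic_aux [Finite G] [Fact p.Prime] (e : G ≃* H) {K : Subgroup G}
    (hK : IsPComponent p K) : IsPComponent p (K.map e.toMonoidHom) := by
  haveI : Finite H := Finite.of_equiv G e.toEquiv
  have hO : (pPrimeCore p G).map e.toMonoidHom = pPrimeCore p H := Core.map_pPrimeCore e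
  set e' : G ⧸ pPrimeCore p G ≃* H ⧸ pPrimeCore p H :=
    QuotientGroup.congr _ _ e hO with he'
  have hcomm : (QuotientGroup.mk' (pPrimeCore p H)).comp e.toMonoidHom =
      e'.toMonoidHom.comp (QuotientGroup.mk' (pPrimeCore p G)) := by
    ext x
    rfl
  have key : ∀ S : Subgroup G, (S.map e.toMonoidHom).map (QuotientGroup.mk' (pPrimeCore p H)) =
      (S.map (QuotientGroup.mk' (pPrimeCore p G))).map e'.toMonoidHom := fun S => by
    rw [Subgroup.map_map, Subgroup.map_map, hcomm]
  refine ⟨hK.1.map e.surjective, ?_, fun S hS hle hmap => ?_⟩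
  · rw [key]
    exact isComponent_map_surj e' hK.2.1
  · obtain ⟨S, rfl⟩ : ∃ S' : Subgroup G, S'.map e.toMonoidHom = S :=
      ⟨S.comap e.toMonoidHom, map_comap_eq_self_of_surjective e.surjective S⟩
    rw [key, key] at hmap
    have hS' : S.IsSubnormal := by
      have := hS.comap e.toMonoidHom
      rwa [comap_map_eq_self_of_injective e.injective] at this
    rw [hK.2.2 S hS' ((map_le_map_iff_of_injective e.injective).mp hle)
      (map_injective e'.injective hmap)]

theorem map_pLayer_equiv [Finite G] [Fact p.Prime] (e : G ≃* H) :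
    (pLayer p G).map e.toMonoidHom = pLayer p H := by
  haveI : Finite H := Finite.of_equiv G e.toEquiv
  refine le_antisymm ?_ (sSup_le fun K hK => ?_)
  · rw [map_le_iff_le_comap]
    exact sSup_le fun K hK => map_le_iff_le_comap.mp (pComponent_le_pLayer (pLayer_characteristic_aux e hK))
  · intro x hx
    exact ⟨e.symm x, pComponent_le_pLayer (pLayer_characteristic_aux e.symm hK) ⟨x, hx, rfl⟩,
      e.apply_symm_apply x⟩

end Cfsg.Agent.Layer
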