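import Cfsg.Agent.Layer.Local
import Cfsg.Agent.Fusion.Alperin
import Cfsg.Prelude.Def_EvenTechniques

/-!
Action of `O_{p'}(C_G(R))` on `O_p(G)` and on the components of a finite group with trivial
`p'`-core, `R` a `p`-subgroup; local balance of components gives balance.
-/

set_option autoImplicit false
set_option linter.style.haveILetI false

namespace Cfsg.Agent.Layer

open Subgroup Cfsg
open scoped commutatorElement Pointwise

universe u v

variable {G : Type u} [Group G] {H : Type v} [Group H] {p : ℕ}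

/-! ### The core of a centraliser -/

/-- `O_{p'}(C_G(R))` as a subgroup of `G`. -/
abbrev cCore (p : ℕ) (R : Subgroup G) : Subgroup G :=
  (pPrimeCore p ↥(centralizer (R : Set G))).map (centralizer (R : Set G)).subtype

theorem cCore_le (R : Subgroup G) : cCore p R ≤ centralizer (R : Set G) := map_subtype_le _

theorem coprime_card_cCore [Finite G] [Fact p.Prime] (R : Subgroup G) :
    (Nat.card ↥(cCore p R)).Coprime p := by
  rw [card_map_of_injective (Subgroup.subtype_injective _)]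
  exact Core.coprime_card_pPrimeCore

theorem normalizer_le_normalizer_cCore [Finite G] (R : Subgroup G) :
    normalizer (R : Set G) ≤ normalizer ((cCore p R : Subgroup G) : Set G) := by
  haveI := Coprime.le_normalizer_centralizer (A := normalizer (R : Set G)) (S := (R : Set G)) le_rfl
  intro g hg
  have hgC : (centralizer (R : Set G)).map (MulAut.conj g).toMonoidHom = centralizer (R : Set G) :=
    mem_normalizer_iff_map_conj_eq.mp (this hg)
  refine mem_normalizer_of_conj_mem ?_
  rintro _ ⟨y, hy, rfl⟩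
  set e : ↥(centralizer (R : Set G)) ≃* ↥(centralizer (R : Set G)) :=
    ((equivMapOfInjective _ _ (MulAut.conj g).injective).trans (MulEquiv.subgroupCongr hgC))
  refine ⟨e y, ?_, rfl⟩
  rw [← Core.map_pPrimeCore e]
  exact ⟨y, hy, rfl⟩

theorem le_cCore [Finite G] {D R : Subgroup G} (hDR : D ≤ centralizer (R : Set G))
    (hn : centralizer (R : Set G) ≤ normalizer (D : Set G)) (hD : (Nat.card D).Coprime p) :
    D ≤ cCore p R := by
  rw [← map_subgroupOf_eq_of_le hDR]
  refine map_mono ?_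
  haveI := (normal_subgroupOf_iff_le_normalizer hDR).mpr hn
  refine Core.le_pPrimeCore ?_
  rwa [Nat.card_congr (subgroupOfEquivOfLe hDR).toEquiv]

theorem centralizerPPrimeCore_eq_cCore (x : G) :
    centralizerPPrimeCore p x = cCore p (zpowers x) := by
  have h : centralizer ({x} : Set G) = centralizer (zpowers x : Set G) := by
    rw [zpowers_eq_closure, centralizer_closure]
  unfold centralizerPPrimeCore cCore
  rw [h]

theorem cCore_mem_subgroup [Finite G] [Fact p.Prime] {P C : Subgroup G} (hPC : P ≤ C) :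
    (cCore p P).subgroupOf C ≤ cCore p (P.subgroupOf C) := by
  refine le_cCore ?_ ?_ ?_
  · intro x hx
    exact mem_centralizer_iff.mpr fun y hy =>
      Subtype.ext (mem_centralizer_iff.mp (cCore_le P hx) (y : G) hy)
  · refine Subgroup.le_normalizer_iff.mpr fun c hc x hx => ?_
    have hc' : (c : G) ∈ centralizer (P : Set G) := mem_centralizer_iff.mpr fun y hy =>
      congrArg Subtype.val (mem_centralizer_iff.mp hc ⟨y, hPC hy⟩ hy)
    exact (Subgroup.le_normalizer_iff.mp (((centralizer_le_normalizer _).trans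
      (normalizer_le_normalizer_cCore P)))) (c : G) hc' (x : G) hx
  · rw [← card_map_of_injective C.subtype_injective, subgroupOf_map_subtype]
    exact (coprime_card_cCore P).coprime_dvd_left (card_dvd_of_le inf_le_left)

theorem map_cCore_le [Finite G] [Fact p.Prime] {f : G →* H} (hf : Function.Surjective f)
    (hker : (Nat.card f.ker).Coprime p) {P : Subgroup G} (hP : IsPGroup p P) :
    (cCore p P).map f ≤ cCore p (P.map f) := by
  haveI : Finite H := Finite.of_surjective f hf
  refine le_cCore ((map_mono (cCore_le P)).trans_eq (map_centralizer_of_coprime hf hker hP)) ?_ ?_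
  · rw [← map_centralizer_of_coprime hf hker hP]
    exact (map_mono ((centralizer_le_normalizer _).trans (normalizer_le_normalizer_cCore P))).trans
      (le_normalizer_map f)
  · exact (coprime_card_cCore P).coprime_dvd_left (card_map_dvd _ f)

theorem pPrimeCore_normalizer_le_cCore [Finite G] [Fact p.Prime] {R : Subgroup G} (hR : IsPGroup p R) :
    (pPrimeCore p ↥(normalizer (R : Set G))).map (normalizer (R : Set G)).subtype ≤ cCore p R := by
  refine le_cCore (pPrimeCore_normalizer_le_centralizer hR) ?_ ?_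
  · refine (centralizer_le_normalizer _).trans (Subgroup.le_normalizer_iff.mpr ?_)
    rintro c hc _ ⟨z, hz, rfl⟩
    exact ⟨⟨c, hc⟩ * z * ⟨c, hc⟩⁻¹, Core.pPrimeCore_normal.conj_mem z hz _, rfl⟩
  · rw [card_map_of_injective (Subgroup.subtype_injective _)]
    exact Core.coprime_card_pPrimeCore

theorem centralizes_pCore_of_pPrime [Finite G] [Fact p.Prime] {P D : Subgroup G}
    (hP : IsPGroup p P) (hD : (Nat.card D).Coprime p) (hDP : D ≤ centralizer (P : Set G))
    (hCD : pCore p G ⊓ centralizer (P : Set G) ≤ normalizer (D : Set G)) :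
    D ≤ centralizer (pCore p G : Set G) := by
  refine Coprime.thompson_pxq hP hD Core.pCore_isPGroup (le_centralizer_iff.mp hDP)
    le_normalizer_of_normal le_normalizer_of_normal ?_
  rw [← commutator_eq_bot_iff_le_centralizer, ← le_bot_iff,
    ← inf_eq_bot_of_isPGroup (Core.pCore_isPGroup (p := p) (G := G)) hD]
  exact le_inf ((commutator_mono inf_le_left le_rfl).trans (commutator_le_left _ _))
    (Subgroup.le_normalizer_iff_commutator_le_right.mp hCD)

theorem cCore_le_centralizer_pCore [Finite G] [Fact p.Prime] {R : Subgroup G} (hR : IsPGroup p R) :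
    cCore p R ≤ centralizer (pCore p G : Set G) :=
  centralizes_pCore_of_pPrime hR (coprime_card_cCore R) (cCore_le R)
    (inf_le_right.trans ((centralizer_le_normalizer _).trans (normalizer_le_normalizer_cCore R)))

theorem cCore_le_cCore_sup_pCore [Finite G] [Fact p.Prime] {R : Subgroup G} (hR : IsPGroup p R) :
    cCore p R ≤ cCore p (R ⊔ pCore p G) := by
  have hc : centralizer ((R ⊔ pCore p G : Subgroup G) : Set G) ≤ centralizer (R : Set G) :=
    centralizer_le (show (R : Set G) ⊆ (R ⊔ pCore p G : Subgroup G) from le_sup_left (b := pCore p G))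
  refine le_cCore ?_ (hc.trans ((centralizer_le_normalizer _).trans (normalizer_le_normalizer_cCore R)))
    (coprime_card_cCore R)
  rw [le_centralizer_iff]
  exact sup_le (le_centralizer_iff.mp (cCore_le R))
    (le_centralizer_iff.mp (cCore_le_centralizer_pCore hR))

/-! ### Orbits of components -/

theorem center_component_le_fitting [Finite G] {L : Subgroup G} (hL : IsComponent L) :
    L ⊓ centralizer (L : Set G) ≤ fittingSubgroup G := by
  haveI : IsMulCommutative ↥(L ⊓ centralizer (L : Set G)) :=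
    le_centralizer_iff_isMulCommutative.mp (inf_le_right.trans (centralizer_le inf_le_left))
  refine subnormal_le_fitting ?_ (Core.isNilpotent_of_commutator_le_center
    (C := ⊥) (commutator_self_eq_bot_iff.mpr inferInstance).le (fun x _ => by simp [mem_centralizer_iff]))
  refine Subgroup.IsSubnormal.step _ L inf_le_left hL.1 ?_
  refine (normal_subgroupOf_iff_le_normalizer inf_le_left).mpr ?_
  exact Coprime.le_normalizer_inf le_normalizer (Coprime.le_normalizer_centralizer le_normalizer)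

theorem center_component_le_pCore [Finite G] [Fact p.Prime] (hO : pPrimeCore p G = ⊥)
    {L : Subgroup G} (hL : IsComponent L) : L ⊓ centralizer (L : Set G) ≤ pCore p G :=
  (center_component_le_fitting hL).trans (fitting_eq_pCore_of_pPrimeCore_eq_bot hO).le

theorem exists_conj_mem_sylow [Finite G] [Fact p.Prime] {M : Subgroup G} (S : Sylow p ↥M) {z : G}
    (hz : z ∈ M) {k : ℕ} (hk : z ^ p ^ k = 1) :
    ∃ g ∈ M, g * z * g⁻¹ ∈ (S : Subgroup ↥M).map M.subtype := by
  have hp : IsPGroup p ↥(zpowers (⟨z, hz⟩ : ↥M)) := by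
    intro x
    obtain ⟨i, hi⟩ := mem_zpowers_iff.mp x.2
    refine ⟨k, Subtype.ext ?_⟩
    rw [SubmonoidClass.coe_pow, ← hi, ← zpow_natCast, ← zpow_mul, mul_comm, zpow_mul, zpow_natCast,
      show (⟨z, hz⟩ : ↥M) ^ p ^ k = 1 from Subtype.ext (by rw [SubmonoidClass.coe_pow]; exact hk),
      one_zpow]
    rfl
  obtain ⟨Q, hQ⟩ := hp.exists_le_sylow
  obtain ⟨g, hg⟩ := MulAction.exists_smul_eq (↥M) Q S
  refine ⟨g, g.2, ⟨g * ⟨z, hz⟩ * g⁻¹, ?_, rfl⟩⟩
  rw [← hg, Sylow.coe_subgroup_smul]
  exact ⟨⟨z, hz⟩, hQ (mem_zpowers _), rfl⟩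

/-- A `p`-element normalising `R` in an `R`-invariant product of components, not central in it. -/
theorem exists_pElem_normalizing [Finite G] [hp : Fact p.Prime] (hO : pPrimeCore p G = ⊥)
    {R : Subgroup G} (hR : IsPGroup p R) (hRO : pCore p G ≤ R) {s : Set (Subgroup G)}
    (hs : ∀ L ∈ s, IsComponent L) {L : Subgroup G} (hL : L ∈ s)
    (hinv : R ≤ normalizer ((sSup s : Subgroup G) : Set G)) :
    ∃ y ∈ sSup s, y ∈ normalizer (R : Set G) ∧ (∃ k : ℕ, y ^ p ^ k = 1) ∧
      y ∉ centralizer ((sSup s : Subgroup G) : Set G) := by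
  set E := sSup s with hE
  by_contra hcon
  push Not at hcon
  have hZ : ∀ y ∈ E, y ∈ centralizer (E : Set G) → y ∈ R := by
    intro y hy hyc
    have hmem : y ∈ E ⊓ centralizer (E : Set G) := ⟨hy, hyc⟩
    rw [hE, center_sSup_components hs] at hmem
    have hle : sSup ((fun L : Subgroup G => L ⊓ centralizer (L : Set G)) '' s) ≤ pCore p G := by
      refine sSup_le ?_
      rintro _ ⟨K, hK, rfl⟩
      exact center_component_le_pCore hO (hs K hK)
    exact hRO (hle hmem)
  set M := E ⊔ R with hM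
  obtain ⟨S, hS⟩ := (hR.comap_of_injective M.subtype M.subtype_injective).exists_le_sylow
  set T := (S : Subgroup ↥M).map M.subtype with hT
  have hTp : IsPGroup p T := S.isPGroup'.map _
  have hRT : R ≤ T := by
    refine le_trans ?_ (map_mono hS)
    rw [show R.comap M.subtype = R.subgroupOf M from rfl,
      map_subgroupOf_eq_of_le (le_sup_right : R ≤ M)]
  have hTE : T ⊓ E ≤ R := by
    by_contra hne
    set F := (T ⊓ E) ⊔ R with hF
    have hFT : F ≤ T := sup_le inf_le_left hRT
    have hRF : R < F := lt_of_le_of_ne le_sup_right fun h => hne (h ▸ le_sup_left)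
    obtain ⟨t, htm, htR⟩ :=
      SetLike.exists_of_lt (Fusion.lt_inf_normalizer_of_isPGroup (hTp.to_le hFT) hRF)
    obtain ⟨htF, htN⟩ := htm
    have htM : t ∈ ((E ⊔ R : Subgroup G) : Set G) :=
      (sup_le (inf_le_right.trans le_sup_left) le_sup_right : F ≤ E ⊔ R) htF
    rw [coe_mul_of_right_le_normalizer_left _ _ hinv, Set.mem_mul] at htM
    obtain ⟨e, he, r, hr, rfl⟩ := htM
    have heT : e ∈ T := (mul_mem_cancel_right (hRT hr)).mp (hFT htF)
    have heN : e ∈ normalizer (R : Set G) := (mul_mem_cancel_right (le_normalizer hr)).mp htN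
    obtain ⟨k, hk⟩ := hTp ⟨e, heT⟩
    have hec := hcon e he heN ⟨k, by simpa using congrArg Subtype.val hk⟩
    exact htR (mul_mem (hZ e he hec) hr)
  -- all `p`-elements of `E` are central
  have hall : ∀ z ∈ E, ∀ k : ℕ, z ^ p ^ k = 1 → z ∈ centralizer (E : Set G) := by
    intro z hz k hk
    obtain ⟨g, hg, hgz⟩ := exists_conj_mem_sylow S (le_sup_left (b := R) hz) hk
    have hgN : g ∈ normalizer (E : Set G) := (sup_le le_normalizer hinv : M ≤ _) hg
    have hgzE : g * z * g⁻¹ ∈ E := (mem_normalizer_iff.mp hgN z).mp hz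
    have hc : g * z * g⁻¹ ∈ centralizer (E : Set G) :=
      hcon _ hgzE (le_normalizer (hTE ⟨hgz, hgzE⟩)) ⟨k, by rw [conj_pow, hk, mul_one, mul_inv_cancel]⟩
    have hgc : g ∈ normalizer ((centralizer (E : Set G) : Subgroup G) : Set G) :=
      Coprime.le_normalizer_centralizer le_rfl hgN
    exact (mem_normalizer_iff.mp hgc z).mpr hc
  have hLE : L ≤ E := le_sSup hL
  refine qs_center_ne_top (hs L hL).2 (component_eq_of_coprime_index hO (hs L hL) ?_)
  obtain ⟨P⟩ := (inferInstance : Nonempty (Sylow p ↥L))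
  refine ((hp.out.coprime_iff_not_dvd.mpr P.not_dvd_index).symm).coprime_dvd_left
    (index_dvd_of_le (H := (P : Subgroup ↥L)) ?_)
  intro x hx
  obtain ⟨k, hk⟩ := P.isPGroup' ⟨x, hx⟩
  refine mem_center_iff.mpr fun y => Subtype.ext ?_
  exact mem_centralizer_iff.mp
    (hall x (hLE x.2) k (congrArg (fun z : (P : Subgroup ↥L) => ((z : ↥L) : G)) hk)) y (hLE y.2)

theorem map_conj_zpow_fix {L : Subgroup G} {g : G} :
    L.map (MulAut.conj g).toMonoidHom = L ↔ g ∈ normalizer (L : Set G) :=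
  mem_normalizer_iff_map_conj_eq.symm

/-- If `d` commutes with the `p`-element `r`, has order prime to `p` and `d L = r L`, then `d L = L`. -/
theorem fixes_of_conj_eq [Finite G] {d r : G} (hdr : d * r = r * d) {L : Subgroup G}
    (hd : (orderOf d).Coprime p) {k : ℕ} (hr : r ^ p ^ k = 1)
    (h : L.map (MulAut.conj d).toMonoidHom = L.map (MulAut.conj r).toMonoidHom) :
    L.map (MulAut.conj d).toMonoidHom = L := by
  have key : ∀ n : ℕ, L.map (MulAut.conj (d ^ n)).toMonoidHom = L.map (MulAut.conj (r ^ n)).toMonoidHom := by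
    intro n
    induction n with
    | zero => simp
    | succ n ih =>
      rw [pow_succ', ← map_conj_map_conj, ih, map_conj_map_conj,
        show d * r ^ n = r ^ n * d from (Commute.pow_right (hdr : Commute d r) n).eq,
        ← map_conj_map_conj, h, map_conj_map_conj, ← pow_succ]
  have h1 := key (orderOf d)
  rw [pow_orderOf_eq_one, map_conj_one] at h1
  have hr1 : r ^ orderOf d ∈ normalizer (L : Set G) := map_conj_zpow_fix.mp h1.symm
  obtain ⟨m, hm⟩ := exists_pow_eq_self_of_coprime (x := r) (n := orderOf d)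
    ((hd.pow_right k).coprime_dvd_right (orderOf_dvd_of_pow_eq_one hr))
  rw [h, map_conj_zpow_fix, ← hm]
  exact pow_mem hr1 m

theorem cCore_fixes_component [Finite G] [hp : Fact p.Prime] (hO : pPrimeCore p G = ⊥)
    {R : Subgroup G} (hR : IsPGroup p R) {L : Subgroup G} (hL : IsComponent L) {d : G}
    (hd : d ∈ cCore p R) : L.map (MulAut.conj d).toMonoidHom = L := by
  suffices h : ∀ (R : Subgroup G), IsPGroup p R → pCore p G ≤ R → d ∈ cCore p R →
      L.map (MulAut.conj d).toMonoidHom = L by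
    exact h (R ⊔ pCore p G) (hR.to_sup_of_normal_right Core.pCore_isPGroup) le_sup_right
      (cCore_le_cCore_sup_pCore hR hd)
  clear hd hR R
  intro R hR hRO hd
  have hdo : (orderOf d).Coprime p :=
    (coprime_card_cCore R).coprime_dvd_left (orderOf_dvd_natCard (cCore p R) hd)
  have hdR : ∀ r ∈ R, d * r = r * d := fun r hr => (mem_centralizer_iff.mp (cCore_le R hd) r hr).symm
  let s : Set (Subgroup G) := {K | ∃ r ∈ R, K = L.map (MulAut.conj r).toMonoidHom}
  have hs : ∀ K ∈ s, IsComponent K := by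
    rintro K ⟨r, _, rfl⟩
    exact isComponent_map_conj hL r
  have hLs : L ∈ s := ⟨1, R.one_mem, (map_conj_one L).symm⟩
  have hinv : R ≤ normalizer ((sSup s : Subgroup G) : Set G) := by
    intro r hr
    refine mem_normalizer_of_conj_mem fun x hx => ?_
    have : sSup s ≤ (sSup s).comap (MulAut.conj r).toMonoidHom := by
      refine sSup_le ?_
      rintro K ⟨t, ht, rfl⟩
      rw [← map_le_iff_le_comap, map_conj_map_conj]
      exact le_sSup ⟨r * t, mul_mem hr ht, rfl⟩
    exact this hx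
  by_cases hmem : L.map (MulAut.conj d).toMonoidHom ∈ s
  · obtain ⟨r, hr, hdr⟩ := hmem
    obtain ⟨k, hk⟩ := hR ⟨r, hr⟩
    exact fixes_of_conj_eq (hdR r hr) hdo (k := k) (by simpa using congrArg Subtype.val hk) hdr
  exfalso
  obtain ⟨y, hy, hyN, ⟨k, hk⟩, hyc⟩ := exists_pElem_normalizing hO hR hRO hs hLs hinv
  have hyd : d * y * d⁻¹ ∈ (sSup s).map (MulAut.conj d).toMonoidHom := ⟨y, hy, rfl⟩
  have hcomm : ⁅sSup s, (sSup s).map (MulAut.conj d).toMonoidHom⁆ = ⊥ := by
    rw [sSup_eq_iSup, Subgroup.map_iSup, commutator_eq_bot_iff_le_centralizer]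
    simp only [Subgroup.map_iSup]
    refine iSup₂_le fun K hK => ?_
    rw [le_centralizer_iff]
    refine iSup₂_le fun J hJ => ?_
    rw [le_centralizer_iff, ← commutator_eq_bot_iff_le_centralizer]
    refine components_commute (hs K hK) (isComponent_map_conj (hs J hJ) d) fun he => hmem ?_
    obtain ⟨t, ht, rfl⟩ := hJ
    obtain ⟨r, hr, rfl⟩ := hK
    refine ⟨t⁻¹ * r, mul_mem (inv_mem ht) hr, ?_⟩
    rw [map_conj_map_conj, hdR t ht] at he
    rw [← map_conj_map_conj L r t⁻¹, he, map_conj_map_conj, ← mul_assoc, inv_mul_cancel, one_mul]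
  have hc : y * d * y⁻¹ * d⁻¹ ∈ cCore p R :=
    mul_mem ((mem_normalizer_iff.mp (normalizer_le_normalizer_cCore R hyN) d).mp hd) (inv_mem hd)
  have hcom : Commute y (d * y⁻¹ * d⁻¹) := by
    have := commute_of_commutator_eq_bot hcomm hy (inv_mem hyd)
    show y * (d * y⁻¹ * d⁻¹) = d * y⁻¹ * d⁻¹ * y
    simpa [mul_assoc] using this
  have h1 : y * d * y⁻¹ * d⁻¹ = 1 := by
    have hpow : (y * d * y⁻¹ * d⁻¹) ^ p ^ k = 1 := by
      rw [show y * d * y⁻¹ * d⁻¹ = y * (d * y⁻¹ * d⁻¹) by group, hcom.mul_pow, hk, one_mul,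
        conj_pow, inv_pow, hk, inv_one, mul_one, mul_inv_cancel]
    exact orderOf_eq_one_iff.mp (Nat.eq_one_of_dvd_coprimes ((coprime_card_cCore R).pow_right k)
      (orderOf_dvd_natCard (cCore p R) hc) (orderOf_dvd_of_pow_eq_one hpow))
  have hyd' : d * y * d⁻¹ = y := by
    rw [← commutatorElement_def, commutatorElement_eq_one_iff_mul_comm] at h1
    rw [← h1, mul_inv_cancel_right]
  rw [hyd'] at hyd
  exact hyc (commutator_eq_bot_iff_le_centralizer.mp (commutator_eq_bot_symm hcomm) hyd)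

theorem cCore_le_normalizer_component [Finite G] [Fact p.Prime] (hO : pPrimeCore p G = ⊥)
    {R : Subgroup G} (hR : IsPGroup p R) {L : Subgroup G} (hL : IsComponent L) :
    cCore p R ≤ normalizer (L : Set G) :=
  fun _ hd => mem_normalizer_iff_map_conj_eq.mpr (cCore_fixes_component hO hR hL hd)

/-! ### Centralising a component -/

/-- An element acting on a perfect subgroup trivially modulo its centre centralises it. -/
theorem mem_centralizer_of_commutator_central {K : Subgroup G} (hperf : ⁅K, K⁆ = K) {w : G}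
    (h : ∀ k ∈ K, ⁅w, k⁆ ∈ K ⊓ centralizer (K : Set G)) : w ∈ centralizer (K : Set G) := by
  let f : ↥K →* ↥(K ⊓ centralizer (K : Set G)) :=
    { toFun := fun k => ⟨⁅w, (k : G)⁆, h k k.2⟩
      map_one' := Subtype.ext (commutatorElement_one_right _)
      map_mul' := fun a b => Subtype.ext (by
        show ⁅w, (a : G) * (b : G)⁆ = ⁅w, (a : G)⁆ * ⁅w, (b : G)⁆
        rw [commutatorElement_mul_right_eq_mul_conj, mul_assoc ⁅w, (a : G)⁆ (a : G),
          mem_centralizer_iff.mp (h b b.2).2 (a : G) a.2]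
        group) }
  rw [mem_centralizer_iff]
  intro k hk
  have hle : commutator ↥K ≤ f.ker := by
    rw [_root_.commutator_def, commutator_le]
    intro a _ b _
    rw [MonoidHom.mem_ker, map_commutatorElement, commutatorElement_eq_one_iff_mul_comm]
    exact Subtype.ext (mem_centralizer_iff.mp (f b).2.2 (f a : G) (f a).2.1)
  haveI : Group.IsPerfect ↥K := Subgroup.isPerfect_iff.mpr hperf
  rw [Group.IsPerfect.commutator_eq_top] at hle
  have h1 : ⁅w, k⁆ = 1 := congrArg Subtype.val (MonoidHom.mem_ker.mp (hle (mem_top ⟨k, hk⟩)))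
  exact (commutatorElement_eq_one_iff_mul_comm.mp h1).symm

theorem component_le_of_central_cases [Finite G] {L N : Subgroup G} (hL : IsComponent L)
    (hN : N ≤ L) (hLN : L ≤ normalizer (N : Set G)) (hne : N ≠ L) :
    N ≤ L ⊓ centralizer (L : Set G) :=
  le_inf hN (commutator_eq_bot_iff_le_centralizer.mp
    ((qs_sub_normalized_cases hL.2 hN hLN).resolve_left hne))

theorem cCore_centralizes_of_centralized [Finite G] [hp : Fact p.Prime] (hO : pPrimeCore p G = ⊥)
    {R : Subgroup G} (hR : IsPGroup p R) {L : Subgroup G} (hL : IsComponent L)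
    (hLR : L ≤ centralizer (R : Set G)) : cCore p R ≤ centralizer (L : Set G) := by
  intro w hw
  have hLn : L ≤ normalizer ((cCore p R : Subgroup G) : Set G) :=
    hLR.trans ((centralizer_le_normalizer _).trans (normalizer_le_normalizer_cCore R))
  have hWn : w ∈ normalizer (L : Set G) := cCore_le_normalizer_component hO hR hL hw
  have hZ : L ⊓ cCore p R ≤ L ⊓ centralizer (L : Set G) := by
    refine component_le_of_central_cases hL inf_le_left (le_normalizer_inf le_normalizer hLn) ?_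
    intro h
    have h1 : p ∣ Nat.card ↥(cCore p R) :=
      (dvd_card_component hO hL).trans (card_dvd_of_le (inf_eq_left.mp h))
    exact hp.out.not_dvd_one ((coprime_card_cCore R).symm.eq_one_of_dvd h1 ▸ dvd_rfl)
  refine mem_centralizer_of_commutator_central (qs_subgroup_perfect hL.2) fun k hk => hZ (mem_inf.mpr ⟨?_, ?_⟩)
  · exact mul_mem ((mem_normalizer_iff.mp hWn k).mp hk) (inv_mem hk)
  · rw [show ⁅w, k⁆ = w * (k * w⁻¹ * k⁻¹) by simp [commutatorElement_def, mul_assoc]]
    exact mul_mem hw ((mem_normalizer_iff.mp (hLn hk) _).mp (inv_mem hw))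

theorem cCore_centralizes_of_moved [Finite G] [hp : Fact p.Prime] (hO : pPrimeCore p G = ⊥)
    {b : G} (hb : orderOf b = p) {L : Subgroup G} (hL : IsComponent L)
    (hmove : L.map (MulAut.conj b).toMonoidHom ≠ L) :
    cCore p (zpowers b) ≤ centralizer (L : Set G) := by
  intro w hw
  have hbp : IsPGroup p ↥(zpowers b) :=
    IsPGroup.of_card (n := 1) (by rw [Nat.card_zpowers, hb, pow_one])
  have hcw : ∀ n : ℕ, b ^ n * w = w * b ^ n := fun n =>
    mem_centralizer_iff.mp (cCore_le _ hw) _ (pow_mem (mem_zpowers b) n)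
  have hdist : ∀ i : ℕ, 1 ≤ i → i < p → L.map (MulAut.conj (b ^ i)).toMonoidHom ≠ L := by
    intro i hi hip he
    refine hmove (map_conj_zpow_fix.mpr ?_)
    obtain ⟨m, hm⟩ := exists_pow_eq_self_of_coprime (x := b) (n := i) (by
      rw [hb]
      exact (hp.out.coprime_iff_not_dvd.mpr fun hd => absurd (Nat.le_of_dvd hi hd) (by omega)).symm)
    rw [← hm]
    exact pow_mem (map_conj_zpow_fix.mp he) m
  have hcomm : ∀ i : ℕ, 1 ≤ i → i < p → ∀ l ∈ L, ∀ m ∈ L,
      l * (b ^ i * m * (b ^ i)⁻¹) = b ^ i * m * (b ^ i)⁻¹ * l := fun i hi hip l hl m hm =>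
    commute_of_commutator_eq_bot
      (components_commute hL (isComponent_map_conj hL (b ^ i)) (hdist i hi hip).symm) hl
      (conj_mem_map_conj (b ^ i) hm)
  -- `(l b)^n b^{-n} = l · ˢl ⋯` and the tail commutes with `L`
  have tail : ∀ n : ℕ, n < p → ∀ l ∈ L, ∀ m ∈ L,
      m * (b * (l * b) ^ n * b⁻¹ ^ (n + 1)) = b * (l * b) ^ n * b⁻¹ ^ (n + 1) * m := by
    intro n
    induction n with
    | zero => intro _ l _ m _; simp
    | succ n ih =>
      intro hn l hl m hm
      have e : b * (l * b) ^ (n + 1) * b⁻¹ ^ (n + 1 + 1) =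
          b * (l * b) ^ n * b⁻¹ ^ (n + 1) * (b ^ (n + 1) * l * (b ^ (n + 1))⁻¹) := by
        rw [pow_succ (l * b), pow_succ' (b⁻¹) (n + 1), inv_pow]
        group
      rw [e]
      exact (Commute.mul_right (ih (by omega) l hl m hm) (hcomm (n + 1) (by omega) hn m hm l hl))
  obtain ⟨q, hq⟩ : ∃ q, p = q + 1 := ⟨p - 1, by have := hp.out.pos; omega⟩
  have hbq : b ^ p = 1 := hb ▸ pow_orderOf_eq_one b
  have hpi : ∀ l : G, (l * b) ^ p = l * (b * (l * b) ^ q * b⁻¹ ^ (q + 1)) := by
    intro l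
    rw [hq, pow_succ' (l * b) q, inv_pow, ← hq, hbq, inv_one, mul_one, mul_assoc]
  have hprod : ∀ l ∈ L, ∀ m ∈ L, ∀ n : ℕ, n < p →
      (b * (l * b) ^ n * b⁻¹ ^ (n + 1)) * (b * (m * b) ^ n * b⁻¹ ^ (n + 1)) =
        b * (l * m * b) ^ n * b⁻¹ ^ (n + 1) := by
    intro l hl m hm n
    induction n with
    | zero => intro _; simp
    | succ n ih =>
      intro hn
      have e : ∀ x : G, b * (x * b) ^ (n + 1) * b⁻¹ ^ (n + 1 + 1) =
          b * (x * b) ^ n * b⁻¹ ^ (n + 1) * (b ^ (n + 1) * x * (b ^ (n + 1))⁻¹) := by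
        intro x
        rw [pow_succ (x * b), pow_succ' (b⁻¹) (n + 1), inv_pow]
        group
      rw [e, e, e, ← ih (by omega)]
      have hc : (b ^ (n + 1) * l * (b ^ (n + 1))⁻¹) * (b * (m * b) ^ n * b⁻¹ ^ (n + 1)) =
          (b * (m * b) ^ n * b⁻¹ ^ (n + 1)) * (b ^ (n + 1) * l * (b ^ (n + 1))⁻¹) := by
        have hj : ∀ j : ℕ, j ≤ n →
            (b ^ (n + 1) * l * (b ^ (n + 1))⁻¹) * (b * (m * b) ^ j * b⁻¹ ^ (j + 1)) =
              (b * (m * b) ^ j * b⁻¹ ^ (j + 1)) * (b ^ (n + 1) * l * (b ^ (n + 1))⁻¹) := by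
          intro j
          induction j with
          | zero => intro _; simp
          | succ j ihj =>
            intro hjn
            have e' : b * (m * b) ^ (j + 1) * b⁻¹ ^ (j + 1 + 1) =
                b * (m * b) ^ j * b⁻¹ ^ (j + 1) * (b ^ (j + 1) * m * (b ^ (j + 1))⁻¹) := by
              rw [pow_succ (m * b), pow_succ' (b⁻¹) (j + 1), inv_pow]
              group
            rw [e']
            refine Commute.mul_right (ihj (by omega)) ?_
            have h0 : Commute m (b ^ (n - j) * l * (b ^ (n - j))⁻¹) :=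
              hcomm (n - j) (by omega) (by omega) m hm l hl
            have h1 := (h0.symm.map (MulAut.conj (b ^ (j + 1))).toMonoidHom).eq
            have e2 : ∀ x : G, (MulAut.conj (b ^ (j + 1))).toMonoidHom x =
                b ^ (j + 1) * x * (b ^ (j + 1))⁻¹ := fun x => rfl
            rw [e2, e2] at h1
            have e3 : b ^ (n + 1) * l * (b ^ (n + 1))⁻¹ =
                b ^ (j + 1) * (b ^ (n - j) * l * (b ^ (n - j))⁻¹) * (b ^ (j + 1))⁻¹ := by
              rw [show n + 1 = j + 1 + (n - j) by omega, pow_add]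
              group
            rw [e3]
            exact h1
        exact hj n le_rfl
      have e5 : b ^ (n + 1) * (l * m) * (b ^ (n + 1))⁻¹ =
          b ^ (n + 1) * l * (b ^ (n + 1))⁻¹ * (b ^ (n + 1) * m * (b ^ (n + 1))⁻¹) := by group
      rw [e5]
      simp only [mul_assoc] at hc ⊢
      rw [← mul_assoc (b ^ (n + 1)) l] at hc
      simp only [mul_assoc] at hc
      exact congrArg (fun z => b * ((l * b) ^ n * (b⁻¹ ^ (n + 1) * z)))
        (by
          have := congrArg (fun z => z * (b ^ (n + 1) * (m * (b ^ (n + 1))⁻¹))) hc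
          simpa only [mul_assoc] using this)
  let π : ↥L →* G :=
    { toFun := fun l => ((l : G) * b) ^ p
      map_one' := by simp [hbq]
      map_mul' := fun l m => by
        show ((l : G) * m * b) ^ p = ((l : G) * b) ^ p * ((m : G) * b) ^ p
        rw [hpi, hpi, hpi, ← hprod l l.2 m m.2 q (by omega)]
        have h2 : Commute (m : G) (b * ((l : G) * b) ^ q * b⁻¹ ^ (q + 1)) := tail q (by omega) l l.2 m m.2
        set A := b * ((l : G) * b) ^ q * b⁻¹ ^ (q + 1)
        set B := b * ((m : G) * b) ^ q * b⁻¹ ^ (q + 1)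
        calc (l : G) * m * (A * B) = (l : G) * ((m : G) * A) * B := by simp only [mul_assoc]
          _ = (l : G) * (A * m) * B := by rw [h2.eq]
          _ = (l : G) * A * ((m : G) * B) := by simp only [mul_assoc] }
  have hπC : ∀ l : ↥L, π l ∈ centralizer (zpowers b : Set G) := by
    intro l
    rw [zpowers_eq_closure, centralizer_closure, mem_centralizer_singleton_iff]
    have h1 : b * ((l : G) * b) ^ p = ((l : G)⁻¹ * (((l : G) * b) ^ p) * (l : G)) * b := by
      have h : ((l : G) * b) * ((l : G) * b) ^ p = ((l : G) * b) ^ p * ((l : G) * b) :=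
        (Commute.self_pow _ p).eq
      calc b * ((l : G) * b) ^ p = (l : G)⁻¹ * (((l : G) * b) * ((l : G) * b) ^ p) := by
            rw [mul_assoc (l : G) b, inv_mul_cancel_left]
        _ = _ := by rw [h]; simp only [mul_assoc]
    have h2 : (l : G) * ((l : G) * b) ^ p = ((l : G) * b) ^ p * (l : G) := by
      rw [hpi]
      have := tail q (by omega) l l.2 l l.2
      exact (Commute.mul_right (Commute.refl (l : G)) this).eq
    show ((l : G) * b) ^ p * b = b * ((l : G) * b) ^ p
    rw [h1]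
    simp only [mul_assoc]
    rw [← mul_assoc (((l : G) * b) ^ p) (l : G), ← h2]
    group
  have hπker : ∀ l : ↥L, π l = 1 → l ∈ center ↥L := by
    intro l hl
    refine mem_center_iff.mpr fun m => Subtype.ext ?_
    have h : Commute (m : G) (b * ((l : G) * b) ^ q * b⁻¹ ^ (q + 1)) := tail q (by omega) l l.2 m m.2
    have hl' : (l : G) * (b * ((l : G) * b) ^ q * b⁻¹ ^ (q + 1)) = 1 := (hpi l).symm.trans hl
    rw [eq_inv_of_mul_eq_one_right hl'] at h
    exact (Commute.inv_right_iff.mp h).eq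
  have hwL : w ∈ normalizer (L : Set G) := cCore_le_normalizer_component hO hbp hL hw
  have hπw : ∀ l : ↥L, ∀ hl : w * (l : G) * w⁻¹ ∈ L, π ⟨w * (l : G) * w⁻¹, hl⟩ = w * π l * w⁻¹ := by
    intro l hl
    show (w * (l : G) * w⁻¹ * b) ^ p = w * ((l : G) * b) ^ p * w⁻¹
    rw [← conj_pow]
    congr 1
    have := hcw 1
    rw [pow_one] at this
    rw [mul_assoc (w * (l : G)) w⁻¹, show w⁻¹ * b = b * w⁻¹ from
      (Commute.inv_left (this : Commute b w).symm).eq]
    group
  set N := (cCore p (zpowers b)).comap π with hN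
  haveI hNn : N.Normal := by
    refine ⟨fun x hx g => ?_⟩
    show π (g * x * g⁻¹) ∈ cCore p (zpowers b)
    rw [map_mul, map_mul, map_inv]
    exact (mem_normalizer_iff.mp
      ((centralizer_le_normalizer _).trans (normalizer_le_normalizer_cCore _) (hπC g)) _).mp hx
  have hNc : N ≤ center ↥L := by
    refine (qs_normal_cases hL.2 hNn).resolve_left fun htop => ?_
    refine qs_center_ne_top hL.2 (top_le_iff.mp fun l _ => hπker l ?_)
    have hker : π.ker = ⊤ := component_eq_of_coprime_index hO hL (by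
      rw [Subgroup.index_ker]
      refine (coprime_card_cCore (zpowers b)).coprime_dvd_left (card_dvd_of_le ?_)
      rintro _ ⟨x, rfl⟩
      have hx : x ∈ N := htop ▸ mem_top x
      exact hx)
    exact MonoidHom.mem_ker.mp (hker ▸ mem_top l)
  refine mem_centralizer_of_commutator_central (qs_subgroup_perfect hL.2) fun k hk => ?_
  have hwk : w * k * w⁻¹ ∈ L := (mem_normalizer_iff.mp hwL k).mp hk
  have hmem : (⟨w * k * w⁻¹, hwk⟩ : ↥L) * (⟨k, hk⟩ : ↥L)⁻¹ ∈ N := by
    show π (⟨w * k * w⁻¹, hwk⟩ * (⟨k, hk⟩ : ↥L)⁻¹) ∈ cCore p (zpowers b)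
    rw [map_mul, map_inv, hπw ⟨k, hk⟩ hwk]
    have hn := (centralizer_le_normalizer _).trans (normalizer_le_normalizer_cCore (p := p) _) (hπC ⟨k, hk⟩)
    rw [show w * π ⟨k, hk⟩ * w⁻¹ * (π ⟨k, hk⟩)⁻¹ = w * (π ⟨k, hk⟩ * w⁻¹ * (π ⟨k, hk⟩)⁻¹) by group]
    exact mul_mem hw ((mem_normalizer_iff.mp hn _).mp (inv_mem hw))
  exact (mem_map_center_iff L).mp ⟨_, hNc hmem, rfl⟩

/-! ### Automorphisms induced on a component -/

/-- The homomorphism `N_G(K) → Aut K`. -/
noncomputable abbrev autHom (K : Subgroup G) : ↥(normalizer (K : Set G)) →* MulAut ↥K :=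
  K.normalizerMonoidHom

theorem autHom_eq_one_iff {K : Subgroup G} (x : ↥(normalizer (K : Set G))) :
    autHom K x = 1 ↔ (x : G) ∈ centralizer (K : Set G) := by
  rw [← MonoidHom.mem_ker, normalizerMonoidHom_ker]
  rfl

theorem range_conj_le_map_autHom {K M : Subgroup G} (hKM : K ≤ M) :
    (MulAut.conj : ↥K →* MulAut ↥K).range ≤ (M.subgroupOf (normalizer (K : Set G))).map (autHom K) := by
  rintro _ ⟨k, rfl⟩
  exact ⟨⟨k, le_normalizer k.2⟩, hKM k.2, by ext x; rfl⟩

/-- The image of `O_{p'}(C_G(b))` in a group of automorphisms of `K` generated by inner ones and by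
elements centralising `b`, lies in `O_{p'}` of the centraliser of the image of `b`. -/
theorem autHom_mem_core [Finite G] [hp : Fact p.Prime] (hO : pPrimeCore p G = ⊥)
    {K : Subgroup G} (hK : IsComponent K) {U : Subgroup G} (hU : U ≤ normalizer (K : Set G))
    {b : G} (hbp : ∃ k : ℕ, b ^ p ^ k = 1) (hUb : U ≤ centralizer ({b} : Set G)) (hb : b ∈ U)
    {w : G} (hw : w ∈ cCore p (zpowers b)) (hwU : w ∈ U)
    {A : Subgroup (MulAut ↥K)} (hA : A = ((K ⊔ U).subgroupOf (normalizer (K : Set G))).map (autHom K))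
    (hbA : autHom K ⟨b, hU hb⟩ ∈ A) (hwA : autHom K ⟨w, hU hwU⟩ ∈ A) :
    (⟨autHom K ⟨w, hU hwU⟩, hwA⟩ : ↥A) ∈ centralizerPPrimeCore p (⟨autHom K ⟨b, hU hb⟩, hbA⟩ : ↥A) := by
  set N := normalizer (K : Set G) with hN
  set φ := autHom K with hφ
  set R1 := zpowers b ⊔ pCore p G with hR1
  have hbpg : IsPGroup p ↥(zpowers b) := by
    intro x
    obtain ⟨k, hk⟩ := hbp
    obtain ⟨i, hi⟩ := mem_zpowers_iff.mp x.2
    refine ⟨k, Subtype.ext ?_⟩
    rw [SubmonoidClass.coe_pow, ← hi, ← zpow_natCast, ← zpow_mul, mul_comm, zpow_mul, zpow_natCast,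
      hk, one_zpow]
    rfl
  set D := cCore p R1 with hD
  have hwD : w ∈ D := cCore_le_cCore_sup_pCore hbpg hw
  set M := K ⊔ U with hM
  have hMN : M ≤ N := sup_le le_normalizer hU
  have hbR : b ∈ R1 := mem_sup_left (mem_zpowers b)
  set X : Subgroup (MulAut ↥K) := ((D ⊓ M).subgroupOf N).map φ with hX
  have hXA : X ≤ A := hA.symm ▸ map_mono (fun x hx => hx.2)
  set bb : ↥A := ⟨φ ⟨b, hU hb⟩, hbA⟩ with hbb
  rw [centralizerPPrimeCore_eq_cCore]
  refine le_cCore (D := X.subgroupOf A) ?_ ?_ ?_ (show _ ∈ X from ⟨⟨w, hU hwU⟩, ⟨hwD, mem_sup_right hwU⟩, rfl⟩)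
  · rintro x ⟨y, hy, hyx⟩
    rw [zpowers_eq_closure, centralizer_closure, mem_centralizer_singleton_iff]
    refine Subtype.ext ?_
    show (x : MulAut ↥K) * φ ⟨b, hU hb⟩ = φ ⟨b, hU hb⟩ * x
    rw [show (x : MulAut ↥K) = φ y from hyx.symm, ← map_mul, ← map_mul]
    exact congrArg φ (Subtype.ext (mem_centralizer_iff.mp (cCore_le R1 hy.1) b hbR).symm)
  · refine Subgroup.le_normalizer_iff.mpr fun h hh x hx => ?_
    rw [zpowers_eq_closure, centralizer_closure, mem_centralizer_singleton_iff] at hh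
    have hmem : (h : MulAut ↥K) ∈ (M.subgroupOf N).map φ := hA ▸ h.2
    obtain ⟨m, hm, hmh⟩ := hmem
    have hm' : (m : G) ∈ ((K ⊔ U : Subgroup G) : Set G) := hm
    rw [coe_mul_of_right_le_normalizer_left _ _ hU, Set.mem_mul] at hm'
    obtain ⟨k, hk, u, hu, hku⟩ := hm'
    -- `m` and `b` commute modulo `C(K)`
    have h1 : φ (m * ⟨b, hU hb⟩) = φ (⟨b, hU hb⟩ * m) := by
      rw [map_mul, map_mul, hmh]
      exact congrArg Subtype.val hh
    rw [MonoidHom.eq_iff, normalizerMonoidHom_ker] at h1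
    have h2 : (b * (m : G))⁻¹ * ((m : G) * b) ∈ centralizer (K : Set G) := h1
    have hub : u * b = b * u := mem_centralizer_singleton_iff.mp (hUb hu)
    have h3 : (b * (m : G))⁻¹ * ((m : G) * b) = u⁻¹ * (k⁻¹ * b⁻¹ * k * b) * u := by
      rw [← hku, mul_assoc k u b, hub]
      group
    rw [h3] at h2
    have hNc : u ∈ normalizer ((centralizer (K : Set G) : Subgroup G) : Set G) :=
      Coprime.le_normalizer_centralizer le_rfl (hU hu)
    have h4 : k⁻¹ * b⁻¹ * k * b ∈ centralizer (K : Set G) :=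
      (mem_normalizer_iff''.mp hNc _).mpr h2
    have hbK : b⁻¹ * k * b ∈ K := (mem_normalizer_iff''.mp (hU hb) k).mp hk
    have h5 : k⁻¹ * b⁻¹ * k * b ∈ pCore p G := by
      refine center_component_le_pCore hO hK (mem_inf.mpr ⟨?_, h4⟩)
      rw [mul_assoc (k⁻¹ * b⁻¹) k b, mul_assoc k⁻¹ b⁻¹ (k * b), ← mul_assoc b⁻¹ k b]
      exact mul_mem (inv_mem hk) hbK
    have hkR : k ∈ normalizer (R1 : Set G) := by
      have hb' : k⁻¹ * b * k ∈ R1 := by
        have : k⁻¹ * b⁻¹ * k ∈ R1 := by
          have h6 : k⁻¹ * b⁻¹ * k * b * b⁻¹ ∈ R1 := mul_mem (mem_sup_right h5) (inv_mem hbR)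
          rwa [mul_inv_cancel_right] at h6
        have := inv_mem this
        simpa [mul_assoc] using this
      rw [← Subgroup.inv_mem_iff]
      refine mem_normalizer_of_conj_mem fun x hx => ?_
      have : R1 ≤ R1.comap (MulAut.conj k⁻¹).toMonoidHom := by
        refine sup_le ((zpowers_le).mpr ?_) fun y hy => mem_sup_right (Core.pCore_normal.conj_mem y hy _)
        show k⁻¹ * b * (k⁻¹)⁻¹ ∈ R1
        rwa [inv_inv]
      exact this hx
    have huR : u ∈ normalizer (R1 : Set G) := by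
      refine mem_normalizer_of_conj_mem fun x hx => ?_
      have : R1 ≤ R1.comap (MulAut.conj u).toMonoidHom := by
        refine sup_le ((zpowers_le).mpr ?_) fun y hy => mem_sup_right (Core.pCore_normal.conj_mem y hy _)
        show u * b * u⁻¹ ∈ R1
        rwa [hub, mul_inv_cancel_right]
      exact this hx
    have hmD : (m : G) ∈ normalizer ((D ⊓ M : Subgroup G) : Set G) := by
      refine inf_normalizer_le_normalizer_inf ⟨normalizer_le_normalizer_cCore R1 ?_, le_normalizer hm⟩
      rw [← hku]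
      exact mul_mem hkR huR
    obtain ⟨y, hy, hyx⟩ := (hx : (x : MulAut ↥K) ∈ X)
    show ((h * x * h⁻¹ : ↥A) : MulAut ↥K) ∈ X
    refine ⟨m * y * m⁻¹, (mem_normalizer_iff.mp hmD _).mp hy, ?_⟩
    rw [map_mul, map_mul, map_inv, hmh, hyx]
    rfl
  · rw [Nat.card_congr (subgroupOfEquivOfLe hXA).toEquiv]
    refine Nat.Coprime.coprime_dvd_left (card_map_dvd _ φ) ?_
    rw [← card_map_of_injective N.subtype_injective, subgroupOf_map_subtype]
    exact (coprime_card_cCore R1).coprime_dvd_left (card_dvd_of_le (inf_le_left.trans inf_le_left))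

/-! ### From local balance of components to balance -/

theorem orderOf_eq_prime_of_elementary [hp : Fact p.Prime] {B : Subgroup G}
    (hB : IsElementaryAbelian p B) {b : G} (hb : b ∈ B) (hb1 : b ≠ 1) : orderOf b = p :=
  orderOf_eq_prime (hB.2 b hb) hb1

theorem elementary_isPGroup {B : Subgroup G} (hB : IsElementaryAbelian p B) : IsPGroup p B :=
  fun b => ⟨1, Subtype.ext (by simpa using hB.2 b b.2)⟩

theorem exists_subgroup_card_pow [Finite G] [hp : Fact p.Prime] {k : ℕ} {B : Subgroup G}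
    (hB : IsElementaryAbelian p B) (hk : p ^ k ≤ Nat.card B) :
    ∃ B0 : Subgroup G, B0 ≤ B ∧ IsElementaryAbelian p B0 ∧ Nat.card B0 = p ^ k := by
  obtain ⟨n, hn⟩ := IsPGroup.iff_card.mp (elementary_isPGroup hB)
  have hkn : k ≤ n := (Nat.pow_le_pow_iff_right hp.out.one_lt).mp (hn ▸ hk)
  obtain ⟨S, hS⟩ := Sylow.exists_subgroup_card_pow_prime (G := ↥B) p (n := k) (hn ▸ pow_dvd_pow p hkn)
  refine ⟨S.map B.subtype, map_subtype_le S, ⟨?_, fun a ha => hB.2 a (map_subtype_le S ha)⟩,
    by rw [card_map_of_injective B.subtype_injective, hS]⟩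
  exact ⟨⟨fun x y => Subtype.ext (congrArg (fun z : ↥B => (z : G))
    (hB.1.is_comm.comm (⟨x, map_subtype_le S x.2⟩ : ↥B) ⟨y, map_subtype_le S y.2⟩))⟩⟩

/-- The common part of the analysis of one component: either `w` centralises it, or `B` gives an
elementary abelian group of automorphisms of order `p ^ k` whose `Δ` contains the image of `w`. -/
theorem component_balance_cases [Finite G] [hp : Fact p.Prime] (hO : pPrimeCore p G = ⊥)
    {k : ℕ} (hk : 1 ≤ k) {B : Subgroup G} (hB : IsElementaryAbelian p B) (hBk : p ^ k ≤ Nat.card B)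
    {K : Subgroup G} (hK : IsComponent K) {w : G}
    (hw : ∀ b ∈ B, b ≠ 1 → w ∈ cCore p (zpowers b)) {U : Subgroup G}
    (hU : U ≤ normalizer (K : Set G)) (hwU : w ∈ U)
    (hBU : (∀ b ∈ B, b ∈ normalizer (K : Set G)) → B ≤ U)
    (hUB : U ≤ centralizer (B : Set G)) :
    w ∈ centralizer (K : Set G) ∨
    ∃ (A : Subgroup (MulAut ↥K)) (_ : (MulAut.conj : ↥K →* MulAut ↥K).range ≤ A)
      (E : Subgroup ↥A), IsElementaryAbelian p E ∧ Nat.card E = p ^ k ∧
      ∃ (hwA : autHom K ⟨w, hU hwU⟩ ∈ A), (⟨autHom K ⟨w, hU hwU⟩, hwA⟩ : ↥A) ∈ signalizerDelta p E ∧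
      ∀ (x : G) (hxU : x ∈ U), ∃ (hxA : autHom K ⟨x, hU hxU⟩ ∈ A),
        (⟨autHom K ⟨x, hU hxU⟩, hxA⟩ : ↥A) ∈ centralizer (E : Set ↥A) := by
  by_cases hmove : ∀ b ∈ B, b ∈ normalizer (K : Set G)
  swap
  · push Not at hmove
    obtain ⟨b, hb, hbK⟩ := hmove
    have hb1 : b ≠ 1 := fun h => hbK (h ▸ one_mem _)
    exact Or.inl (cCore_centralizes_of_moved hO (orderOf_eq_prime_of_elementary hB hb hb1) hK
      (fun h => hbK (mem_normalizer_iff_map_conj_eq.mpr h)) (hw b hb hb1))
  by_cases hcent : ∃ b ∈ B, b ≠ 1 ∧ b ∈ centralizer (K : Set G)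
  · obtain ⟨b, hb, hb1, hbK⟩ := hcent
    refine Or.inl (cCore_centralizes_of_centralized hO
      ((elementary_isPGroup hB).to_le (zpowers_le.mpr hb)) hK ?_ (hw b hb hb1))
    rw [le_centralizer_iff]
    exact zpowers_le.mpr hbK
  push Not at hcent
  right
  have hBU' : B ≤ U := hBU hmove
  set N := normalizer (K : Set G) with hN
  set φ := autHom K with hφ
  set A := ((K ⊔ U).subgroupOf N).map φ with hA
  have hmemA : ∀ (x : G) (hxU : x ∈ U), φ ⟨x, hU hxU⟩ ∈ A := fun x hxU =>
    ⟨⟨x, hU hxU⟩, (mem_sup_right hxU : x ∈ K ⊔ U), rfl⟩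
  obtain ⟨B0, hB0, hB0e, hB0c⟩ := exists_subgroup_card_pow hB hBk
  let ψ : ↥B0 →* ↥A :=
    { toFun := fun b => ⟨φ ⟨b, hU (hBU' (hB0 b.2))⟩, hmemA _ (hBU' (hB0 b.2))⟩
      map_one' := Subtype.ext (map_one φ)
      map_mul' := fun b c => Subtype.ext (by
        show φ _ = φ _ * φ _
        rw [← map_mul]
        rfl) }
  have hψ : Function.Injective ψ := by
    rw [injective_iff_map_eq_one]
    intro b hb
    by_contra hb1
    exact hcent b (hB0 b.2) (fun h => hb1 (Subtype.ext h))
      ((autHom_eq_one_iff _).mp (congrArg Subtype.val hb))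
  refine ⟨A, range_conj_le_map_autHom le_sup_left, ψ.range, ⟨?_, ?_⟩, ?_, hmemA w hwU, ?_, fun x hxU => ⟨hmemA x hxU, ?_⟩⟩
  · refine ⟨⟨?_⟩⟩
    rintro ⟨_, b, rfl⟩ ⟨_, c, rfl⟩
    refine Subtype.ext ?_
    show ψ b * ψ c = ψ c * ψ b
    rw [← map_mul, ← map_mul, hB0e.1.is_comm.comm]
  · rintro _ ⟨b, rfl⟩
    rw [← map_pow, show b ^ p = 1 from Subtype.ext (by simpa using hB0e.2 b b.2), map_one]
  · rw [← hB0c]
    exact (Nat.card_congr (MonoidHom.ofInjective hψ).toEquiv).symm
  · rw [signalizerDelta, mem_iInf]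
    rintro ⟨_, ⟨b, rfl⟩, hne⟩
    have hb1 : (b : G) ≠ 1 := fun h => hne (by rw [show b = 1 from Subtype.ext h, map_one])
    exact autHom_mem_core hO hK hU ⟨1, by simpa using hB.2 b (hB0 b.2)⟩
      (hUB.trans (centralizer_le (by simpa using hB0 b.2))) (hBU' (hB0 b.2))
      (hw b (hB0 b.2) hb1) hwU hA _ _
  · rw [mem_centralizer_iff]
    rintro _ ⟨b, rfl⟩
    refine Subtype.ext ?_
    show φ _ * φ _ = φ _ * φ _
    rw [← map_mul, ← map_mul]
    exact congrArg φ (Subtype.ext (mem_centralizer_iff.mp (hUB hxU) (b : G) (hB0 b.2)))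

/-- An element centralising every component and `O_p(G)` lies in `O_p(G)` when `O_{p'}(G) = 1`. -/
theorem mem_pCore_of_centralizes [Finite G] [Fact p.Prime] (hO : pPrimeCore p G = ⊥) {w : G}
    (h1 : ∀ K : Subgroup G, IsComponent K → w ∈ centralizer (K : Set G))
    (h2 : w ∈ centralizer (pCore p G : Set G)) : w ∈ pCore p G := by
  have hF := fitting_eq_pCore_of_pPrimeCore_eq_bot hO
  set F := generalizedFittingSubgroup G with hFdef
  have hle : F ≤ centralizer ({w} : Set G) := by
    refine sup_le (sSup_le fun K hK => ?_) ?_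
    · exact fun x hx => mem_centralizer_singleton_iff.mpr (mem_centralizer_iff.mp (h1 K hK) x hx)
    · rw [hF]
      exact fun x hx => mem_centralizer_singleton_iff.mpr (mem_centralizer_iff.mp h2 x hx)
  have hwC : w ∈ centralizer (F : Set G) :=
    mem_centralizer_iff.mpr fun x hx => mem_centralizer_singleton_iff.mp (hle hx)
  have hwF : w ∈ F ⊓ centralizer (F : Set G) := ⟨centralizer_generalizedFitting_le hwC, hwC⟩
  haveI : IsMulCommutative ↥(F ⊓ centralizer (F : Set G)) :=
    le_centralizer_iff_isMulCommutative.mp (inf_le_right.trans (centralizer_le inf_le_left))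
  exact hF ▸ Core.le_fittingSubgroup_of_isMulCommutative hwF

theorem eq_one_of_pCore_of_coprime [Finite G] [Fact p.Prime] {w : G} (h : w ∈ pCore p G)
    (hw : (orderOf w).Coprime p) : w = 1 := by
  have h1 := eq_bot_of_isPGroup_of_coprime (S := zpowers w)
    (Core.pCore_isPGroup.to_le (zpowers_le.mpr h)) (by rwa [Nat.card_zpowers])
  exact zpowers_eq_bot.mp h1

theorem exists_ne_one_of_card [hp : Fact p.Prime] {k : ℕ} (hk : 1 ≤ k) {B : Subgroup G}
    (hBk : p ^ k ≤ Nat.card B) : ∃ b ∈ B, b ≠ 1 := by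
  by_contra h
  push Not at h
  rw [(eq_bot_iff_forall B).mpr h, card_bot] at hBk
  exact absurd hBk (not_le.mpr (Nat.one_lt_pow (by omega) hp.out.one_lt))

/-- Local `k`-balance of the components forces `⋂ O_{p'}(C(b)) = 1` when `O_{p'}(G) = 1`. -/
theorem delta_eq_one [Finite G] [hp : Fact p.Prime] (hO : pPrimeCore p G = ⊥) {k : ℕ} (hk : 1 ≤ k)
    {B : Subgroup G} (hB : IsElementaryAbelian p B) (hBk : p ^ k ≤ Nat.card B)
    (hloc : ∀ K : Subgroup G, IsComponent K → IsLocallyKBalanced p k ↥K) {w : G}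
    (hw : ∀ b ∈ B, b ≠ 1 → w ∈ cCore p (zpowers b)) : w = 1 := by
  obtain ⟨b0, hb0, hb01⟩ := exists_ne_one_of_card hk hBk
  have hwc := hw b0 hb0 hb01
  have hbp := (elementary_isPGroup hB).to_le (zpowers_le.mpr hb0)
  refine eq_one_of_pCore_of_coprime (mem_pCore_of_centralizes hO (fun K hK => ?_)
    (cCore_le_centralizer_pCore hbp hwc))
    ((coprime_card_cCore _).coprime_dvd_left (orderOf_dvd_natCard _ hwc))
  set U : Subgroup G := normalizer (K : Set G) ⊓ centralizer (B : Set G) with hU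
  have hwU : w ∈ U := by
    refine ⟨cCore_le_normalizer_component hO hbp hK hwc, mem_centralizer_iff.mpr fun b hb => ?_⟩
    by_cases hb1 : b = 1
    · simp [hb1]
    · exact mem_centralizer_iff.mp (cCore_le _ (hw b hb hb1)) b (mem_zpowers b)
  have hBc : B ≤ centralizer (B : Set G) := le_centralizer_iff_isMulCommutative.mpr hB.1
  rcases component_balance_cases hO hk hB hBk hK hw (U := U) inf_le_left hwU
    (fun h b hb => ⟨h b hb, hBc hb⟩) inf_le_right with h | ⟨A, hA, E, hE, hEc, hwA, hd, -⟩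
  · exact h
  · rw [hloc K hK A hA E hE hEc, mem_bot] at hd
    exact (autHom_eq_one_iff _).mp (congrArg Subtype.val hd)

/-- Weak local `k`-balance: `[w, x] = 1` for `x` of order `p` commuting with `B` and fixing all components. -/
theorem weak_delta_commute [Finite G] [hp : Fact p.Prime] (hO : pPrimeCore p G = ⊥) {k : ℕ}
    (hk : 1 ≤ k) {B : Subgroup G} (hB : IsElementaryAbelian p B) (hBk : p ^ k ≤ Nat.card B)
    (hloc : ∀ K : Subgroup G, IsComponent K → IsWeaklyLocallyKBalanced p k ↥K) {w x : G}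
    (hw : ∀ b ∈ B, b ≠ 1 → w ∈ cCore p (zpowers b)) (hxp : x ^ p = 1)
    (hxB : x ∈ centralizer (B : Set G))
    (hxK : ∀ K : Subgroup G, IsComponent K → x ∈ normalizer (K : Set G)) : w * x = x * w := by
  obtain ⟨b0, hb0, hb01⟩ := exists_ne_one_of_card hk hBk
  have hwc := hw b0 hb0 hb01
  have hbp := (elementary_isPGroup hB).to_le (zpowers_le.mpr hb0)
  rw [← commutatorElement_eq_one_iff_mul_comm]
  have hmem : ⁅w, x⁆ ∈ cCore p (zpowers b0) := by
    rw [show ⁅w, x⁆ = w * (x * w⁻¹ * x⁻¹) by simp [commutatorElement_def, mul_assoc]]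
    refine mul_mem hwc ((mem_normalizer_iff.mp (normalizer_le_normalizer_cCore _ ?_) _).mp (inv_mem hwc))
    exact centralizer_le_normalizer _ (centralizer_le (zpowers_le.mpr hb0) hxB)
  refine eq_one_of_pCore_of_coprime (mem_pCore_of_centralizes hO (fun K hK => ?_)
    (cCore_le_centralizer_pCore hbp hmem))
    ((coprime_card_cCore _).coprime_dvd_left (orderOf_dvd_natCard _ hmem))
  set U : Subgroup G := normalizer (K : Set G) ⊓ centralizer (B : Set G) with hU
  have hwU : w ∈ U := by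
    refine ⟨cCore_le_normalizer_component hO hbp hK hwc, mem_centralizer_iff.mpr fun b hb => ?_⟩
    by_cases hb1 : b = 1
    · simp [hb1]
    · exact mem_centralizer_iff.mp (cCore_le _ (hw b hb hb1)) b (mem_zpowers b)
  have hxU : x ∈ U := ⟨hxK K hK, hxB⟩
  have hBc : B ≤ centralizer (B : Set G) := le_centralizer_iff_isMulCommutative.mpr hB.1
  rcases component_balance_cases hO hk hB hBk hK hw (U := U) inf_le_left hwU
    (fun h b hb => ⟨h b hb, hBc hb⟩) inf_le_right with h | ⟨A, hA, E, hE, hEc, hwA, hd, hall⟩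
  · have hx' : x ∈ normalizer ((centralizer (K : Set G) : Subgroup G) : Set G) :=
      Coprime.le_normalizer_centralizer le_rfl (hxK K hK)
    rw [show ⁅w, x⁆ = w * (x * w⁻¹ * x⁻¹) by simp [commutatorElement_def, mul_assoc]]
    exact mul_mem h ((mem_normalizer_iff.mp hx' _).mp (inv_mem h))
  · obtain ⟨hxA, hxE⟩ := hall x hxU
    have key : autHom K ⟨w, hwU.1⟩ * autHom K ⟨x, hxU.1⟩ = autHom K ⟨x, hxU.1⟩ * autHom K ⟨w, hwU.1⟩ := by
      by_cases h1 : (⟨autHom K ⟨x, hxU.1⟩, hxA⟩ : ↥A) = 1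
      · rw [show autHom K ⟨x, hxU.1⟩ = 1 from congrArg Subtype.val h1, mul_one, one_mul]
      · have hord : orderOf (⟨autHom K ⟨x, hxU.1⟩, hxA⟩ : ↥A) = p := by
          refine orderOf_eq_prime (Subtype.ext ?_) h1
          rw [SubmonoidClass.coe_pow]
          show autHom K ⟨x, hxU.1⟩ ^ p = 1
          rw [← map_pow, show (⟨x, hxU.1⟩ : ↥(normalizer (K : Set G))) ^ p = 1 from
            Subtype.ext (by simpa using hxp), map_one]
        exact congrArg Subtype.val
          (mem_centralizer_singleton_iff.mp (hloc K hK A hA E hE hEc _ hord hxE hd))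
    set w' : ↥(normalizer (K : Set G)) := ⟨w, hwU.1⟩ with hw'
    set x' : ↥(normalizer (K : Set G)) := ⟨x, hxU.1⟩ with hx'
    have key2 : autHom K (w' * x' * (x' * w')⁻¹) = 1 := by
      rw [map_mul, map_inv, map_mul, map_mul, key, mul_inv_cancel]
    have hmem2 := (autHom_eq_one_iff _).mp key2
    have e : w * x * (x * w)⁻¹ = ⁅w, x⁆ := by simp [commutatorElement_def, mul_assoc]
    rw [← e]
    exact hmem2

/-- The image of `O_{p'}(C_G(b)) ∩ C_G(a)` in `C_G(a) / O_{p'}(C_G(a))`. -/
theorem mk_mem_cCore [Finite G] [hp : Fact p.Prime] {C : Subgroup G} {b : G} (hbC : b ∈ C)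
    (hb : b ^ p = 1) {w : G} (hwC : w ∈ C) (hw : w ∈ centralizerPPrimeCore p b) :
    (QuotientGroup.mk' (pPrimeCore p ↥C)) ⟨w, hwC⟩ ∈
      cCore p (zpowers (QuotientGroup.mk' (pPrimeCore p ↥C) ⟨b, hbC⟩)) := by
  set f := QuotientGroup.mk' (pPrimeCore p ↥C) with hf
  have hzp : IsPGroup p ↥(zpowers (⟨b, hbC⟩ : ↥C)) := by
    intro x
    obtain ⟨i, hi⟩ := mem_zpowers_iff.mp x.2
    refine ⟨1, Subtype.ext ?_⟩
    rw [SubmonoidClass.coe_pow, ← hi, ← zpow_natCast, ← zpow_mul, mul_comm, zpow_mul, zpow_natCast,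
      pow_one, show (⟨b, hbC⟩ : ↥C) ^ p = 1 from Subtype.ext (by simpa using hb), one_zpow]
    rfl
  have hker : (Nat.card f.ker).Coprime p := by
    rw [hf, QuotientGroup.ker_mk']
    exact Core.coprime_card_pPrimeCore
  rw [centralizerPPrimeCore_eq_cCore] at hw
  have h1 : (⟨w, hwC⟩ : ↥C) ∈ cCore p ((zpowers b).subgroupOf C) :=
    cCore_mem_subgroup (zpowers_le.mpr hbC) hw
  have he : (zpowers b).subgroupOf C = zpowers (⟨b, hbC⟩ : ↥C) := by
    apply Subgroup.map_injective C.subtype_injective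
    rw [map_subgroupOf_eq_of_le (zpowers_le.mpr hbC), MonoidHom.map_zpowers]
    rfl
  rw [he] at h1
  have := map_cCore_le (QuotientGroup.mk'_surjective _) hker hzp (mem_map_of_mem f h1)
  rwa [MonoidHom.map_zpowers] at this

theorem mk_eq_one_iff_mem_centralizerPPrimeCore {a : G} {w : G}
    (hw : w ∈ centralizer ({a} : Set G)) :
    QuotientGroup.mk' (pPrimeCore p ↥(centralizer ({a} : Set G))) ⟨w, hw⟩ = 1 ↔
      w ∈ centralizerPPrimeCore p a := by
  rw [← MonoidHom.mem_ker, QuotientGroup.ker_mk']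
  constructor
  · exact fun h => ⟨_, h, rfl⟩
  · rintro ⟨y, hy, hyw⟩
    rwa [← show y = ⟨w, hw⟩ from Subtype.ext hyw]

theorem map_elementary_mk [Finite G] [hp : Fact p.Prime] {C B : Subgroup G} (hBC : B ≤ C)
    (hB : IsElementaryAbelian p B) :
    IsElementaryAbelian p ((B.subgroupOf C).map (QuotientGroup.mk' (pPrimeCore p ↥C))) ∧
      Nat.card ↥((B.subgroupOf C).map (QuotientGroup.mk' (pPrimeCore p ↥C))) = Nat.card B := by
  set f := QuotientGroup.mk' (pPrimeCore p ↥C) with hf
  refine ⟨⟨⟨⟨?_⟩⟩, ?_⟩, ?_⟩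
  · rintro ⟨_, x, hx, rfl⟩ ⟨_, y, hy, rfl⟩
    refine Subtype.ext ?_
    show f x * f y = f y * f x
    rw [← map_mul, ← map_mul]
    exact congrArg f (Subtype.ext (congrArg (fun z : ↥B => (z : G)) (hB.1.is_comm.comm (⟨x, hx⟩ : ↥B) ⟨y, hy⟩)))
  · rintro _ ⟨x, hx, rfl⟩
    rw [← map_pow, show x ^ p = 1 from Subtype.ext (by simpa using hB.2 _ hx), map_one]
  · rw [← Nat.card_congr (subgroupOfEquivOfLe hBC).toEquiv]
    refine Nat.card_congr (Equiv.ofBijective
      (fun x : ↥(B.subgroupOf C) => (⟨f x, mem_map_of_mem f x.2⟩ : ↥((B.subgroupOf C).map f))) ⟨?_, ?_⟩).symm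
    · intro x y hxy
      have h : f x = f y := congrArg Subtype.val hxy
      rw [MonoidHom.eq_iff, hf, QuotientGroup.ker_mk'] at h
      have h' : (y : ↥C)⁻¹ * x ∈ (B.subgroupOf C) ⊓ pPrimeCore p ↥C :=
        mem_inf.mpr ⟨mul_mem (inv_mem y.2) x.2, h⟩
      have hbot : (B.subgroupOf C) ⊓ pPrimeCore p ↥C = ⊥ :=
        inf_eq_bot_of_isPGroup ((elementary_isPGroup hB).comap_of_injective _ C.subtype_injective)
          Core.coprime_card_pPrimeCore
      rw [hbot, mem_bot, inv_mul_eq_one] at h'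
      exact Subtype.ext h'.symm
    · rintro ⟨_, x, hx, rfl⟩
      exact ⟨⟨x, hx⟩, rfl⟩

/-- `Δ(B) ∩ C(a) ≤ O_{p'}(C(a))` from local balance of the components of `C(a)/O_{p'}(C(a))`. -/
theorem delta_inf_le [Finite G] [hp : Fact p.Prime] {k : ℕ} (hk : 1 ≤ k) {a : G} {B : Subgroup G}
    (hB : IsElementaryAbelian p B) (hBk : p ^ k ≤ Nat.card B) (hBa : B ≤ centralizer ({a} : Set G))
    (hloc : ∀ K : Subgroup (↥(centralizer ({a} : Set G)) ⧸ pPrimeCore p ↥(centralizer ({a} : Set G))),
      IsComponent K → IsLocallyKBalanced p k ↥K) :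
    signalizerDelta p B ⊓ centralizer ({a} : Set G) ≤ centralizerPPrimeCore p a := by
  rintro w ⟨hwd, hwa⟩
  rw [← mk_eq_one_iff_mem_centralizerPPrimeCore hwa]
  set f := QuotientGroup.mk' (pPrimeCore p ↥(centralizer ({a} : Set G)))
  obtain ⟨he, hc⟩ := map_elementary_mk hBa hB
  refine delta_eq_one Core.pPrimeCore_quotient_eq_bot hk he (hc.symm ▸ hBk) hloc ?_
  rintro _ ⟨b, hb, rfl⟩ hb1
  have hbne : (b : G) ≠ 1 := fun h => hb1 (by rw [show b = 1 from Subtype.ext h, map_one])
  exact mk_mem_cCore b.2 (hB.2 _ hb) hwa ((mem_iInf.mp hwd) ⟨(b : G), hb, hbne⟩)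

end Cfsg.Agent.Layer
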