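import Cfsg.Agent.S1877
import Cfsg.Prelude.Def_Balance

/-!
The extended 2-layer: it is normal and one Sylow subgroup suffices in its definition.
-/

set_option autoImplicit false
set_option linter.style.haveILetI false

namespace Cfsg.Agent.Layer

open Subgroup Cfsg
open scoped commutatorElement Pointwise

universe u

variable {X : Type u} [Group X]

/-- `O(C(T))` inside the group. -/
def cenCore (T : Subgroup X) : Subgroup X :=
  (pPrimeCore 2 ↥(centralizer (T : Set X))).map (centralizer (T : Set X)).subtype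

theorem map_cenCore_le [Finite X] (T : Subgroup X) (g : X) :
    (cenCore T).map (MulAut.conj g).toMonoidHom ≤ cenCore (T.map (MulAut.conj g).toMonoidHom) := by
  have hC : (centralizer (T : Set X)).map (MulAut.conj g).toMonoidHom =
      centralizer ((T.map (MulAut.conj g).toMonoidHom : Subgroup X) : Set X) := by
    ext a
    rw [mem_map_conj, mem_centralizer_iff, mem_centralizer_iff]
    constructor
    · rintro h _ ⟨t, ht, rfl⟩
      show g * t * g⁻¹ * a = a * (g * t * g⁻¹)
      calc g * t * g⁻¹ * a = g * (t * (g⁻¹ * a * g)) * g⁻¹ := by group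
        _ = g * ((g⁻¹ * a * g) * t) * g⁻¹ := by rw [h t ht]
        _ = _ := by group
    · intro h t ht
      have h1 := h (g * t * g⁻¹) ⟨t, ht, rfl⟩
      calc t * (g⁻¹ * a * g) = g⁻¹ * (g * t * g⁻¹ * a) * g := by group
        _ = g⁻¹ * (a * (g * t * g⁻¹)) * g := by rw [h1]
        _ = _ := by group
  let e : ↥(centralizer (T : Set X)) ≃* ↥(centralizer ((T.map (MulAut.conj g).toMonoidHom : Subgroup X) : Set X)) :=
    (equivMapOfInjective _ _ (MulAut.conj g).injective).trans (MulEquiv.subgroupCongr hC)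
  rintro _ ⟨_, ⟨c, hc, rfl⟩, rfl⟩
  exact ⟨e c, Core.map_pPrimeCore_le e ⟨c, hc, rfl⟩, rfl⟩

theorem cenCore_le_normalizer_pComponent [Finite X] {K : Subgroup X} (hK : IsPComponent 2 K)
    {T : Subgroup X} (hT : IsPGroup 2 ↥T) : cenCore T ≤ normalizer (K : Set X) := by
  haveI : Fact (Nat.Prime 2) := ⟨Nat.prime_two⟩
  rcases eq_or_ne T ⊥ with rfl | hne
  · have hle : cenCore (⊥ : Subgroup X) ≤ pPrimeCore 2 X := by
      have htop : centralizer ((⊥ : Subgroup X) : Set X) = ⊤ := by
        rw [eq_top_iff]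
        intro a _
        rw [mem_centralizer_iff]
        intro b hb
        rw [SetLike.mem_coe, mem_bot] at hb
        rw [hb, one_mul, mul_one]
      haveI : (cenCore (⊥ : Subgroup X)).Normal := by
        rw [← normalizer_eq_top_iff, eq_top_iff]
        intro g _
        refine mem_normalizer_of_conj_mem fun a ha => ?_
        have h := map_cenCore_le (⊥ : Subgroup X) g ⟨a, ha, rfl⟩
        rwa [Subgroup.map_bot] at h
      refine Core.le_pPrimeCore ?_
      rw [cenCore, card_map_of_injective (Subgroup.subtype_injective _)]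
      exact Core.coprime_card_pPrimeCore
    refine hle.trans (pPrimeCore_le_normalizer_pComponent hK)
  · intro c hc
    have hCN : centralizer (T : Set X) ≤ normalizer (T : Set X) := centralizer_le_normalizer _
    have hle : cenCore T ≤ (pPrimeCore 2 ↥(normalizer (T : Set X))).map (normalizer (T : Set X)).subtype := by
      set N := normalizer (T : Set X) with hN
      have hYN : cenCore T ≤ N := (map_subtype_le _).trans hCN
      rw [← map_subgroupOf_eq_of_le hYN]
      refine map_mono ?_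
      haveI : ((cenCore T).subgroupOf N).Normal := by
        refine (normal_subgroupOf_iff_le_normalizer hYN).mpr fun g hg => mem_normalizer_of_conj_mem fun a ha => ?_
        have h := map_cenCore_le T g ⟨a, ha, rfl⟩
        rwa [map_conj_zpow_fix.mpr hg] at h
      refine Core.le_pPrimeCore ?_
      rw [Nat.card_congr (subgroupOfEquivOfLe hYN).toEquiv, cenCore,
        card_map_of_injective (Subgroup.subtype_injective _)]
      exact Core.coprime_card_pPrimeCore
    exact (mem_iInf.mp (mem_inf.mp (Cfsg.Agent.S1877.result T hT hne (hle hc))).1 ⟨K, hK⟩)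
where
  pPrimeCore_le_normalizer_pComponent {K : Subgroup X} (hK : IsPComponent 2 K) :
      pPrimeCore 2 X ≤ normalizer (K : Set X) := by
    intro g hg
    have h2 : g ∈ normalizer (((K.map (QuotientGroup.mk' (pPrimeCore 2 X))).comap
        (QuotientGroup.mk' (pPrimeCore 2 X)) : Subgroup X) : Set X) :=
      le_normalizer (show g ∈ (K.map (QuotientGroup.mk' (pPrimeCore 2 X))).comap (QuotientGroup.mk' _) by
        rw [mem_comap, QuotientGroup.mk'_apply, (QuotientGroup.eq_one_iff g).mpr hg]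
        exact one_mem _)
    haveI : Fact (Nat.Prime 2) := ⟨Nat.prime_two⟩
    have h3 := normalizer_le_normalizer_pElemClosure (p := 2) _ h2
    have h4 := eq_pComponentOver hK
    unfold pComponentOver at h4
    rwa [h4] at h3

theorem pLayer_normal [Finite X] : (pLayer 2 X).Normal :=
  haveI : Fact (Nat.Prime 2) := ⟨Nat.prime_two⟩
  normal_sSup_of_conj fun K hK g => pLayer_characteristic_aux (MulAut.conj g) hK

theorem pPrimePCore_normal [Finite X] : (pPrimePCore 2 X).Normal := by
  haveI : Fact (Nat.Prime 2) := ⟨Nat.prime_two⟩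
  exact Subgroup.Normal.comap (Core.pCore_normal) _

/-- The ambient Sylow subgroup. -/
noncomputable def extSylow (T : Sylow 2 ↥(pLayer 2 X ⊔ pPrimePCore 2 X)) : Subgroup X :=
  (T : Subgroup ↥(pLayer 2 X ⊔ pPrimePCore 2 X)).map (pLayer 2 X ⊔ pPrimePCore 2 X).subtype

theorem le_extSylow_sup [Finite X] (T : Sylow 2 ↥(pLayer 2 X ⊔ pPrimePCore 2 X)) :
    pLayer 2 X ⊔ pPrimePCore 2 X ≤ pLayer 2 X ⊔ pPrimeCore 2 X ⊔ extSylow T := by
  haveI : Fact (Nat.Prime 2) := ⟨Nat.prime_two⟩
  haveI := pPrimePCore_normal (X := X)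
  refine sup_le (le_sup_of_le_left le_sup_left) ?_
  set f := QuotientGroup.mk' (pPrimeCore 2 X) with hf
  set φ := f.subgroupMap (pLayer 2 X ⊔ pPrimePCore 2 X) with hφ
  have hφs : Function.Surjective φ := f.subgroupMap_surjective (pLayer 2 X ⊔ pPrimePCore 2 X)
  -- the image of `T` contains the normal 2-subgroup `O₂(X/O)`
  set T' := T.mapSurjective hφs with hT'
  have hP : IsPGroup 2 ↥((pCore 2 (X ⧸ pPrimeCore 2 X)).subgroupOf ((pLayer 2 X ⊔ pPrimePCore 2 X).map f)) :=
    (Core.pCore_isPGroup (p := 2)).comap_of_injective ((pLayer 2 X ⊔ pPrimePCore 2 X).map f).subtype ((pLayer 2 X ⊔ pPrimePCore 2 X).map f).subtype_injective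
  haveI : ((pCore 2 (X ⧸ pPrimeCore 2 X)).subgroupOf ((pLayer 2 X ⊔ pPrimePCore 2 X).map f)).Normal :=
    (Core.pCore_normal).subgroupOf _
  have hle := hP.le_sylow_of_normal T'
  intro g hg
  have hgM : g ∈ (pLayer 2 X ⊔ pPrimePCore 2 X) := mem_sup_right hg
  have h1 : φ ⟨g, hgM⟩ ∈ (T' : Subgroup ↥((pLayer 2 X ⊔ pPrimePCore 2 X).map f)) := hle hg
  obtain ⟨t, ht, htg⟩ := h1
  have h2 : (t : X)⁻¹ * g ∈ pPrimeCore 2 X := QuotientGroup.eq.mp (congrArg Subtype.val htg)
  rw [← mul_inv_cancel_left (t : X) g]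
  exact mul_mem (mem_sup_right ⟨t, ht, rfl⟩) (mem_sup_left (mem_sup_right h2))

theorem extendedTwoLayer_eq [Finite X] (T : Sylow 2 ↥(pLayer 2 X ⊔ pPrimePCore 2 X)) :
    extendedTwoLayer X = pLayer 2 X ⊔ pPrimeCore 2 X ⊔ cenCore (extSylow T) := by
  haveI : Fact (Nat.Prime 2) := ⟨Nat.prime_two⟩
  set B := pLayer 2 X ⊔ pPrimeCore 2 X with hB
  haveI := pLayer_normal (X := X)
  haveI : B.Normal := Subgroup.sup_normal _ _
  set U := extSylow T with hU
  refine le_antisymm (sup_le le_sup_left (iSup_le fun T₂ => ?_)) (sup_le le_sup_left ?_)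
  swap
  · exact le_sup_of_le_right (le_iSup_of_le T le_rfl)
  obtain ⟨m, rfl⟩ := MulAction.exists_smul_eq ↥(pLayer 2 X ⊔ pPrimePCore 2 X) T T₂
  have hmap : extSylow (m • T) = U.map (MulAut.conj (m : X)).toMonoidHom := by
    ext a
    rw [mem_map_conj]
    constructor
    · rintro ⟨b, ⟨c, hc, rfl⟩, rfl⟩
      refine ⟨c, hc, ?_⟩
      show (c : X) = (m : X)⁻¹ * ((m : X) * c * (m : X)⁻¹) * m
      group
    · rintro ⟨c, hc, hca⟩
      refine ⟨MulAut.conj m c, ⟨c, hc, rfl⟩, ?_⟩
      show (m : X) * c * (m : X)⁻¹ = a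
      rw [show (c : X) = (m : X)⁻¹ * a * m from hca]
      group
  intro a ha
  have hY : (cenCore U).map (MulAut.conj (m : X)).toMonoidHom ≤ B ⊔ cenCore U := by
    rintro _ ⟨b, hb, rfl⟩
    show (m : X) * b * (m : X)⁻¹ ∈ B ⊔ cenCore U
    have hm : (m : X) ∈ ((B ⊔ U : Subgroup X) : Set X) := le_extSylow_sup T m.2
    rw [normal_mul] at hm
    obtain ⟨c, hc, u, hu, hcu⟩ := Set.mem_mul.mp hm
    have hub : u * b = b * u := mem_centralizer_iff.mp (map_subtype_le _ hb) u hu
    rw [← hcu, show c * u * b * (c * u)⁻¹ = c * (u * b * u⁻¹) * c⁻¹ by group, hub, mul_inv_cancel_right]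
    exact mul_mem (mul_mem (mem_sup_left hc) (mem_sup_right hb)) (inv_mem (mem_sup_left hc))
  refine hY ?_
  have h2 : a ∈ cenCore (extSylow (m • T)) := ha
  rw [hmap] at h2
  have h3 := map_cenCore_le (U.map (MulAut.conj (m : X)).toMonoidHom) (m : X)⁻¹ ⟨a, h2, rfl⟩
  rw [map_conj_map_conj, inv_mul_cancel, map_conj_one] at h3
  exact ⟨_, h3, by show (m : X) * ((m : X)⁻¹ * a * (m : X)⁻¹⁻¹) * (m : X)⁻¹ = a; group⟩

theorem extendedTwoLayer_normal [Finite X] : (extendedTwoLayer X).Normal := by
  haveI : Fact (Nat.Prime 2) := ⟨Nat.prime_two⟩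
  set M := pLayer 2 X ⊔ pPrimePCore 2 X with hM
  haveI := pLayer_normal (X := X)
  haveI := pPrimePCore_normal (X := X)
  haveI : M.Normal := Subgroup.sup_normal _ _
  obtain ⟨T⟩ := (inferInstance : Nonempty (Sylow 2 ↥M))
  rw [← normalizer_eq_top_iff, eq_top_iff]
  intro g _
  refine mem_normalizer_of_conj_mem fun a ha => ?_
  have hle : extendedTwoLayer X ≤ (extendedTwoLayer X).comap (MulAut.conj g).toMonoidHom := by
    have h0 : pLayer 2 X ⊔ pPrimeCore 2 X ≤ extendedTwoLayer X := le_sup_left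
    haveI : (pLayer 2 X ⊔ pPrimeCore 2 X).Normal := Subgroup.sup_normal _ _
    conv_lhs => rw [extendedTwoLayer_eq T]
    refine sup_le (fun b hb => h0 (Subgroup.Normal.conj_mem inferInstance b hb g)) ?_
    rw [← map_le_iff_le_comap]
    refine (map_cenCore_le _ g).trans ?_
    set T₂ := T.mapSurjective (f := (MulAut.conjNormal g : MulAut ↥M).toMonoidHom)
      (MulAut.conjNormal g : MulAut ↥M).surjective with hT₂
    have hT₂' : extSylow T₂ = (extSylow T).map (MulAut.conj g).toMonoidHom := by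
      show ((T : Subgroup ↥M).map _).map M.subtype = ((T : Subgroup ↥M).map M.subtype).map _
      rw [Subgroup.map_map, Subgroup.map_map]
      rfl
    rw [← hT₂', extendedTwoLayer_eq T₂]
    exact le_sup_right
  exact hle ha

theorem exists_odd_complement [Finite X] :
    ∃ F : Subgroup X, Odd (Nat.card ↥F) ∧ (∃ S : Sylow 2 X, (S : Subgroup X) ≤ normalizer (F : Set X)) ∧
      extendedTwoLayer X = pLayer 2 X ⊔ F := by
  haveI : Fact (Nat.Prime 2) := ⟨Nat.prime_two⟩
  set M := pLayer 2 X ⊔ pPrimePCore 2 X with hM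
  haveI := pLayer_normal (X := X)
  haveI := pPrimePCore_normal (X := X)
  haveI : M.Normal := Subgroup.sup_normal _ _
  obtain ⟨T⟩ := (inferInstance : Nonempty (Sylow 2 ↥M))
  have hUp : IsPGroup 2 ↥(extSylow T) := T.isPGroup'.map _
  obtain ⟨S, hS⟩ := hUp.exists_le_sylow
  have hUN : (S : Subgroup X) ≤ normalizer (extSylow T : Set X) := by
    have h1 : (S : Subgroup X).subgroupOf M = (T : Subgroup ↥M) :=
      T.is_maximal' (S.isPGroup'.comap_of_injective M.subtype M.subtype_injective)
        fun a ha => hS ⟨a, ha, rfl⟩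
    have h2 : extSylow T = (S : Subgroup X) ⊓ M := by
      rw [← subgroupOf_map_subtype, h1]; rfl
    rw [h2]
    exact le_normalizer_inf le_normalizer (le_top.trans (normalizer_eq_top (H := M)).ge)
  refine ⟨pPrimeCore 2 X ⊔ cenCore (extSylow T), ?_, ⟨S, ?_⟩, by rw [extendedTwoLayer_eq T, sup_assoc]⟩
  · rw [sup_comm]
    refine Nat.coprime_two_right.mp (coprime_card_sup (le_top.trans (normalizer_eq_top (H := pPrimeCore 2 X)).ge)
      ?_ Core.coprime_card_pPrimeCore)
    rw [cenCore, card_map_of_injective (Subgroup.subtype_injective _)]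
    exact Core.coprime_card_pPrimeCore
  · refine le_normalizer_sup (le_top.trans (normalizer_eq_top (H := pPrimeCore 2 X)).ge) fun s hs => ?_
    refine mem_normalizer_of_conj_mem fun a ha => ?_
    have h := map_cenCore_le (extSylow T) s ⟨a, ha, rfl⟩
    rwa [map_conj_zpow_fix.mpr (hUN hs)] at h

theorem pComponent_normal_extendedTwoLayer [Finite X] {K : Subgroup X} (hK : IsPComponent 2 K) :
    K ≤ extendedTwoLayer X ∧ (K.subgroupOf (extendedTwoLayer X)).Normal := by
  haveI : Fact (Nat.Prime 2) := ⟨Nat.prime_two⟩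
  have hle : K ≤ extendedTwoLayer X := le_sup_of_le_left (le_sup_of_le_left (pComponent_le_pLayer hK))
  refine ⟨hle, (normal_subgroupOf_iff_le_normalizer hle).mpr ?_⟩
  exact sup_le (sup_le (pLayer_le_normalizer_pComponent hK)
    (cenCore_le_normalizer_pComponent.pPrimeCore_le_normalizer_pComponent hK))
    (iSup_le fun T => cenCore_le_normalizer_pComponent hK (T.isPGroup'.map _))

end Cfsg.Agent.Layer
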