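import Cfsg.Agent.Layer.LBalanceTwo
import Cfsg.Agent.Layer.ExtLayer
import Cfsg.Agent.Layer.SimpleComponents
import Cfsg.Agent.AbCentFpf.Chief

/-!
Core balance for the prime 2: the core of the centraliser of a 2-subgroup lies in the extended
2-layer, and so does the extended 2-layer of that centraliser.
-/

set_option autoImplicit false
set_option linter.style.haveILetI false

namespace Cfsg.Agent.Layer

open Subgroup Cfsg
open scoped commutatorElement

universe u v

variable {G : Type u} [Group G] [Finite G]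

/-- If the derived subgroup has odd order, so does the set of elements outside the Sylow `2`-part. -/
theorem mem_oddCore_of_odd_commutator (h : (Nat.card ↥(commutator G)).Coprime 2) {a : G}
    (ha : (orderOf a).Coprime 2) : a ∈ oddCore G := by
  haveI : Fact (Nat.Prime 2) := ⟨Nat.prime_two⟩
  set q := QuotientGroup.mk' (oddCore G) with hq
  have hc : commutator G ≤ oddCore G := Core.le_pPrimeCore h
  have hcomm : ∀ b : G, Commute (q a) (q b) := fun b => by
    rw [Commute, SemiconjBy, ← commutatorElement_eq_one_iff_mul_comm, ← map_commutatorElement]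
    exact (QuotientGroup.eq_one_iff _).mpr (hc (by
      rw [_root_.commutator_def]; exact commutator_mem_commutator (mem_top a) (mem_top b)))
  haveI : (zpowers (q a)).Normal := ⟨fun z hz b => by
    obtain ⟨i, rfl⟩ := mem_zpowers_iff.mp hz
    obtain ⟨b, rfl⟩ := QuotientGroup.mk'_surjective (oddCore G) b
    have e : q b * q a ^ i * (q b)⁻¹ = q a ^ i := by
      rw [((hcomm b).symm.zpow_right i).eq, mul_inv_cancel_right]
    exact e.symm ▸ hz⟩
  have h1 : zpowers (q a) ≤ pPrimeCore 2 (G ⧸ oddCore G) := Core.le_pPrimeCore (by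
    rw [Nat.card_zpowers]
    exact ha.coprime_dvd_left (orderOf_map_dvd q a))
  rw [Core.pPrimeCore_quotient_eq_bot, zpowers_le, mem_bot] at h1
  exact (QuotientGroup.eq_one_iff a).mp h1

/-- Lifting membership of the core through a homomorphism with central kernel. -/
theorem mem_oddCore_of_central_ker {A : Type v} [Group A] [Finite A] (h : G →* A)
    (hker : h.ker ≤ center G) {d : G} (hd : (orderOf d).Coprime 2) (hhd : h d ∈ oddCore A) :
    d ∈ oddCore G := by
  haveI : Fact (Nat.Prime 2) := ⟨Nat.prime_two⟩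
  set S := (oddCore A).comap h with hS
  obtain ⟨Q⟩ : Nonempty (Sylow 2 S) := inferInstance
  have hQker : ∀ z ∈ (Q : Subgroup S), h (z : G) = 1 := fun z hz => by
    obtain ⟨k, hk⟩ := Q.isPGroup' ⟨z, hz⟩
    have hk' : (z : G) ^ 2 ^ k = 1 := congrArg (fun w : (Q : Subgroup S) => ((w : S) : G)) hk
    exact orderOf_eq_one_iff.mp (Nat.eq_one_of_dvd_coprimes
      ((Core.coprime_card_pPrimeCore (p := 2) (G := A)).pow_right k)
      (orderOf_dvd_natCard _ (z.2 : h (z : G) ∈ oddCore A))
      (orderOf_dvd_of_pow_eq_one (by rw [← map_pow, hk', map_one])))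
  have hQc : (Q : Subgroup S) ≤ center S := fun z hz => mem_center_iff.mpr fun y =>
    Subtype.ext (mem_center_iff.mp (hker (MonoidHom.mem_ker.mpr (hQker z hz))) y)
  obtain ⟨z, hz, o, ho, e⟩ := Subgroup.mem_sup_of_normal_right.mp
    ((sylow_sup_oddCore_eq_top Q hQc).ge (mem_top (⟨d, hhd⟩ : S)))
  have h1 : QuotientGroup.mk' (oddCore S) ⟨d, hhd⟩ = QuotientGroup.mk' (oddCore S) z := by
    rw [← e, map_mul, show QuotientGroup.mk' (oddCore S) o = 1 from (QuotientGroup.eq_one_iff o).mpr ho,
      mul_one]
  obtain ⟨k, hk⟩ := Q.isPGroup' ⟨z, hz⟩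
  have h2 : QuotientGroup.mk' (oddCore S) ⟨d, hhd⟩ = 1 := orderOf_eq_one_iff.mp (Nat.eq_one_of_dvd_coprimes
    (hd.pow_right k)
    ((orderOf_map_dvd _ _).trans (dvd_of_eq (orderOf_injective S.subtype S.subtype_injective ⟨d, hhd⟩).symm))
    (orderOf_dvd_of_pow_eq_one (by
      rw [h1, ← map_pow, show z ^ 2 ^ k = 1 from congrArg Subtype.val hk, map_one])))
  exact subnormal_le_pPrimeCore
    (Core.pPrimeCore_normal.isSubnormal.trans' (Subgroup.Normal.isSubnormal inferInstance))
    (by rw [card_map_of_injective S.subtype_injective]; exact Core.coprime_card_pPrimeCore)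
    ⟨_, (QuotientGroup.eq_one_iff _).mp h2, rfl⟩

/-- Odd-order elements centralising a Sylow subgroup of `F*(G)` lie in the core of that centraliser. -/
theorem odd_mem_cCore_of_centralizes_sylow (hO : oddCore G = ⊥) {T : Subgroup G}
    (hT : pCore 2 G ≤ T) (T₀ : Sylow 2 ↥(layer G))
    (hT₀ : (T₀ : Subgroup ↥(layer G)).map (layer G).subtype ≤ T) {d : G}
    (hd : d ∈ centralizer (T : Set G)) (hdo : (orderOf d).Coprime 2) : d ∈ cCore 2 T := by
  haveI : Fact (Nat.Prime 2) := ⟨Nat.prime_two⟩
  set C := centralizer (T : Set G) with hC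
  have hOE : oddCore ↥(layer G) = ⊥ := by
    rw [← (Subgroup.map_injective (layer G).subtype_injective).eq_iff, Subgroup.map_bot, ← le_bot_iff, ← hO]
    exact subnormal_le_pPrimeCore
      (Core.pPrimeCore_normal.isSubnormal.trans' (Subgroup.Normal.isSubnormal inferInstance))
      (by rw [card_map_of_injective (layer G).subtype_injective]; exact Core.coprime_card_pPrimeCore)
  set f := QuotientGroup.mk' (centralizer (layer G : Set G)) with hf
  set h : ↥C →* ↥(C.map f) := f.subgroupMap C with hh
  have hker : h.ker ≤ center ↥C := by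
    intro x hx
    have hxE : (x : G) ∈ centralizer (layer G : Set G) :=
      (QuotientGroup.eq_one_iff _).mp (congrArg Subtype.val hx)
    have hF : fittingSubgroup G = pCore 2 G := fitting_eq_pCore_of_pPrimeCore_eq_bot hO
    have hxU : (x : G) ∈ centralizer (generalizedFittingSubgroup G : Set G) := by
      have hle : generalizedFittingSubgroup G ≤ centralizer ({(x : G)} : Set G) := by
        refine sup_le ?_ ?_ <;> intro y hy <;> rw [mem_centralizer_singleton_iff]
        · exact mem_centralizer_iff.mp hxE y hy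
        · rw [hF] at hy
          exact mem_centralizer_iff.mp x.2 y (hT hy)
      exact mem_centralizer_iff.mpr fun y hy => mem_centralizer_singleton_iff.mp (hle hy)
    haveI : IsMulCommutative ↥(generalizedFittingSubgroup G ⊓
        centralizer (generalizedFittingSubgroup G : Set G)) :=
      le_centralizer_iff_isMulCommutative.mp (inf_le_right.trans (centralizer_le inf_le_left))
    have hxT : (x : G) ∈ T := by
      refine hT ?_
      rw [← hF]
      exact Core.le_fittingSubgroup_of_isMulCommutative
        (show (x : G) ∈ generalizedFittingSubgroup G ⊓ centralizer (generalizedFittingSubgroup G : Set G) from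
          ⟨centralizer_generalizedFitting_le hxU, hxU⟩)
    exact mem_center_iff.mpr fun y => Subtype.ext (mem_centralizer_iff.mp y.2 x hxT).symm
  have hodd : (Nat.card ↥(commutator ↥(C.map f))).Coprime 2 := by
    rw [Nat.coprime_comm, Nat.Prime.coprime_iff_not_dvd Nat.prime_two]
    intro hdvd
    obtain ⟨⟨⟨w, hw⟩, hwc⟩, ho⟩ := exists_prime_orderOf_dvd_card' 2 hdvd
    have hw' : w ∈ ⁅C, C⁆.map f := by
      rw [map_commutator, ← map_subtype_commutator]
      exact ⟨⟨w, hw⟩, hwc, rfl⟩
    obtain ⟨x, hx, rfl⟩ := hw'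
    refine no_involution_image layer_perfect hOE T₀ (centralizer_le hT₀) hx ?_
    rw [← hf, ← ho, ← Subgroup.orderOf_coe, ← Subgroup.orderOf_coe]
  have h1 : h ⟨d, hd⟩ ∈ oddCore ↥(C.map f) := mem_oddCore_of_odd_commutator hodd
    (hdo.coprime_dvd_left ((orderOf_map_dvd h _).trans
      (dvd_of_eq (orderOf_injective C.subtype C.subtype_injective ⟨d, hd⟩).symm)))
  refine ⟨⟨d, hd⟩, mem_oddCore_of_central_ker h hker ?_ h1, rfl⟩
  rwa [← Subgroup.orderOf_coe]

theorem cCore_le_sup_aux (P : Sylow 2 G) (hO : oddCore G = ⊥) : ∀ (n : ℕ) (R : Subgroup G),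
    R ≤ (P : Subgroup G) → Nat.card G ≤ n + Nat.card R →
      cCore 2 R ≤ generalizedFittingSubgroup G ⊔ cCore 2 ((P : Subgroup G) ⊓ generalizedFittingSubgroup G) := by
  haveI : Fact (Nat.Prime 2) := ⟨Nat.prime_two⟩
  intro n
  induction n using Nat.strong_induction_on with
  | _ n ih =>
  intro R hP hn
  set U := generalizedFittingSubgroup G with hU
  have hR : IsPGroup 2 R := P.2.to_le hP
  by_cases hcase : (P : Subgroup G) ⊓ U ≤ R
  · intro d hd
    refine mem_sup_right ?_
    have hPs : IsPGroup 2 ↥((P : Subgroup G).subgroupOf (layer G)) := P.2.comap_subtype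
    refine odd_mem_cCore_of_centralizes_sylow hO ?_
      (hPs.toSylow (show ¬ 2 ∣ ((P : Subgroup G).subgroupOf (layer G)).index
        from not_dvd_relIndex_sylow_normal P (layer G))) ?_ (centralizer_le hcase (cCore_le R hd))
      ((coprime_card_cCore R).coprime_dvd_left (orderOf_dvd_natCard _ hd))
    · refine le_inf (Core.pCore_isPGroup.le_sylow_of_normal P) ?_
      rw [← fitting_eq_pCore_of_pPrimeCore_eq_bot hO]
      exact fitting_le_generalizedFitting
    · rw [IsPGroup.toSylow_coe, subgroupOf_map_subtype]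
      exact inf_le_inf_left _ layer_le_generalizedFitting
  set M := normalizer (R : Set G) with hM
  set V := (P : Subgroup G) ⊓ U ⊓ M with hV
  have hRPU : R ≤ normalizer (((P : Subgroup G) ⊓ U : Subgroup G) : Set G) :=
    le_normalizer_inf (hP.trans le_normalizer) le_normalizer_of_normal
  obtain ⟨x, ⟨hx, hxM⟩, hxR⟩ := SetLike.exists_of_lt
    (Fusion.lt_inf_normalizer_of_isPGroup (P.2.to_le (sup_le hP inf_le_left)) (left_lt_sup.mpr hcase))
  have hRV : R < R ⊔ V := by
    refine left_lt_sup.mpr fun hle => hxR ?_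
    have hx' : x ∈ ((R ⊔ ((P : Subgroup G) ⊓ U) : Subgroup G) : Set G) := hx
    rw [coe_mul_of_left_le_normalizer_right _ _ hRPU, Set.mem_mul] at hx'
    obtain ⟨r, hr, v, hv, rfl⟩ := hx'
    refine R.mul_mem hr (hle ⟨hv, ?_⟩)
    exact (Subgroup.mul_mem_cancel_left M (le_normalizer hr)).mp hxM
  have hVp : IsPGroup 2 ↥V := P.2.to_le (inf_le_left.trans inf_le_left)
  set D := cCore 2 R with hD
  have hVD : V ≤ normalizer (D : Set G) := inf_le_right.trans (normalizer_le_normalizer_cCore R)
  have hdec := Coprime.commutator_sup_centralizer hVD (coprime_card_of_isPGroup hVp (coprime_card_cCore R))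
    (Or.inl (isSolvable_of_isPGroup hVp))
  rw [← hdec]
  refine sup_le (le_sup_of_le_left ?_) ?_
  · exact (commutator_mono le_rfl (inf_le_left.trans inf_le_right)).trans (commutator_le_right _ _)
  have hcen : centralizer ((R ⊔ V : Subgroup G) : Set G) = centralizer (R : Set G) ⊓ centralizer (V : Set G) := by
    refine le_antisymm (le_inf (centralizer_le (SetLike.coe_subset_coe.mpr le_sup_left))
      (centralizer_le (SetLike.coe_subset_coe.mpr le_sup_right))) ?_
    rw [le_centralizer_iff]
    exact sup_le (le_centralizer_iff.mp inf_le_left) (le_centralizer_iff.mp inf_le_right)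
  have hle : D ⊓ centralizer (V : Set G) ≤ cCore 2 (R ⊔ V) := by
    refine le_cCore ((inf_le_inf_right _ (cCore_le R)).trans hcen.ge) ?_
      ((coprime_card_cCore R).coprime_dvd_left (card_dvd_of_le inf_le_left))
    rw [hcen]
    exact le_normalizer_inf (inf_le_left.trans ((centralizer_le_normalizer _).trans
      (normalizer_le_normalizer_cCore R))) (inf_le_right.trans le_normalizer)
  have hlt' := Core.card_lt_of_lt hRV
  have hle' := Subgroup.card_le_card_group (R ⊔ V)
  exact hle.trans (ih (Nat.card G - Nat.card ↥(R ⊔ V)) (by omega) (R ⊔ V)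
    (sup_le hP (inf_le_left.trans inf_le_left)) (by omega))

/-- Core balance, without a hypothesis on composition factors. -/
theorem cCore_le_extendedTwoLayer {R : Subgroup G} (hR : IsPGroup 2 R) :
    cCore 2 R ≤ extendedTwoLayer G := by
  haveI : Fact (Nat.Prime 2) := ⟨Nat.prime_two⟩
  haveI := pLayer_normal (X := G)
  haveI := pPrimePCore_normal (X := G)
  haveI := extendedTwoLayer_normal (X := G)
  set M := pLayer 2 G ⊔ pPrimePCore 2 G with hMdef
  haveI : M.Normal := Subgroup.sup_normal _ _
  set f := QuotientGroup.mk' (pPrimeCore 2 G) with hf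
  have hker : (Nat.card f.ker).Coprime 2 := by
    rw [hf, QuotientGroup.ker_mk']
    exact Core.coprime_card_pPrimeCore
  have hfs : Function.Surjective f := QuotientGroup.mk'_surjective _
  obtain ⟨P, hP⟩ := hR.exists_le_sylow
  have hPs : IsPGroup 2 ↥((P : Subgroup G).subgroupOf M) := P.2.comap_subtype
  set T := hPs.toSylow (show ¬ 2 ∣ ((P : Subgroup G).subgroupOf M).index
    from not_dvd_relIndex_sylow_normal P M) with hT
  have hText : extSylow T = (P : Subgroup G) ⊓ M := by
    rw [extSylow, hT, IsPGroup.toSylow_coe]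
    exact subgroupOf_map_subtype _ _
  have hOX : oddCore (G ⧸ pPrimeCore 2 G) = ⊥ := Core.pPrimeCore_quotient_eq_bot
  set P' := P.mapSurjective hfs with hP'
  have hMf : M.map f = generalizedFittingSubgroup (G ⧸ pPrimeCore 2 G) := by
    rw [hMdef, Subgroup.map_sup, hf, map_pLayer, pPrimePCore,
      map_comap_eq_self_of_surjective (QuotientGroup.mk'_surjective _), generalizedFittingSubgroup,
      fitting_eq_pCore_of_pPrimeCore_eq_bot hOX]
  have hkerM : f.ker ≤ M := le_sup_of_le_right (f.ker_le_comap _)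
  have hTf : (extSylow T).map f = (P' : Subgroup (G ⧸ pPrimeCore 2 G)) ⊓
      generalizedFittingSubgroup (G ⧸ pPrimeCore 2 G) := by
    rw [hText, ← hMf, hP', Sylow.coe_mapSurjective]
    refine le_antisymm (map_inf_le _ _ f) ?_
    rintro _ ⟨⟨a, ha, rfl⟩, m, hm, hma⟩
    refine ⟨a, ⟨ha, ?_⟩, rfl⟩
    have h1 : m⁻¹ * a ∈ M := hkerM (by rw [MonoidHom.mem_ker, map_mul, map_inv, hma, inv_mul_cancel])
    simpa using M.mul_mem hm h1
  -- the image of the core of the centraliser of `T`
  have hTp : IsPGroup 2 ↥(extSylow T) := T.2.map _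
  have hcore : cCore 2 ((extSylow T).map f) ≤ (extendedTwoLayer G).map f := by
    refine le_trans ?_ (map_mono ((extendedTwoLayer_eq T).ge.trans' le_sup_right))
    set C := centralizer ((extSylow T : Subgroup G) : Set G) with hC
    have hCf : C.map f = centralizer (((extSylow T).map f : Subgroup (G ⧸ pPrimeCore 2 G)) :
        Set (G ⧸ pPrimeCore 2 G)) := map_centralizer_of_coprime hfs hker hTp
    set g := (MulEquiv.subgroupCongr hCf).toMonoidHom.comp (f.subgroupMap C) with hg
    have hgs : Function.Surjective g :=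
      (MulEquiv.subgroupCongr hCf).surjective.comp (f.subgroupMap_surjective C)
    rintro _ ⟨y, hy, rfl⟩
    obtain ⟨c, rfl⟩ := hgs y
    refine ⟨c, ⟨c, ?_, rfl⟩, rfl⟩
    refine Core.le_pPrimeCore (N := (pPrimeCore 2 _).comap g) ?_ hy
    have h3 := relIndex_mul_relIndex ⊥ g.ker ((pPrimeCore 2 _).comap g) bot_le (g.ker_le_comap _)
    rw [relIndex_bot_left, relIndex_bot_left, relIndex_ker, map_comap_eq_self_of_surjective hgs] at h3
    rw [← h3]
    refine Nat.Coprime.mul_left ?_ Core.coprime_card_pPrimeCore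
    refine hker.coprime_dvd_left ?_
    rw [← card_map_of_injective C.subtype_injective (K := g.ker)]
    refine card_dvd_of_le ?_
    rintro _ ⟨a, ha, rfl⟩
    exact congrArg Subtype.val ha
  have hmain : cCore 2 (R.map f) ≤ generalizedFittingSubgroup (G ⧸ pPrimeCore 2 G) ⊔ (extendedTwoLayer G).map f :=
    (cCore_le_sup_aux P' hOX _ (R.map f) (map_mono hP) (Nat.le_add_right _ _)).trans
      (sup_le_sup_left (hTf ▸ hcore) _)
  have hlayer : layer (G ⧸ pPrimeCore 2 G) ≤ (extendedTwoLayer G).map f := by
    rw [← map_pLayer]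
    exact map_mono (le_sup_of_le_left le_sup_left)
  haveI : ((extendedTwoLayer G).map f).Normal := Subgroup.Normal.map inferInstance f hfs
  set q := QuotientGroup.mk' ((extendedTwoLayer G).map f) with hq
  have hq2 : IsPGroup 2 ↥((pCore 2 (G ⧸ pPrimeCore 2 G)).map q) := Core.pCore_isPGroup.map q
  intro d hd
  have h1 : f d ∈ cCore 2 (R.map f) := map_cCore_le hfs hker hR ⟨d, hd, rfl⟩
  have h2 : q (f d) ∈ (pCore 2 (G ⧸ pPrimeCore 2 G)).map q := by
    have := mem_map_of_mem q (hmain h1)
    rw [Subgroup.map_sup, hq, QuotientGroup.map_mk'_self, sup_bot_eq, generalizedFittingSubgroup,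
      fitting_eq_pCore_of_pPrimeCore_eq_bot hOX, Subgroup.map_sup] at this
    have hb : (layer (G ⧸ pPrimeCore 2 G)).map q = ⊥ := by
      rw [Subgroup.map_eq_bot_iff, hq, QuotientGroup.ker_mk']
      exact hlayer
    rwa [← hq, hb, bot_sup_eq] at this
  obtain ⟨k, hk⟩ := hq2 ⟨_, h2⟩
  have h3 : q (f d) = 1 := orderOf_eq_one_iff.mp (Nat.eq_one_of_dvd_coprimes
    (((coprime_card_cCore R).coprime_dvd_left (orderOf_dvd_natCard _ hd)).pow_right k)
    ((orderOf_map_dvd q _).trans (orderOf_map_dvd f d))
    (orderOf_dvd_of_pow_eq_one (by simpa using congrArg Subtype.val hk)))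
  have h4 : d ∈ ((extendedTwoLayer G).map f).comap f := mem_comap.mpr ((QuotientGroup.eq_one_iff (f d)).mp h3)
  rw [comap_map_eq, hf, QuotientGroup.ker_mk'] at h4
  exact (sup_le le_rfl (le_sup_of_le_left le_sup_right) :
    extendedTwoLayer G ⊔ pPrimeCore 2 G ≤ extendedTwoLayer G) h4

/-- L-balance for the extended 2-layer: of a normal subgroup of the centraliser of a 2-subgroup. -/
theorem map_extendedTwoLayer_le {N : Type u} [Group N] [Finite N] (ι : N →* G) (hι : Function.Injective ι)
    {R : Subgroup G} (hR : IsPGroup 2 R) (hNR : ι.range ≤ centralizer (R : Set G))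
    (hn : centralizer (R : Set G) ≤ normalizer (ι.range : Set G)) :
    (extendedTwoLayer N).map ι ≤ extendedTwoLayer G := by
  haveI : Fact (Nat.Prime 2) := ⟨Nat.prime_two⟩
  have hchar : ∀ (S : Subgroup G) (Y : Subgroup N), Y.map ι = S →
      normalizer (S : Set G) ≤ normalizer ((((pPrimeCore 2 ↥Y).map Y.subtype).map ι : Subgroup G) : Set G) := by
    rintro S Y rfl
    refine le_of_le_of_eq (AbCentFpf.normalizer_le_map_char (pPrimeCore 2 ↥(Y.map ι))) ?_
    have h1 : ((pPrimeCore 2 ↥Y).map Y.subtype).map ι = (pPrimeCore 2 ↥(Y.map ι)).map (Y.map ι).subtype := by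
      rw [← Core.map_pPrimeCore (equivMapOfInjective Y ι hι), Subgroup.map_map, Subgroup.map_map]
      congr 1
    rw [h1]
  rw [Subgroup.map_le_iff_le_comap]
  refine sup_le (sup_le ?_ ?_) (iSup_le fun T => ?_) <;> rw [← Subgroup.map_le_iff_le_comap]
  · rw [map_le_iff_le_comap]
    refine sSup_le fun K hK => ?_
    rw [← map_le_iff_le_comap]
    obtain ⟨hsn, hKg⟩ := isPComponent_iff_intrinsic.mp hK
    have hKC : K.map ι ≤ centralizer (R : Set G) := (map_le_range ι K).trans hNR
    refine le_trans ?_ (le_sup_left.trans le_sup_left |>.trans'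
      ((map_mono (pComponent_le_pLayer ((isPComponent_subgroupOf_iff hKC).mpr ⟨?_,
        isPCompGroup_congr (equivMapOfInjective K ι hι) hKg⟩))).trans (pLayer_centralizer_le_two hR)))
    · rw [map_subgroupOf_eq_of_le hKC]
    · refine Subgroup.IsSubnormal.trans (fun y hy => (map_le_range ι K) hy) ?_
        ((normal_subgroupOf_iff_le_normalizer hNR).mpr hn).isSubnormal
      have h5 := (hsn.map (f := ι.rangeRestrict) ι.rangeRestrict_surjective).comap
        (subgroupOfEquivOfLe hNR).toMonoidHom
      convert h5 using 1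
      ext y
      constructor
      · rintro ⟨a, ha, e⟩
        exact ⟨a, ha, Subtype.ext e⟩
      · rintro ⟨a, ha, e⟩
        exact ⟨a, ha, congrArg Subtype.val e⟩
  · refine le_trans ?_ (cCore_le_extendedTwoLayer hR)
    have h6 : (oddCore N).map ι = (((pPrimeCore 2 ↥(⊤ : Subgroup N))).map (⊤ : Subgroup N).subtype).map ι := by
      congr 1
      exact (Core.map_pPrimeCore (Subgroup.topEquiv (G := N))).symm
    refine le_cCore ((map_le_range ι _).trans hNR) ?_ ?_
    · rw [h6]
      exact hn.trans (hchar _ _ ι.range_eq_map.symm)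
    · rw [card_map_of_injective hι]
      exact Core.coprime_card_pPrimeCore
  · set T' := ((T : Subgroup ↥(pLayer 2 N ⊔ pPrimePCore 2 N)).map
      (pLayer 2 N ⊔ pPrimePCore 2 N).subtype) with hT'
    set Y := centralizer ((T' : Subgroup N) : Set N) with hY
    have hYmap : Y.map ι = ι.range ⊓ centralizer ((T'.map ι : Subgroup G) : Set G) := by
      ext z
      constructor
      · rintro ⟨a, ha, rfl⟩
        refine ⟨⟨a, rfl⟩, mem_centralizer_iff.mpr ?_⟩
        rintro _ ⟨t, ht, rfl⟩
        rw [← map_mul, ← map_mul, mem_centralizer_iff.mp ha t ht]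
      · rintro ⟨⟨a, rfl⟩, ha⟩
        exact ⟨a, mem_centralizer_iff.mpr fun t ht => hι (by
          rw [map_mul, map_mul]
          exact mem_centralizer_iff.mp ha _ (mem_map_of_mem ι ht)), rfl⟩
    have hTp : IsPGroup 2 ↥(T'.map ι) := (T.2.map _).map ι
    have hTR : T'.map ι ≤ centralizer (R : Set G) := (map_le_range ι _).trans hNR
    refine le_trans ?_ (cCore_le_extendedTwoLayer (R := R ⊔ T'.map ι)
      (hR.to_sup_of_normal_left' hTp (hTR.trans (centralizer_le_normalizer _))))
    refine le_cCore ?_ ?_ ?_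
    · refine (map_mono (map_subtype_le _)).trans ?_
      rw [hYmap, le_centralizer_iff]
      exact sup_le (le_centralizer_iff.mp (inf_le_left.trans hNR)) (le_centralizer_iff.mp inf_le_right)
    · refine le_trans ?_ (hchar _ Y hYmap)
      refine le_normalizer_inf ((centralizer_le (SetLike.coe_subset_coe.mpr le_sup_left)).trans hn)
        ((centralizer_le (SetLike.coe_subset_coe.mpr le_sup_right)).trans le_normalizer)
    · rw [card_map_of_injective hι, card_map_of_injective Y.subtype_injective]
      exact Core.coprime_card_pPrimeCore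

end Cfsg.Agent.Layer
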