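import Cfsg.Agent.Layer.Balance
import Cfsg.Prelude.Def_KGroupFacts

/-!
The p-layer of a p-local subgroup fixes the components; L-balance under the Schreier property.
-/

set_option autoImplicit false
set_option linter.style.haveILetI false

namespace Cfsg.Agent.Layer

open Subgroup Cfsg
open scoped commutatorElement Pointwise

universe u v

variable {G : Type u} [Group G] {H : Type v} [Group H] {p : ℕ}

/-- In a perfect group, a normal subgroup with `p`-power exponent modulo it is everything. -/
theorem eq_top_of_perfect_pow_mem [Finite G] [hp : Fact p.Prime] [Group.IsPerfect G] {S : Subgroup G}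
    [S.Normal] (h : ∀ x : G, ∃ k : ℕ, x ^ p ^ k ∈ S) : S = ⊤ := by
  have hq : IsPGroup p (G ⧸ S) := fun x => by
    obtain ⟨x, rfl⟩ := QuotientGroup.mk'_surjective S x
    obtain ⟨k, hk⟩ := h x
    exact ⟨k, by rw [← map_pow, QuotientGroup.mk'_apply, QuotientGroup.eq_one_iff]; exact hk⟩
  rcases subsingleton_or_nontrivial (G ⧸ S) with hs | hs
  · exact QuotientGroup.subgroup_eq_top_of_subsingleton S hs
  · haveI := hq.isNilpotent
    exact (Group.IsPerfect.not_isNilpotent (G ⧸ S) inferInstance).elim

/-! ### Automorphisms of a perfect group and of its central quotient -/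

/-- `Aut K → Aut (K / Z(K))`. -/
noncomputable def autQuot (K : Type u) [Group K] : MulAut K →* MulAut (K ⧸ center K) where
  toFun α := QuotientGroup.congr (center K) (center K) α
    (Subgroup.characteristic_iff_map_eq.mp inferInstance α)
  map_one' := by
    refine MulEquiv.ext fun x => ?_
    obtain ⟨x, rfl⟩ := QuotientGroup.mk'_surjective (center K) x
    rfl
  map_mul' α β := by
    refine MulEquiv.ext fun x => ?_
    obtain ⟨x, rfl⟩ := QuotientGroup.mk'_surjective (center K) x
    rfl

theorem autQuot_mk (K : Type u) [Group K] (α : MulAut K) (x : K) :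
    autQuot K α (QuotientGroup.mk' (center K) x) = QuotientGroup.mk' (center K) (α x) := rfl

theorem autQuot_conj (K : Type u) [Group K] (k : K) :
    autQuot K (MulAut.conj k) = MulAut.conj (QuotientGroup.mk' (center K) k) := by
  refine MulEquiv.ext fun x => ?_
  obtain ⟨x, rfl⟩ := QuotientGroup.mk'_surjective (center K) x
  rfl

theorem autQuot_injective (K : Type u) [Group K] [Group.IsPerfect K] :
    Function.Injective (autQuot K) := by
  rw [injective_iff_map_eq_one]
  intro α hα
  have hmem : ∀ x : K, α x * x⁻¹ ∈ center K := fun x => by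
    rw [← QuotientGroup.eq_one_iff, ← QuotientGroup.mk'_apply, map_mul, map_inv, ← autQuot_mk, hα]
    exact mul_inv_cancel _
  let f : K →* center K :=
    { toFun := fun x => ⟨α x * x⁻¹, hmem x⟩
      map_one' := Subtype.ext (by simp)
      map_mul' := fun a b => Subtype.ext (by
        show α (a * b) * (a * b)⁻¹ = α a * a⁻¹ * (α b * b⁻¹)
        rw [map_mul, mul_inv_rev, mul_assoc (α a) a⁻¹, mem_center_iff.mp (hmem b) a⁻¹]
        group) }
  have hle : commutator K ≤ f.ker := by
    rw [_root_.commutator_def, commutator_le]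
    intro a _ b _
    rw [MonoidHom.mem_ker, map_commutatorElement, commutatorElement_eq_one_iff_mul_comm]
    exact Subtype.ext (mem_center_iff.mp (f b).2 (f a : K))
  refine MulEquiv.ext fun x => ?_
  have h1 : α x * x⁻¹ = 1 := congrArg Subtype.val
    (MonoidHom.mem_ker.mp (hle (Group.IsPerfect.mem_commutator (g := x))))
  exact mul_inv_eq_one.mp h1

/-! ### Transport of cores and `Δ` along isomorphisms; local balance of quasisimple groups -/

theorem map_centralizerPPrimeCore_le [Finite G] [Fact p.Prime] (e : G ≃* H) (x : G) :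
    (centralizerPPrimeCore p x).map e.toMonoidHom ≤ centralizerPPrimeCore p (e x) := by
  haveI : Finite H := Finite.of_equiv G e.toEquiv
  rw [centralizerPPrimeCore_eq_cCore, centralizerPPrimeCore_eq_cCore]
  have hz : (zpowers x).map e.toMonoidHom = zpowers (e x) := MonoidHom.map_zpowers _ _
  have hc : (cCore p (zpowers x)).map e.toMonoidHom ≤ centralizer (zpowers (e x) : Set H) := by
    rintro _ ⟨y, hy, rfl⟩
    rw [mem_centralizer_iff, ← hz]
    rintro _ ⟨z, hz', rfl⟩
    rw [← map_mul, ← map_mul, mem_centralizer_iff.mp (cCore_le _ hy) z hz']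
  refine le_cCore hc ?_ ?_
  · refine Subgroup.le_normalizer_iff.mpr ?_
    rintro c hc' _ ⟨y, hy, rfl⟩
    obtain ⟨c, rfl⟩ := e.surjective c
    refine ⟨c * y * c⁻¹, (mem_normalizer_iff.mp (normalizer_le_normalizer_cCore _
      (centralizer_le_normalizer _ (mem_centralizer_iff.mpr fun z hz' => e.injective ?_))) _).mp hy, by simp⟩
    rw [map_mul, map_mul]
    exact mem_centralizer_iff.mp hc' (e z) (hz ▸ ⟨z, hz', rfl⟩)
  · rw [card_map_of_injective e.injective]
    exact coprime_card_cCore _

theorem map_signalizerDelta_le [Finite G] [Fact p.Prime] (e : G ≃* H) (A : Subgroup G) :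
    (signalizerDelta p A).map e.toMonoidHom ≤ signalizerDelta p (A.map e.toMonoidHom) := by
  refine le_iInf ?_
  rintro ⟨_, ⟨a, ha, rfl⟩, hne⟩
  refine le_trans (map_mono (iInf_le _ ⟨a, ha, fun h => hne (by rw [h, map_one])⟩)) ?_
  exact map_centralizerPPrimeCore_le e a

theorem isLocallyKBalanced_of_quotient {K : Type u} [Group K] [Finite K] [hp : Fact p.Prime]
    [Group.IsPerfect K] {k : ℕ} (h : IsLocallyKBalanced p k (K ⧸ center K)) :
    IsLocallyKBalanced p k K := by
  intro A hA E hE hEc
  haveI : Finite (MulAut K) := Finite.of_injective (fun α : MulAut K => (α : K → K)) DFunLike.coe_injective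
  set e : ↥A ≃* ↥(A.map (autQuot K)) := equivMapOfInjective A _ (autQuot_injective K) with he
  have hrange : (MulAut.conj : (K ⧸ center K) →* MulAut (K ⧸ center K)).range ≤ A.map (autQuot K) := by
    rintro _ ⟨x, rfl⟩
    obtain ⟨x, rfl⟩ := QuotientGroup.mk'_surjective (center K) x
    exact ⟨MulAut.conj x, hA ⟨x, rfl⟩, autQuot_conj K x⟩
  have hEe : IsElementaryAbelian p (E.map e.toMonoidHom) := by
    refine ⟨⟨⟨?_⟩⟩, ?_⟩
    · rintro ⟨_, a, ha, rfl⟩ ⟨_, b, hb, rfl⟩
      refine Subtype.ext ?_
      show e a * e b = e b * e a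
      rw [← map_mul, ← map_mul]
      exact congrArg e (congrArg (fun z : ↥E => (z : ↥A)) (hE.1.is_comm.comm (⟨a, ha⟩ : ↥E) ⟨b, hb⟩))
    · rintro _ ⟨a, ha, rfl⟩
      rw [← map_pow, hE.2 a ha, map_one]
  have h0 := h _ hrange (E.map e.toMonoidHom) hEe (by rw [card_map_of_injective e.injective, hEc])
  rw [← le_bot_iff]
  intro x hx
  have := map_signalizerDelta_le e E ⟨x, hx, rfl⟩
  rw [h0, mem_bot] at this
  rw [mem_bot]
  exact e.injective (by rw [map_one]; exact this)

theorem isLocallyKBalanced_one_of_balanced {K : Type u} [Group K] (h : IsLocallyBalanced K) :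
    IsLocallyKBalanced 2 1 K := by
  intro A hA E hE hEc
  haveI : Finite ↥E := Nat.finite_of_card_ne_zero (by rw [hEc]; norm_num)
  obtain ⟨x, hx, hx1⟩ := exists_ne_one_of_card (p := 2) (k := 1) le_rfl hEc.ge
  rw [signalizerDelta, ← le_bot_iff]
  exact (iInf_le _ (⟨x, hx, hx1⟩ : {a : ↥A // a ∈ E ∧ a ≠ 1})).trans
    (h A hA x (orderOf_eq_prime_of_elementary hE hx hx1)).le

/-! ### p-components of local subgroups fix the components -/

/-- A subgroup of `G` that, inside `M`, is perfect subnormal and covers a component of `M / O_{p'}(M)`. -/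
def IsPCompLike (p : ℕ) {M : Type u} [Group M] (J : Subgroup M) : Prop :=
  ⁅J, J⁆ = J ∧ J.IsSubnormal ∧ IsComponent (J.map (QuotientGroup.mk' (pPrimeCore p M)))

theorem isPCompLike_pComponent [Finite G] [Fact p.Prime] {K : Subgroup G} (hK : IsPComponent p K) :
    IsPCompLike p K := ⟨pComponent_perfect hK, hK.1, hK.2.1⟩

theorem pCompLike_commute_pCore [Finite G] [Fact p.Prime] {J : Subgroup G} (hJ : IsPCompLike p J) :
    ⁅J, pCore p G⁆ = ⊥ := by
  rw [← le_bot_iff, ← inf_eq_bot_of_isPGroup (Core.pCore_isPGroup (p := p) (G := G))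
    (Core.coprime_card_pPrimeCore (p := p) (G := G))]
  refine le_inf (commutator_le_right _ _) ?_
  have h := component_commute_subnormal_solvable hJ.2.2
    (Core.isSolvable_map (isSolvable_of_isPGroup (Core.pCore_isPGroup (p := p) (G := G)))
      (QuotientGroup.mk' (pPrimeCore p G))) (Core.pCore_normal.isSubnormal.quotient)
  rwa [← map_commutator, Subgroup.map_eq_bot_iff, QuotientGroup.ker_mk'] at h

/-- Transfer of `IsPCompLike` along a surjection with `p'`-kernel. -/
theorem isPCompLike_map [Finite G] [Fact p.Prime] {H : Type u} [Group H] {f : G →* H}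
    (hf : Function.Surjective f) (hker : (Nat.card f.ker).Coprime p) {J : Subgroup G}
    (hJ : IsPCompLike p J) : IsPCompLike p (J.map f) := by
  haveI : Finite H := Finite.of_surjective f hf
  refine ⟨by rw [← map_commutator, hJ.1], hJ.2.1.map hf, ?_⟩
  have hO : (pPrimeCore p H).comap f = pPrimeCore p G := by
    refine le_antisymm (Core.le_pPrimeCore ?_)
      (map_le_iff_le_comap.mp (Core.map_pPrimeCore_le_of_surjective hf))
    set S := (pPrimeCore p H).comap f with hS
    rw [← (f.subgroupComap (pPrimeCore p H)).ker.index_mul_card]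
    refine Nat.Coprime.mul_left ?_ ?_
    · rw [index_ker]
      exact Core.coprime_card_pPrimeCore.coprime_dvd_left (card_subgroup_dvd_card _)
    · refine hker.coprime_dvd_left ?_
      rw [← card_map_of_injective S.subtype_injective]
      refine card_dvd_of_le ?_
      rintro _ ⟨x, hx, rfl⟩
      exact congrArg Subtype.val hx
  set g := (QuotientGroup.mk' (pPrimeCore p H)).comp f with hg
  have hgk : g.ker = pPrimeCore p G := by
    rw [hg, ← MonoidHom.comap_ker, QuotientGroup.ker_mk', hO]
  let e : G ⧸ pPrimeCore p G ≃* H ⧸ pPrimeCore p H :=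
    (QuotientGroup.quotientMulEquivOfEq hgk.symm).trans
      (QuotientGroup.quotientKerEquivOfSurjective g ((QuotientGroup.mk'_surjective _).comp hf))
  have h := isComponent_map_surj e hJ.2.2
  rw [Subgroup.map_map] at h ⊢
  convert h using 2
  ext x
  rfl

/-- A `p`-component-like subgroup of `N(R)` centralises `R` and `O_p(G)`. -/
theorem pCompLike_le_centralizers [Finite G] [hp : Fact p.Prime] {R : Subgroup G} (hR : IsPGroup p R)
    {J : Subgroup ↥(normalizer (R : Set G))} (hJ : IsPCompLike p J) :
    J.map (normalizer (R : Set G)).subtype ≤ centralizer (R : Set G) ⊓ centralizer (pCore p G : Set G) := by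
  have hcomm : ∀ x ∈ (pCore p ↥(normalizer (R : Set G))).map (normalizer (R : Set G)).subtype,
      ∀ l ∈ J.map (normalizer (R : Set G)).subtype, x * l = l * x := by
    rintro _ ⟨x, hx, rfl⟩ _ ⟨l, hl, rfl⟩
    exact congrArg Subtype.val (commute_of_commutator_eq_bot (pCompLike_commute_pCore hJ) hl hx).symm
  have hperf : ⁅J.map (normalizer (R : Set G)).subtype, J.map (normalizer (R : Set G)).subtype⁆ =
      J.map (normalizer (R : Set G)).subtype := by rw [← map_commutator, hJ.1]
  refine le_inf (fun l hl => mem_centralizer_iff.mpr fun x hx => hcomm x (le_pCore_normalizer hR hx) l hl) ?_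
  refine perfect_le_centralizer_of_pPrime_elems (p := p) hperf le_normalizer_of_normal
    fun q hq hqo => ?_
  have := Coprime.thompson_pxq (P := R) (Q := zpowers q) (U := pCore p G) hR
    (by rwa [Nat.card_zpowers]) Core.pCore_isPGroup ?_ le_normalizer_of_normal le_normalizer_of_normal ?_
  · exact this (mem_zpowers q)
  · rw [le_centralizer_iff, zpowers_le, mem_centralizer_iff]
    exact fun x hx => hcomm x (le_pCore_normalizer hR hx) q hq
  · rw [le_centralizer_iff, zpowers_le, mem_centralizer_iff]
    exact fun x hx => hcomm x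
      (pCore_inf_normalizer_le R ⟨hx.1, centralizer_le_normalizer _ hx.2⟩) q hq

/-- The same subgroup seen inside `N(R ⊔ O_p(G))`. -/
theorem pCompLike_enlarge [Finite G] [hp : Fact p.Prime] {R : Subgroup G} (hR : IsPGroup p R)
    {J : Subgroup ↥(normalizer (R : Set G))} (hJ : IsPCompLike p J) :
    IsPCompLike p ((J.map (normalizer (R : Set G)).subtype).subgroupOf
      (normalizer ((R ⊔ pCore p G : Subgroup G) : Set G))) := by
  set J' := J.map (normalizer (R : Set G)).subtype with hJ'
  have hJC : J' ≤ centralizer ((R ⊔ pCore p G : Subgroup G) : Set G) := by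
    rw [le_centralizer_iff]
    exact sup_le (le_centralizer_iff.mp ((pCompLike_le_centralizers hR hJ).trans inf_le_left))
      (le_centralizer_iff.mp ((pCompLike_le_centralizers hR hJ).trans inf_le_right))
  have hR1 : IsPGroup p ↥(R ⊔ pCore p G) := hR.to_sup_of_normal_right Core.pCore_isPGroup
  have hJM : J' ≤ normalizer ((R ⊔ pCore p G : Subgroup G) : Set G) :=
    hJC.trans (centralizer_le_normalizer _)
  have hCN : centralizer ((R ⊔ pCore p G : Subgroup G) : Set G) ≤ normalizer (R : Set G) :=
    (centralizer_le (show (R : Set G) ⊆ (R ⊔ pCore p G : Subgroup G) from le_sup_left (b := pCore p G))).trans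
      (centralizer_le_normalizer _)
  refine ⟨?_, ?_, ?_⟩
  · apply Subgroup.map_injective (Subgroup.subtype_injective _)
    rw [map_commutator, map_subgroupOf_eq_of_le hJM, hJ', ← map_commutator, hJ.1]
  · -- subnormal in the centraliser, hence in the normaliser
    have h1 : (J'.subgroupOf (centralizer ((R ⊔ pCore p G : Subgroup G) : Set G))).IsSubnormal := by
      have := hJ.2.1.comap (Subgroup.inclusion hCN)
      convert this using 1
      ext x
      constructor
      · rintro ⟨y, hy, hyx⟩
        have e : y = Subgroup.inclusion hCN x := Subtype.ext hyx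
        show Subgroup.inclusion hCN x ∈ J
        exact e ▸ hy
      · exact fun hx => ⟨_, hx, rfl⟩
    have h2 : ((centralizer ((R ⊔ pCore p G : Subgroup G) : Set G)).subgroupOf
        (normalizer ((R ⊔ pCore p G : Subgroup G) : Set G))).IsSubnormal :=
      ((normal_subgroupOf_iff_le_normalizer (centralizer_le_normalizer _)).mpr
        (Coprime.le_normalizer_centralizer le_rfl)).isSubnormal
    refine Subgroup.IsSubnormal.trans (fun x hx => hJC hx) ?_ h2
    have := h1.comap ((subgroupOfEquivOfLe (centralizer_le_normalizer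
      ((R ⊔ pCore p G : Subgroup G) : Set G))).toMonoidHom)
    exact this
  · -- the image is the same quotient
    set M := normalizer ((R ⊔ pCore p G : Subgroup G) : Set G) with hM
    refine ⟨?_, ?_⟩
    · refine Subgroup.IsSubnormal.quotient ?_
      have h1 : (J'.subgroupOf (centralizer ((R ⊔ pCore p G : Subgroup G) : Set G))).IsSubnormal := by
        have := hJ.2.1.comap (Subgroup.inclusion hCN)
        convert this using 1
        ext x
        constructor
        · rintro ⟨y, hy, hyx⟩
          have e : y = Subgroup.inclusion hCN x := Subtype.ext hyx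
          show Subgroup.inclusion hCN x ∈ J
          exact e ▸ hy
        · exact fun hx => ⟨_, hx, rfl⟩
      have h2 : ((centralizer ((R ⊔ pCore p G : Subgroup G) : Set G)).subgroupOf M).IsSubnormal :=
        ((normal_subgroupOf_iff_le_normalizer (centralizer_le_normalizer _)).mpr
          (Coprime.le_normalizer_centralizer le_rfl)).isSubnormal
      refine Subgroup.IsSubnormal.trans (fun x hx => hJC hx) ?_ h2
      exact h1.comap ((subgroupOfEquivOfLe (centralizer_le_normalizer
        ((R ⊔ pCore p G : Subgroup G) : Set G))).toMonoidHom)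
    -- a surjection between the two images with the same kernel on `J`
    let ι : ↥J →* ↥M := ((normalizer (R : Set G)).subtype.comp J.subtype).codRestrict M fun x => hJM ⟨(x : ↥(normalizer (R : Set G))), x.2, rfl⟩
    set f1 : ↥J →* ↥(normalizer (R : Set G)) ⧸ pPrimeCore p ↥(normalizer (R : Set G)) := (QuotientGroup.mk' _).comp J.subtype with hf1
    set f2 : ↥J →* ↥M ⧸ pPrimeCore p ↥M := (QuotientGroup.mk' _).comp ι with hf2
    have hk : f1.ker = f2.ker := by
      rw [hf1, hf2, ← MonoidHom.comap_ker, ← MonoidHom.comap_ker, QuotientGroup.ker_mk',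
        QuotientGroup.ker_mk']
      refine le_antisymm ?_ ?_
      · intro x hx
        have h1 : (((x : ↥(normalizer (R : Set G)))) : G) ∈ cCore p (R ⊔ pCore p G) :=
          cCore_le_cCore_sup_pCore hR (pPrimeCore_normalizer_le_cCore hR ⟨(x : ↥(normalizer (R : Set G))), hx, rfl⟩)
        have h3 : ((cCore p (R ⊔ pCore p G)).subgroupOf M) ≤ pPrimeCore p ↥M := by
          haveI := (normal_subgroupOf_iff_le_normalizer
            ((cCore_le (p := p) (R ⊔ pCore p G)).trans (centralizer_le_normalizer _))).mpr
            (normalizer_le_normalizer_cCore (p := p) (R ⊔ pCore p G))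
          refine Core.le_pPrimeCore ?_
          rw [Nat.card_congr (subgroupOfEquivOfLe ((cCore_le (p := p) (R ⊔ pCore p G)).trans
            (centralizer_le_normalizer _))).toEquiv]
          exact coprime_card_cCore _
        exact h3 (show ι x ∈ (cCore p (R ⊔ pCore p G)).subgroupOf M from h1)
      · intro x hx
        -- the preimage is a subnormal `p'`-subgroup of `N(R)`
        have hsn : (((pPrimeCore p ↥M).comap ι).map J.subtype).IsSubnormal :=
          (Subgroup.Normal.isSubnormal inferInstance).trans' hJ.2.1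
        refine subnormal_le_pPrimeCore hsn ?_ ⟨x, hx, rfl⟩
        rw [card_map_of_injective J.subtype_injective]
        refine (Core.coprime_card_pPrimeCore (p := p) (G := ↥M)).coprime_dvd_left ?_
        rw [← card_map_of_injective (f := ι) (K := (pPrimeCore p ↥M).comap ι)]
        · exact card_dvd_of_le (map_comap_le ι _)
        · intro a b hab
          exact Subtype.ext (Subtype.ext (congrArg (fun z : ↥M => (z : G)) hab))
    have hr1 : f1.range = J.map (QuotientGroup.mk' (pPrimeCore p ↥(normalizer (R : Set G)))) := by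
      rw [hf1, MonoidHom.range_comp, range_subtype]
    have hr2 : f2.range = (J'.subgroupOf M).map (QuotientGroup.mk' (pPrimeCore p ↥M)) := by
      rw [hf2, MonoidHom.range_comp]
      congr 1
      ext y
      constructor
      · rintro ⟨x, rfl⟩
        exact ⟨(x : ↥(normalizer (R : Set G))), x.2, rfl⟩
      · rintro ⟨x, hx, hxy⟩
        exact ⟨⟨x, hx⟩, Subtype.ext hxy⟩
    rw [← hr2]
    have hq := hJ.2.2.2
    rw [← hr1] at hq
    exact isQuasisimple_congr ((QuotientGroup.quotientKerEquivRange f1).symm.trans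
      ((QuotientGroup.quotientMulEquivOfEq hk).trans (QuotientGroup.quotientKerEquivRange f2))) hq

theorem pCompLike_fixes_orbit [Finite G] [hp : Fact p.Prime] (hO : pPrimeCore p G = ⊥)
    {R : Subgroup G} (hR : IsPGroup p R) (hRO : pCore p G ≤ R)
    {J : Subgroup ↥(normalizer (R : Set G))} (hJ : IsPCompLike p J) {L : Subgroup G}
    (hL : IsComponent L) {g : ↥(normalizer (R : Set G))} (hg : g ∈ J) :
    ∃ r ∈ R, L.map (MulAut.conj (g : G)).toMonoidHom = L.map (MulAut.conj r).toMonoidHom := by
  set U := (layer G).subgroupOf (normalizer (R : Set G)) with hU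
  rcases component_le_or_commute hJ.2.2
    ((Subgroup.Normal.isSubnormal (inferInstance : U.Normal)).quotient
      (K := pPrimeCore p ↥(normalizer (R : Set G)))) with hcase | hcase
  · refine ⟨1, R.one_mem, ?_⟩
    rw [map_conj_one, map_conj_zpow_fix]
    rw [map_le_iff_le_comap, comap_map_eq, QuotientGroup.ker_mk'] at hcase
    have hle : (U ⊔ pPrimeCore p ↥(normalizer (R : Set G))).map (normalizer (R : Set G)).subtype ≤
        normalizer (L : Set G) := by
      rw [Subgroup.map_sup]
      refine sup_le ?_ ?_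
      · exact (map_comap_le _ _).trans (layer_le_normalizer_component hL)
      · exact (pPrimeCore_normalizer_le_cCore hR).trans (cCore_le_normalizer_component hO hR hL)
    exact hle ⟨g, hcase hg, rfl⟩
  · rw [← map_commutator, Subgroup.map_eq_bot_iff, QuotientGroup.ker_mk'] at hcase
    let s : Set (Subgroup G) := {K | ∃ r ∈ R, K = L.map (MulAut.conj r).toMonoidHom}
    have hs : ∀ K ∈ s, IsComponent K := by
      rintro K ⟨r, _, rfl⟩
      exact isComponent_map_conj hL r
    have hLs : L ∈ s := ⟨1, R.one_mem, (map_conj_one L).symm⟩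
    have hinv : R ≤ normalizer ((sSup s : Subgroup G) : Set G) := by
      intro r hr
      refine mem_normalizer_of_conj_mem fun x hx => ?_
      have : sSup s ≤ (sSup s).comap (MulAut.conj r).toMonoidHom := by
        refine sSup_le ?_
        rintro K ⟨t, ht, rfl⟩
        rw [← map_le_iff_le_comap, map_conj_map_conj]
        exact le_sSup ⟨r * t, mul_mem hr ht, rfl⟩
      exact this hx
    have hgR : ∀ r ∈ R, (g : G) * r = r * g := fun r hr =>
      (mem_centralizer_iff.mp ((pCompLike_le_centralizers hR hJ) ⟨g, hg, rfl⟩).1 r hr).symm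
    by_contra hmem
    push Not at hmem
    obtain ⟨y, hy, hyN, ⟨k, hk⟩, hyc⟩ := exists_pElem_normalizing hO hR hRO hs hLs hinv
    have hyd : (g : G) * y * (g : G)⁻¹ ∈ (sSup s).map (MulAut.conj (g : G)).toMonoidHom := ⟨y, hy, rfl⟩
    have hcomm : ⁅sSup s, (sSup s).map (MulAut.conj (g : G)).toMonoidHom⁆ = ⊥ := by
      rw [sSup_eq_iSup, Subgroup.map_iSup, commutator_eq_bot_iff_le_centralizer]
      simp only [Subgroup.map_iSup]
      refine iSup₂_le fun K hK => ?_
      rw [le_centralizer_iff]
      refine iSup₂_le fun K' hK' => ?_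
      rw [le_centralizer_iff, ← commutator_eq_bot_iff_le_centralizer]
      refine components_commute (hs K hK) (isComponent_map_conj (hs K' hK') _) fun he => ?_
      obtain ⟨t, ht, rfl⟩ := hK'
      obtain ⟨r, hr, rfl⟩ := hK
      refine hmem (t⁻¹ * r) (mul_mem (inv_mem ht) hr) ?_
      rw [map_conj_map_conj, hgR t ht] at he
      rw [← map_conj_map_conj L r t⁻¹, he, map_conj_map_conj, ← mul_assoc, inv_mul_cancel, one_mul]
    have hyU : (⟨y, hyN⟩ : ↥(normalizer (R : Set G))) ∈ U :=
      (sSup_le fun K hK => component_le_layer (hs K hK) : sSup s ≤ layer G) hy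
    have hc : ⁅g, (⟨y, hyN⟩ : ↥(normalizer (R : Set G)))⁆ ∈ pPrimeCore p ↥(normalizer (R : Set G)) :=
      hcase (commutator_mem_commutator hg hyU)
    have hc' : (g : G) * y * (g : G)⁻¹ * y⁻¹ ∈ cCore p R :=
      pPrimeCore_normalizer_le_cCore hR ⟨_, hc, rfl⟩
    have hcom : Commute ((g : G) * y * (g : G)⁻¹) y⁻¹ :=
      (commute_of_commutator_eq_bot hcomm (inv_mem hy) hyd).symm
    have hpow : ((g : G) * y * (g : G)⁻¹ * y⁻¹) ^ p ^ k = 1 := by
      rw [hcom.mul_pow, conj_pow, hk, mul_one, mul_inv_cancel, one_mul, inv_pow, hk, inv_one]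
    have h1 : (g : G) * y * (g : G)⁻¹ * y⁻¹ = 1 :=
      orderOf_eq_one_iff.mp (Nat.eq_one_of_dvd_coprimes ((coprime_card_cCore R).pow_right k)
        (orderOf_dvd_natCard (cCore p R) hc') (orderOf_dvd_of_pow_eq_one hpow))
    rw [mul_inv_eq_one.mp h1] at hyd
    exact hyc (commutator_eq_bot_iff_le_centralizer.mp (commutator_eq_bot_symm hcomm) hyd)

theorem pCompLike_le_normalizer_component [Finite G] [hp : Fact p.Prime] (hO : pPrimeCore p G = ⊥)
    {R : Subgroup G} (hR : IsPGroup p R) {J : Subgroup ↥(normalizer (R : Set G))}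
    (hJ : IsPCompLike p J) {L : Subgroup G} (hL : IsComponent L) :
    J.map (normalizer (R : Set G)).subtype ≤ normalizer (L : Set G) := by
  set J' := J.map (normalizer (R : Set G)).subtype with hJ'
  have hR1 : IsPGroup p ↥(R ⊔ pCore p G) := hR.to_sup_of_normal_right Core.pCore_isPGroup
  have hJM : J' ≤ normalizer ((R ⊔ pCore p G : Subgroup G) : Set G) := by
    refine le_trans ?_ (centralizer_le_normalizer _)
    rw [le_centralizer_iff]
    exact sup_le (le_centralizer_iff.mp ((pCompLike_le_centralizers hR hJ).trans inf_le_left))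
      (le_centralizer_iff.mp ((pCompLike_le_centralizers hR hJ).trans inf_le_right))
  have hJC : J' ≤ centralizer ((R ⊔ pCore p G : Subgroup G) : Set G) := by
    rw [le_centralizer_iff]
    exact sup_le (le_centralizer_iff.mp ((pCompLike_le_centralizers hR hJ).trans inf_le_left))
      (le_centralizer_iff.mp ((pCompLike_le_centralizers hR hJ).trans inf_le_right))
  have horb : ∀ g ∈ J', ∃ r ∈ R ⊔ pCore p G,
      L.map (MulAut.conj g).toMonoidHom = L.map (MulAut.conj r).toMonoidHom := fun g hg =>
    pCompLike_fixes_orbit hO hR1 le_sup_right (pCompLike_enlarge hR hJ) hL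
      (g := ⟨g, hJM hg⟩) hg
  have hcomm : ∀ g ∈ J', ∀ r ∈ R ⊔ pCore p G, g * r = r * g := fun g hg r hr =>
    (mem_centralizer_iff.mp (hJC hg) r hr).symm
  haveI : Group.IsPerfect ↥J' := Subgroup.isPerfect_iff.mpr (by rw [hJ', ← map_commutator, hJ.1])
  haveI : ((normalizer (L : Set G)).subgroupOf J').Normal := by
    refine ⟨fun x hx h => ?_⟩
    show (h : G) * x * (h : G)⁻¹ ∈ normalizer (L : Set G)
    obtain ⟨r, hr, hrL⟩ := horb _ (inv_mem h.2)
    rw [← map_conj_zpow_fix]
    have hxL : L.map (MulAut.conj (x : G)).toMonoidHom = L := map_conj_zpow_fix.mpr hx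
    rw [← map_conj_map_conj L (h : G)⁻¹ ((h : G) * x), hrL, map_conj_map_conj,
      show (h : G) * x * r = r * ((h : G) * x) by
        rw [mul_assoc, hcomm x x.2 r hr, ← mul_assoc, hcomm h h.2 r hr, mul_assoc],
      ← map_conj_map_conj L ((h : G) * x) r, ← map_conj_map_conj L (x : G) (h : G), hxL,
      map_conj_map_conj, show r * (h : G) = (h : G) * r from (hcomm h h.2 r hr).symm,
      ← map_conj_map_conj L r (h : G), ← hrL, map_conj_map_conj, mul_inv_cancel, map_conj_one]
  have htop : (normalizer (L : Set G)).subgroupOf J' = ⊤ := by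
    refine eq_top_of_perfect_pow_mem (p := p) fun x => ?_
    obtain ⟨r, hr, hrL⟩ := horb x x.2
    obtain ⟨k, hk⟩ := hR1 ⟨r, hr⟩
    refine ⟨k, ?_⟩
    show ((x ^ p ^ k : ↥J') : G) ∈ normalizer (L : Set G)
    rw [SubmonoidClass.coe_pow, ← map_conj_zpow_fix]
    have key : ∀ n : ℕ, L.map (MulAut.conj ((x : G) ^ n)).toMonoidHom =
        L.map (MulAut.conj (r ^ n)).toMonoidHom := by
      intro n
      induction n with
      | zero => simp
      | succ n ih =>
        rw [pow_succ', ← map_conj_map_conj, ih, map_conj_map_conj,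
          show (x : G) * r ^ n = r ^ n * x from
            (Commute.pow_right (hcomm x x.2 r hr : Commute (x : G) r) n).eq,
          ← map_conj_map_conj, hrL, map_conj_map_conj, ← pow_succ]
    rw [key, show r ^ p ^ k = 1 by simpa using congrArg Subtype.val hk, map_conj_one]
  exact subgroupOf_eq_top.mp htop

/-- Elements inducing inner automorphisms on every component lie in `E(G) · C(E(G))`. -/
theorem exists_layer_mul [Finite G] {g : G} {s : Set (Subgroup G)} (hs : ∀ L ∈ s, IsComponent L)
    (h : ∀ L ∈ s, ∃ l ∈ L, l⁻¹ * g ∈ centralizer (L : Set G)) :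
    ∃ e ∈ layer G, e⁻¹ * g ∈ centralizer ((sSup s : Subgroup G) : Set G) := by
  induction s, Set.toFinite s using Set.Finite.induction_on with
  | empty => exact ⟨1, one_mem _, by simp [mem_centralizer_iff]⟩
  | @insert a t hat _ ih =>
    obtain ⟨e, he, hec⟩ := ih (fun L hL => hs L (Set.mem_insert_of_mem _ hL))
      (fun L hL => h L (Set.mem_insert_of_mem _ hL))
    have ha : IsComponent a := hs a (Set.mem_insert _ _)
    obtain ⟨l₀, hl₀, hl₀c⟩ := h a (Set.mem_insert _ _)
    -- decompose `e` on `a`
    obtain ⟨m, hm, hmc⟩ : ∃ m ∈ a, m⁻¹ * e⁻¹ ∈ centralizer (a : Set G) := by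
      have hle : layer G ≤ a ⊔ centralizer (a : Set G) := sSup_le fun L hL => by
        rcases eq_or_ne L a with rfl | hne
        · exact le_sup_left
        · exact le_sup_of_le_right
            (commutator_eq_bot_iff_le_centralizer.mp (components_commute hL ha hne))
      have he' : e⁻¹ ∈ ((a ⊔ centralizer (a : Set G) : Subgroup G) : Set G) := hle (inv_mem he)
      rw [coe_mul_of_left_le_normalizer_right _ _
        (Coprime.le_normalizer_centralizer le_normalizer), Set.mem_mul] at he'
      obtain ⟨m, hm, c, hc, hmce⟩ := he'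
      exact ⟨m, hm, by rw [← hmce, inv_mul_cancel_left]; exact hc⟩
    refine ⟨e * (m * l₀), mul_mem he (component_le_layer ha (mul_mem hm hl₀)), ?_⟩
    have hn : m * l₀ ∈ centralizer ((sSup t : Subgroup G) : Set G) := by
      refine le_centralizer_sSup (A := a) (fun L hL => ?_) (mul_mem hm hl₀)
      exact components_commute ha (hs L (Set.mem_insert_of_mem _ hL)) fun h => hat (h ▸ hL)
    rw [sSup_insert, mem_centralizer_iff]
    have hkey : (e * (m * l₀))⁻¹ * g ∈ centralizer (a : Set G) ⊓ centralizer ((sSup t : Subgroup G) : Set G) := by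
      refine mem_inf.mpr ⟨?_, ?_⟩
      · have e1 : (e * (m * l₀))⁻¹ * g = l₀⁻¹ * (m⁻¹ * e⁻¹) * l₀ * (l₀⁻¹ * g) := by group
        rw [e1]
        refine mul_mem ?_ hl₀c
        exact (mem_normalizer_iff''.mp (Coprime.le_normalizer_centralizer le_normalizer hl₀) _).mp hmc
      · rw [show (e * (m * l₀))⁻¹ * g = (m * l₀)⁻¹ * (e⁻¹ * g) by group]
        exact mul_mem (inv_mem hn) hec
    have : a ⊔ sSup t ≤ centralizer ({(e * (m * l₀))⁻¹ * g} : Set G) := by
      refine sup_le ?_ ?_ <;> intro y hy <;> rw [mem_centralizer_singleton_iff]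
      · exact mem_centralizer_iff.mp hkey.1 y hy
      · exact mem_centralizer_iff.mp hkey.2 y hy
    exact fun y hy => mem_centralizer_singleton_iff.mp (this hy)

/-- **L-balance** under the Schreier property, for trivial `p'`-core. -/
theorem pCompLike_le_layer [Finite G] [hp : Fact p.Prime] (hO : pPrimeCore p G = ⊥)
    (hS : ∀ K : Subgroup G, IsComponent K → Group.IsSolvable (Out (↥K ⧸ center ↥K)))
    {R : Subgroup G} (hR : IsPGroup p R) {J : Subgroup ↥(normalizer (R : Set G))}
    (hJ : IsPCompLike p J) : J.map (normalizer (R : Set G)).subtype ≤ layer G := by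
  set J' := J.map (normalizer (R : Set G)).subtype with hJ'
  have hperf : ⁅J', J'⁆ = J' := by rw [hJ', ← map_commutator, hJ.1]
  haveI : Group.IsPerfect ↥J' := Subgroup.isPerfect_iff.mpr hperf
  have hinner : ∀ g ∈ J', ∀ L : Subgroup G, IsComponent L → ∃ l ∈ L, l⁻¹ * g ∈ centralizer (L : Set G) := by
    intro g hg L hL
    have hn := pCompLike_le_normalizer_component hO hR hJ hL
    haveI := hL.2.1
    set f : ↥J' →* Out (↥L ⧸ center ↥L) :=
      (QuotientGroup.mk' (Inn (↥L ⧸ center ↥L))).comp
        ((autQuot ↥L).comp ((autHom L).comp (Subgroup.inclusion hn))) with hf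
    haveI := hS L hL
    haveI : Group.IsPerfect ↥f.range := Group.IsPerfect.ofSurjective f.rangeRestrict_surjective
    have hsub : Subsingleton ↥f.range := by
      rcases subsingleton_or_nontrivial ↥f.range with h | h
      · exact h
      · exact (Group.IsPerfect.not_isSolvable ↥f.range inferInstance).elim
    have h1 : f ⟨g, hg⟩ = 1 :=
      congrArg Subtype.val (hsub.elim (f.rangeRestrict ⟨g, hg⟩) 1)
    rw [hf, MonoidHom.comp_apply, QuotientGroup.mk'_apply, QuotientGroup.eq_one_iff] at h1
    obtain ⟨x, hx⟩ := h1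
    obtain ⟨l, rfl⟩ := QuotientGroup.mk'_surjective (center ↥L) x
    rw [← autQuot_conj] at hx
    have h2 := autQuot_injective ↥L hx
    refine ⟨l, l.2, ?_⟩
    have h3 : autHom L ((⟨(l : G), le_normalizer l.2⟩ : ↥(normalizer (L : Set G)))⁻¹ * ⟨g, hn hg⟩) = 1 := by
      rw [map_mul, map_inv, inv_mul_eq_one]
      refine Eq.trans ?_ h2
      exact MulEquiv.ext fun y => rfl
    exact (autHom_eq_one_iff _).mp h3
  have hmain : J' ≤ layer G ⊔ (fittingSubgroup G ⊓ centralizer (fittingSubgroup G : Set G)) := by
    intro g hg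
    obtain ⟨e, he, hec⟩ := exists_layer_mul (g := g) (s := {L : Subgroup G | IsComponent L})
      (fun L hL => hL) (fun L hL => hinner g hg L hL)
    have hgp : g ∈ centralizer (pCore p G : Set G) := ((pCompLike_le_centralizers hR hJ) hg).2
    rw [← fitting_eq_pCore_of_pPrimeCore_eq_bot hO] at hgp
    have hep : e ∈ centralizer (fittingSubgroup G : Set G) := layer_le_centralizer_fitting he
    have hcF : e⁻¹ * g ∈ centralizer (fittingSubgroup G : Set G) := mul_mem (inv_mem hep) hgp
    set F := generalizedFittingSubgroup G with hFdef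
    have hle : F ≤ centralizer ({e⁻¹ * g} : Set G) := by
      refine sup_le ?_ ?_ <;> intro y hy <;> rw [mem_centralizer_singleton_iff]
      · exact mem_centralizer_iff.mp hec y hy
      · exact mem_centralizer_iff.mp hcF y hy
    have hwC : e⁻¹ * g ∈ centralizer (F : Set G) :=
      mem_centralizer_iff.mpr fun x hx => mem_centralizer_singleton_iff.mp (hle hx)
    have hwF : e⁻¹ * g ∈ F ⊓ centralizer (F : Set G) := ⟨centralizer_generalizedFitting_le hwC, hwC⟩
    haveI : IsMulCommutative ↥(F ⊓ centralizer (F : Set G)) :=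
      le_centralizer_iff_isMulCommutative.mp (inf_le_right.trans (centralizer_le inf_le_left))
    rw [← mul_inv_cancel_left e g]
    exact mul_mem (mem_sup_left he)
      (mem_sup_right ⟨Core.le_fittingSubgroup_of_isMulCommutative hwF, hcF⟩)
  rw [← hperf]
  refine (commutator_mono hmain hmain).trans (le_of_le_of_eq (commutator_le.mpr ?_) rfl)
  intro a ha b hb
  have hdec : ∀ x ∈ layer G ⊔ (fittingSubgroup G ⊓ centralizer (fittingSubgroup G : Set G)),
      ∃ e ∈ layer G, ∃ z ∈ fittingSubgroup G ⊓ centralizer (fittingSubgroup G : Set G), e * z = x := by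
    intro x hx
    have hx' : x ∈ ((layer G ⊔ (fittingSubgroup G ⊓ centralizer (fittingSubgroup G : Set G)) :
      Subgroup G) : Set G) := hx
    rwa [coe_mul_of_left_le_normalizer_right _ _ le_normalizer_of_normal, Set.mem_mul] at hx'
  obtain ⟨e, he, z, hz, rfl⟩ := hdec a ha
  obtain ⟨e', he', z', hz', rfl⟩ := hdec b hb
  have c1 : ∀ y ∈ layer G, ∀ w ∈ fittingSubgroup G, Commute y w := fun y hy w hw =>
    (mem_centralizer_iff.mp (layer_le_centralizer_fitting hy) w hw).symm
  have c2 : Commute z z' := (mem_centralizer_iff.mp hz'.2 z hz.1)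
  have : ⁅e * z, e' * z'⁆ = ⁅e, e'⁆ := by
    rw [commutatorElement_mul_left_eq_conj_mul,
      Commute.commutator_eq (Commute.mul_right (c1 e' he' z hz.1).symm c2), mul_one, mul_inv_cancel,
      one_mul, commutatorElement_mul_right_eq_mul_conj, Commute.commutator_eq (c1 e he z' hz'.1)]
    group
  rw [this]
  exact (layer_perfect (G := G)).le (commutator_mem_commutator he he')

theorem map_mk_normalizer_pCompLike [Finite G] [hp : Fact p.Prime] {R : Subgroup G}
    (hR : IsPGroup p R) {J : Subgroup ↥(normalizer (R : Set G))} (hJ : IsPComponent p J) :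
    ∃ J₁ : Subgroup ↥(normalizer ((R.map (QuotientGroup.mk' (pPrimeCore p G)) :
        Subgroup (G ⧸ pPrimeCore p G)) : Set (G ⧸ pPrimeCore p G))),
      IsPCompLike p J₁ ∧
      (J.map (normalizer (R : Set G)).subtype).map (QuotientGroup.mk' (pPrimeCore p G)) =
        J₁.map (Subgroup.subtype _) := by
  set f := QuotientGroup.mk' (pPrimeCore p G) with hf
  have hker : (Nat.card f.ker).Coprime p := by
    rw [hf, QuotientGroup.ker_mk']
    exact Core.coprime_card_pPrimeCore
  have hNf := map_normalizer_of_coprime (QuotientGroup.mk'_surjective _) hker hR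
  set g : ↥(normalizer (R : Set G)) →* ↥(normalizer ((R.map f : Subgroup (G ⧸ pPrimeCore p G)) : Set (G ⧸ pPrimeCore p G))) :=
    (MulEquiv.subgroupCongr hNf).toMonoidHom.comp (f.subgroupMap _) with hg
  have hgs : Function.Surjective g :=
    (MulEquiv.subgroupCongr hNf).surjective.comp (f.subgroupMap_surjective _)
  have hgker : (Nat.card g.ker).Coprime p := by
    refine hker.coprime_dvd_left ?_
    rw [← card_map_of_injective (Subgroup.subtype_injective _) (K := g.ker)]
    refine card_dvd_of_le ?_
    rintro _ ⟨x, hx, rfl⟩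
    exact congrArg Subtype.val hx
  refine ⟨J.map g, isPCompLike_map hgs hgker (isPCompLike_pComponent hJ), ?_⟩
  rw [Subgroup.map_map, Subgroup.map_map]
  rfl

/-- **L-balance** under the Schreier property. -/
theorem pLayer_normalizer_le [Finite G] [hp : Fact p.Prime]
    (hS : ∀ K : Subgroup (G ⧸ pPrimeCore p G), IsComponent K →
      Group.IsSolvable (Out (↥K ⧸ center ↥K)))
    {R : Subgroup G} (hR : IsPGroup p R) :
    (pLayer p ↥(normalizer (R : Set G))).map (normalizer (R : Set G)).subtype ≤ pLayer p G := by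
  rw [map_le_iff_le_comap]
  refine sSup_le fun J hJ => ?_
  rw [← map_le_iff_le_comap]
  set f := QuotientGroup.mk' (pPrimeCore p G) with hf
  obtain ⟨J₁, hJ₁, heq⟩ := map_mk_normalizer_pCompLike hR hJ
  have h2 : J.map (normalizer (R : Set G)).subtype ≤ pLayer p G ⊔ pPrimeCore p G := by
    have h := (heq.le.trans (pCompLike_le_layer Core.pPrimeCore_quotient_eq_bot hS (hR.map f) hJ₁)).trans
      (map_pLayer (p := p) (G := G)).symm.le
    rwa [map_le_iff_le_comap, comap_map_eq, QuotientGroup.ker_mk'] at h
  have hgen : J.map (normalizer (R : Set G)).subtype ≤ pElemClosure p (pLayer p G ⊔ pPrimeCore p G) := by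
    rw [← eq_pComponentOver hJ, map_le_iff_le_comap]
    refine (closure_le _).mpr ?_
    rintro x ⟨hx, k, hk⟩
    refine pElem_mem_pElemClosure (h2 ⟨x, ?_, rfl⟩) (k := k) ?_
    · exact (eq_pComponentOver hJ).le (subset_closure ⟨hx, k, hk⟩)
    · simpa using congrArg Subtype.val hk
  exact hgen.trans (pElemClosure_le_of_cover Core.coprime_card_pPrimeCore
    (isSubnormal_sSup fun K hK => hK.1) le_rfl)

end Cfsg.Agent.Layer
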