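import Cfsg.Agent.Layer.PComponent

/-!
Components and characteristic-`p` property of local subgroups.
-/

set_option autoImplicit false
set_option linter.style.haveILetI false

namespace Cfsg.Agent.Layer

open Subgroup Cfsg

universe u

variable {G : Type u} [Group G] {p : ℕ}

/-- A perfect subgroup that normalises `R` and whose `p'`-elements centralise `R` centralises `R`. -/
theorem perfect_le_centralizer_of_pPrime_elems [Finite G] [hp : Fact p.Prime] {L R : Subgroup G}
    (hperf : ⁅L, L⁆ = L) (hLR : L ≤ normalizer (R : Set G))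
    (h : ∀ q ∈ L, (orderOf q).Coprime p → q ∈ centralizer (R : Set G)) :
    L ≤ centralizer (R : Set G) := by
  set S := (centralizer (R : Set G)).subgroupOf L with hS
  haveI : S.Normal := by
    refine ⟨fun x hx l => ?_⟩
    exact (Subgroup.le_normalizer_iff.mp (Coprime.le_normalizer_centralizer hLR)) (l : G) l.2
      (x : G) hx
  haveI : Group.IsPerfect ↥L := Subgroup.isPerfect_iff.mpr hperf
  have hq : IsPGroup p (↥L ⧸ S) := fun x => by
    obtain ⟨x, rfl⟩ := QuotientGroup.mk'_surjective S x
    obtain ⟨k, m, hm, hkm⟩ := Nat.exists_eq_pow_mul_and_not_dvd (orderOf_pos x).ne' p hp.out.ne_one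
    refine ⟨k, ?_⟩
    rw [← map_pow, QuotientGroup.mk'_apply, QuotientGroup.eq_one_iff]
    refine h _ (x ^ p ^ k).2 ?_
    change (orderOf ((L.subtype) (x ^ p ^ k))).Coprime p
    rw [orderOf_injective L.subtype L.subtype_injective]
    have hord : orderOf (x ^ p ^ k) = m := by
      rw [orderOf_pow_of_dvd (pow_ne_zero _ hp.out.ne_zero) (hkm ▸ dvd_mul_right _ _), hkm,
        Nat.mul_div_cancel_left _ (pow_pos hp.out.pos k)]
    rw [hord]
    exact ((hp.out.coprime_iff_not_dvd.mpr hm)).symm
  rcases subsingleton_or_nontrivial (↥L ⧸ S) with hs | hs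
  · intro x hx
    exact (QuotientGroup.subgroup_eq_top_of_subsingleton S hs ▸ mem_top (⟨x, hx⟩ : ↥L) : _ ∈ S)
  · haveI := hq.isNilpotent
    exact (Group.IsPerfect.not_isNilpotent (↥L ⧸ S) inferInstance).elim

theorem map_pCore_normal_le_normalizer_inf [Finite G] [Fact p.Prime] {M : Subgroup G}
    {R : Subgroup G} [R.Normal] (hR : IsPGroup p R) : R ⊓ M ≤ (pCore p ↥M).map M.subtype := by
  rw [← subgroupOf_map_subtype]
  exact Subgroup.map_mono (Core.le_pCore (hR.comap_of_injective _ (Subgroup.subtype_injective _)))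

/-- If `P ≤ O_p(G)`, the components of `N_G(P)` are components of `G`. -/
theorem isComponent_of_normalizer [Finite G] [hp : Fact p.Prime] {P : Subgroup G}
    (hP : P ≤ pCore p G) {L : Subgroup ↥(normalizer (P : Set G))} (hL : IsComponent L) :
    IsComponent (L.map (normalizer (P : Set G)).subtype) := by
  set L' := L.map (normalizer (P : Set G)).subtype with hL'
  have hPp : IsPGroup p P := Core.pCore_isPGroup.to_le hP
  have hqs : IsQuasisimple ↥L' := isQuasisimple_congr (equivMapOfInjective L _ (Subgroup.subtype_injective _)) hL.2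
  have hcomm : ∀ x ∈ (pCore p ↥(normalizer (P : Set G))).map (normalizer (P : Set G)).subtype, ∀ l ∈ L', x * l = l * x := by
    rintro _ ⟨x, hx, rfl⟩ _ ⟨l, hl, rfl⟩
    exact congrArg Subtype.val (commute_of_commutator_eq_bot
      (component_commute_subnormal_solvable hL (isSolvable_of_isPGroup Core.pCore_isPGroup)
        Core.pCore_normal.isSubnormal) hl hx).symm
  have hC : L' ≤ centralizer (pCore p G : Set G) := by
    refine perfect_le_centralizer_of_pPrime_elems (p := p) (qs_subgroup_perfect hqs) le_normalizer_of_normal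
      fun q hq hqo => ?_
    have := Coprime.thompson_pxq (P := P) (Q := zpowers q) (U := pCore p G) hPp
      (by rwa [Nat.card_zpowers]) Core.pCore_isPGroup ?_ le_normalizer_of_normal le_normalizer_of_normal ?_
    · exact this (mem_zpowers q)
    · rw [le_centralizer_iff, zpowers_le, mem_centralizer_iff]
      exact fun x hx => hcomm x (le_pCore_normalizer hPp hx) q hq
    · rw [le_centralizer_iff, zpowers_le, mem_centralizer_iff]
      exact fun x hx => hcomm x
        (map_pCore_normal_le_normalizer_inf (p := p) (R := pCore p G) Core.pCore_isPGroup ⟨hx.1, centralizer_le_normalizer _ hx.2⟩) q hq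
  refine ⟨?_, hqs⟩
  have hCM : centralizer (pCore p G : Set G) ≤ normalizer (P : Set G) :=
    (centralizer_le hP).trans (centralizer_le_normalizer _)
  have hsn : (L'.subgroupOf (centralizer (pCore p G : Set G))).IsSubnormal := by
    have := hL.1.comap (Subgroup.inclusion hCM)
    convert this using 1
    ext x
    constructor
    · rintro ⟨y, hy, hyx⟩
      have e : y = Subgroup.inclusion hCM x := Subtype.ext hyx
      show Subgroup.inclusion hCM x ∈ L
      exact e ▸ hy
    · intro hx
      exact ⟨_, hx, rfl⟩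
  exact hsn.trans hC (Subgroup.Normal.isSubnormal inferInstance)

theorem map_layer_normalizer [Finite G] [Fact p.Prime] {P : Subgroup G} (hP : P ≤ pCore p G) :
    (layer ↥(normalizer (P : Set G))).map (normalizer (P : Set G)).subtype = layer G := by
  set M := normalizer (P : Set G) with hM
  refine le_antisymm ?_ ?_
  · rw [map_le_iff_le_comap]
    exact sSup_le fun L hL =>
      map_le_iff_le_comap.mp (component_le_layer (isComponent_of_normalizer hP hL))
  · have h : layer G ≤ centralizer (P : Set G) :=
      (commutator_eq_bot_iff_le_centralizer.mp (layer_commute_of_subnormal_solvable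
        (isSolvable_of_isPGroup Core.pCore_isPGroup) Core.pCore_normal.isSubnormal)).trans
        (centralizer_le hP)
    exact layer_of_subgroup_containing (h.trans (centralizer_le_normalizer _))

/-- If every involution centralizer has characteristic `p`, so does every `p`-local subgroup
(stated for any prime). -/
theorem pCoreSelfCentral_normalizer_of_centralizers [Finite G] [hp : Fact p.Prime]
    (h : ∀ t : G, orderOf t = p → PCoreSelfCentral p ↥(centralizer ({t} : Set G)))
    {T : Subgroup G} (hT : IsPGroup p T) (hT1 : T ≠ ⊥) :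
    PCoreSelfCentral p ↥(normalizer (T : Set G)) := by
  haveI : Nontrivial ↥T := (nontrivial_iff_ne_bot T).mpr hT1
  haveI := hT.center_nontrivial
  obtain ⟨z, hz⟩ := exists_prime_orderOf_dvd_card' p
    ((hT.to_subgroup (center ↥T)).card_eq_or_dvd.resolve_left Finite.one_lt_card.ne')
  set t : G := ((z : ↥T) : G) with ht
  have hto : orderOf t = p := by
    rw [ht, show orderOf ((z : ↥T) : G) = orderOf (z : ↥T) from
      orderOf_injective T.subtype T.subtype_injective _,
      show orderOf (z : ↥T) = orderOf z from orderOf_injective _ (Subgroup.subtype_injective _) _, hz]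
  have htT : ∀ x ∈ T, x * t = t * x := fun x hx =>
    congrArg Subtype.val (mem_center_iff.mp z.2 ⟨x, hx⟩)
  set C := centralizer ({t} : Set G) with hC
  have hTC : T ≤ C := fun x hx => mem_centralizer_singleton_iff.mpr (htT x hx)
  set M := normalizer (T : Set G) with hM
  refine subnormal_le_pCore (Subgroup.Normal.isSubnormal inferInstance) ?_
  by_contra hne
  obtain ⟨q, hq, hq1, hqo⟩ := exists_coprime_orderOf hne
  refine hq1 (Subtype.ext ?_)
  have hqc : ∀ x ∈ (pCore p ↥M).map M.subtype, x * (q : G) = q * x := by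
    rintro _ ⟨y, hy, rfl⟩
    exact congrArg Subtype.val (mem_centralizer_iff.mp hq y hy)
  have hqT : (q : G) ∈ centralizer (T : Set G) :=
    mem_centralizer_iff.mpr fun x hx => hqc x (le_pCore_normalizer hT hx)
  have htmem : t ∈ T := z.1.2
  have hqC : (q : G) ∈ C :=
    mem_centralizer_singleton_iff.mpr (mem_centralizer_iff.mp hqT t htmem).symm
  have h1 : (⟨(q : G), hqC⟩ : ↥C) = 1 := by
    refine eq_one_of_centralizes (h t hto) (P := T.subgroupOf C)
      (hT.comap_of_injective _ C.subtype_injective) ?_ ?_ ?_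
    · rwa [← orderOf_injective C.subtype C.subtype_injective,
        show C.subtype ⟨(q : G), hqC⟩ = M.subtype q from rfl, orderOf_injective M.subtype M.subtype_injective]
    · exact mem_centralizer_iff.mpr fun x hx => Subtype.ext (mem_centralizer_iff.mp hqT (x : G) hx)
    · refine mem_centralizer_iff.mpr fun x hx => Subtype.ext (hqc x ?_)
      set X := (pCore p ↥C ⊓ centralizer (T.subgroupOf C : Set ↥C)).map C.subtype with hX
      have hXZ : X ≤ centralizer (T : Set G) := by
        rintro _ ⟨y, hy, rfl⟩
        exact mem_centralizer_iff.mpr fun a ha =>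
          congrArg Subtype.val (mem_centralizer_iff.mp hy.2 (⟨a, hTC ha⟩ : ↥C) ha)
      have hXn : centralizer (T : Set G) ≤ normalizer (X : Set G) := by
        refine Subgroup.le_normalizer_iff.mpr ?_
        rintro c hc _ ⟨y, hy, rfl⟩
        have hcC : c ∈ C := mem_centralizer_singleton_iff.mpr (mem_centralizer_iff.mp hc t htmem).symm
        refine ⟨⟨c, hcC⟩ * y * ⟨c, hcC⟩⁻¹, ⟨Core.pCore_normal.conj_mem y hy.1 _, ?_⟩, rfl⟩
        have hcc : (⟨c, hcC⟩ : ↥C) ∈ centralizer (T.subgroupOf C : Set ↥C) :=
          mem_centralizer_iff.mpr fun a ha => Subtype.ext (mem_centralizer_iff.mp hc (a : G) ha)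
        exact Subgroup.mul_mem _ (Subgroup.mul_mem _ hcc hy.2) (Subgroup.inv_mem _ hcc)
      have hXp : IsPGroup p ↥X := (Core.pCore_isPGroup.to_le inf_le_left).map _
      have hXM : X ≤ M := hXZ.trans (centralizer_le_normalizer _)
      have hZsn : ((centralizer (T : Set G)).subgroupOf M).IsSubnormal :=
        ((normal_subgroupOf_iff_le_normalizer (centralizer_le_normalizer _)).mpr
          (Coprime.le_normalizer_centralizer le_rfl)).isSubnormal
      have hXsn : (X.subgroupOf M).IsSubnormal := by
        refine Subgroup.IsSubnormal.step _ _ (fun y hy => hXZ hy) hZsn ?_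
        refine ⟨fun y hy c => ?_⟩
        exact (Subgroup.le_normalizer_iff.mp hXn) ((c : ↥M) : G) c.2 _ hy
      exact ⟨⟨(x : G), hXM ⟨x, hx, rfl⟩⟩,
        subnormal_le_pCore hXsn (hXp.comap_of_injective _ M.subtype_injective) ⟨x, hx, rfl⟩, rfl⟩
  exact congrArg (fun y : ↥C => (y : G)) h1

/-- The balance condition for `O_{p'}` of `p`-constrained centralisers. -/
theorem centralizerPPrimeCore_inf_le [Finite G] [hp : Fact p.Prime] {a b : G}
    (hb : IsPConstrained p ↥(centralizer ({b} : Set G))) (hap : ∃ k : ℕ, a ^ p ^ k = 1)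
    (hab : a * b = b * a) :
    centralizerPPrimeCore p a ⊓ centralizer ({b} : Set G) ≤ centralizerPPrimeCore p b := by
  set Ca := centralizer ({a} : Set G) with hCa
  set Cb := centralizer ({b} : Set G) with hCb
  have haCb : a ∈ Cb := mem_centralizer_singleton_iff.mpr hab
  set a' : ↥Cb := ⟨a, haCb⟩ with ha'
  have hP : IsPGroup p ↥(zpowers a') := by
    intro x
    obtain ⟨k, hk⟩ := hap
    refine ⟨k, Subtype.ext ?_⟩
    obtain ⟨i, hi⟩ := mem_zpowers_iff.mp x.2
    rw [SubmonoidClass.coe_pow, ← hi, ← zpow_natCast, ← zpow_mul, mul_comm, zpow_mul, zpow_natCast,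
      show a' ^ p ^ k = 1 from Subtype.ext (by rw [SubmonoidClass.coe_pow]; exact hk), one_zpow]
    rfl
  set C' := centralizer (zpowers a' : Set ↥Cb) with hC'
  have hmem : ∀ x : ↥Cb, x ∈ C' ↔ (x : G) ∈ Ca := fun x => by
    constructor
    · intro hx
      exact mem_centralizer_singleton_iff.mpr
        (congrArg Subtype.val (mem_centralizer_iff.mp hx a' (mem_zpowers a'))).symm
    · intro hx
      refine mem_centralizer_iff.mpr fun y hy => ?_
      obtain ⟨i, rfl⟩ := mem_zpowers_iff.mp hy
      exact (Commute.zpow_left (show Commute a' x from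
        Subtype.ext (mem_centralizer_singleton_iff.mp hx).symm) i).eq
  set D := (centralizerPPrimeCore p a).subgroupOf Cb with hD
  have hDC : D ≤ C' := fun x hx => (hmem x).mpr (map_subtype_le _ hx)
  have hDn : (D.subgroupOf C').Normal := by
    refine ⟨fun x hx c => ?_⟩
    obtain ⟨y, hy, hyx⟩ := (hx : (((x : ↥Cb)) : G) ∈ centralizerPPrimeCore p a)
    refine ⟨⟨((c : ↥Cb) : G), (hmem c).mp c.2⟩ * y * ⟨((c : ↥Cb) : G), (hmem c).mp c.2⟩⁻¹,
      Core.pPrimeCore_normal.conj_mem y hy _, ?_⟩
    simp only [Subgroup.coe_subtype, Subgroup.coe_mul, Subgroup.coe_inv] at hyx ⊢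
    rw [hyx]
  have hcop : (Nat.card (D.subgroupOf C')).Coprime p := by
    rw [Nat.card_congr (subgroupOfEquivOfLe hDC).toEquiv, hD,
      ← card_map_of_injective Cb.subtype_injective, subgroupOf_map_subtype]
    refine Nat.Coprime.coprime_dvd_left (card_dvd_of_le inf_le_left) ?_
    rw [centralizerPPrimeCore, card_map_of_injective Ca.subtype_injective]
    exact Core.coprime_card_pPrimeCore
  intro x hx
  refine ⟨⟨x, hx.2⟩, pPrimeCore_centralizer_le hb hP ⟨⟨⟨x, hx.2⟩, hDC hx.1⟩, ?_, rfl⟩, rfl⟩
  exact Core.le_pPrimeCore hcop (show (⟨x, hx.2⟩ : ↥Cb) ∈ D from hx.1)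

end Cfsg.Agent.Layer
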