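import Cfsg.Agent.Layer.Intrinsic

/-!
Balance for the non-quasisimple part of the `p`-layer.
-/

set_option autoImplicit false
set_option linter.style.haveILetI false

namespace Cfsg.Agent.Layer

open Subgroup Cfsg
open scoped commutatorElement

universe u

variable {G : Type u} [Group G] {p : ℕ}

/-- The hypothesis on sections: the `B_p`-property and the Schreier property, for quotients `S`
of subgroups with trivial `p'`-core. -/
def BalanceHyp (p : ℕ) (X : Type u) [Group X] : Prop :=
  ∀ (S : Type u) [Group S] [Finite S] (H : Subgroup X) (f : ↥H →* S), Function.Surjective f →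
    pPrimeCore p S = ⊥ →
    (HasQuasisimpleGeneralizedFitting S → ∀ y : S, orderOf y = p →
      ∀ J : Subgroup ↥(centralizer ({y} : Set S)), IsPComponent p J → IsQuasisimple ↥J) ∧
    (IsQuasisimple S → Group.IsSolvable (Out (S ⧸ center S)))

theorem balanceHyp_subgroup (h : BalanceHyp p G) (C : Subgroup G) : BalanceHyp p ↥C := by
  intro S _ _ H f hf
  exact h S (H.map C.subtype) (f.comp (equivMapOfInjective H _ C.subtype_injective).symm.toMonoidHom)
    (hf.comp (MulEquiv.surjective _))

theorem balanceHyp_of_surjective {Y : Type u} [Group Y] (h : BalanceHyp p G) {f₀ : G →* Y}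
    (hf₀ : Function.Surjective f₀) : BalanceHyp p Y := by
  intro S _ _ H f hf
  exact h S (H.comap f₀) (f.comp (f₀.subgroupComap H))
    (hf.comp (MonoidHom.subgroupComap_surjective_of_surjective f₀ H hf₀))

theorem center_map_equiv {A B : Type u} [Group A] [Group B] (e : A ≃* B) :
    (center A).map e.toMonoidHom = center B := by
  ext x
  constructor
  · rintro ⟨z, hz, rfl⟩
    rw [mem_center_iff]
    intro y
    obtain ⟨y, rfl⟩ := e.surjective y
    simpa using congrArg e (mem_center_iff.mp hz y)
  · intro hx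
    obtain ⟨z, rfl⟩ := e.surjective x
    exact ⟨z, mem_center_iff.mpr fun y => e.injective (by simpa using mem_center_iff.mp hx (e y)), rfl⟩

theorem isSolvable_out_congr {A B : Type u} [Group A] [Group B] (e : A ≃* B)
    (h : Group.IsSolvable (Out A)) : Group.IsSolvable (Out B) := by
  haveI := h
  have hle : Inn A ≤ (Inn B).comap (MulAut.congr e).toMonoidHom := by
    rintro _ ⟨a, rfl⟩
    refine ⟨e a, MulEquiv.ext fun x => ?_⟩
    simp [MulAut.congr, MulAut.conj_apply]
  refine Group.isSolvable_of_surjective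
    (f := QuotientGroup.map (Inn A) (Inn B) (MulAut.congr e).toMonoidHom hle) fun y => ?_
  obtain ⟨y, rfl⟩ := QuotientGroup.mk'_surjective _ y
  obtain ⟨x, rfl⟩ := (MulAut.congr e).surjective y
  exact ⟨QuotientGroup.mk' _ x, rfl⟩

theorem generalizedFitting_eq_top_of_qs [Finite G] (h : IsQuasisimple G) :
    generalizedFittingSubgroup G = ⊤ := by
  refine top_le_iff.mp (le_trans (component_le_layer ⟨IsSubnormal.top, ?_⟩) layer_le_generalizedFitting)
  exact isQuasisimple_congr topEquiv.symm h

theorem hasQsFitting_congr {A B : Type u} [Group A] [Group B] (e : A ≃* B)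
    (h : HasQuasisimpleGeneralizedFitting A) : HasQuasisimpleGeneralizedFitting B := by
  have h' := isQuasisimple_congr
    (equivMapOfInjective (generalizedFittingSubgroup A) e.toMonoidHom e.injective) h
  exact isQuasisimple_congr (MulEquiv.subgroupCongr (map_generalizedFitting_equiv e)) h'

theorem balanceHyp_of_sections [Finite G] [Fact p.Prime]
    (hB : ∀ (H : Subgroup G) (N : Subgroup ↥H) [N.Normal], HasQuasisimpleGeneralizedFitting (↥H ⧸ N) →
      pPrimeCore p (↥H ⧸ N) = ⊥ → HasBpProperty p (↥H ⧸ N))
    (hS : ∀ (H : Subgroup G) (N : Subgroup ↥H) [N.Normal], HasQuasisimpleGeneralizedFitting (↥H ⧸ N) →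
      pPrimeCore p (↥H ⧸ N) = ⊥ →
        Group.IsSolvable (Out (↥(generalizedFittingSubgroup (↥H ⧸ N)) ⧸
          center ↥(generalizedFittingSubgroup (↥H ⧸ N))))) :
    BalanceHyp p G := by
  intro S _ _ H f hf hO
  let e : ↥H ⧸ f.ker ≃* S := QuotientGroup.quotientKerEquivOfSurjective f hf
  have hO' : pPrimeCore p (↥H ⧸ f.ker) = ⊥ := by
    rw [← Core.map_pPrimeCore e.symm, hO, Subgroup.map_bot]
  constructor
  · intro hq y hy J hJ
    obtain ⟨-, hb⟩ := hB H f.ker (hasQsFitting_congr e.symm hq) hO'
    have hy' : orderOf (e.symm y) = p := by rw [MulEquiv.orderOf_eq, hy]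
    have hmap : (centralizer ({y} : Set S)).map e.symm.toMonoidHom =
        centralizer ({e.symm y} : Set (↥H ⧸ f.ker)) := by
      ext x
      constructor
      · rintro ⟨a, ha, rfl⟩
        rw [mem_centralizer_singleton_iff]
        simpa using congrArg e.symm (mem_centralizer_singleton_iff.mp ha)
      · intro hx
        refine ⟨e x, mem_centralizer_singleton_iff.mpr (e.symm.injective ?_), e.symm_apply_apply x⟩
        simpa using mem_centralizer_singleton_iff.mp hx
    let e' : ↥(centralizer ({y} : Set S)) ≃* ↥(centralizer ({e.symm y} : Set (↥H ⧸ f.ker))) :=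
      (equivMapOfInjective _ e.symm.toMonoidHom e.symm.injective).trans (MulEquiv.subgroupCongr hmap)
    exact isQuasisimple_congr (equivMapOfInjective J e'.toMonoidHom e'.injective).symm
      (hb _ hy' _ (pLayer_characteristic_aux e' hJ))
  · intro hq
    have hq' := isQuasisimple_congr e.symm hq
    have htop := generalizedFitting_eq_top_of_qs hq'
    have hqF : HasQuasisimpleGeneralizedFitting (↥H ⧸ f.ker) :=
      isQuasisimple_congr (topEquiv.symm.trans (MulEquiv.subgroupCongr htop.symm)) hq'
    let ε : ↥(generalizedFittingSubgroup (↥H ⧸ f.ker)) ≃* S :=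
      (MulEquiv.subgroupCongr htop).trans (topEquiv.trans e)
    exact isSolvable_out_congr (QuotientGroup.congr _ _ ε (center_map_equiv ε))
      (hS H f.ker hqF hO')

/-- The components of `G` which are not in the `p'`-core. -/
def corelessComponents (p : ℕ) (G : Type u) [Group G] : Set (Subgroup G) :=
  {K | IsComponent K ∧ ¬ K ≤ pPrimeCore p G}

theorem sSup_corelessComponents_normal [Finite G] :
    (sSup (corelessComponents p G)).Normal := by
  refine normal_sSup_of_conj fun K hK g => ⟨isComponent_map_conj hK.1 g, fun h => hK.2 ?_⟩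
  have := map_mono (f := (MulAut.conj g⁻¹).toMonoidHom) h
  rwa [map_conj_map_conj, inv_mul_cancel, map_conj_one, map_conj_eq_of_normal] at this

theorem pComponent_centralizes_coreless [Finite G] [Fact p.Prime] {L K : Subgroup G}
    (hL : IsPComponent p L) (hK : K ∈ corelessComponents p G) (hne : L ≠ K) :
    L ≤ centralizer (K : Set G) := by
  rcases component_le_or_commute hK.1 hL.1 with h | h
  · refine absurd ?_ hne
    have hKp := isPComponent_component hK.1 hK.2
    exact (pComponent_ext hKp hL (component_eq_of_le hKp.2.1 hL.2.1 (map_mono h))).symm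
  · exact commutator_eq_bot_iff_le_centralizer.mp (commutator_eq_bot_symm h)

theorem pLayer_le_sup_centralizer [Finite G] [Fact p.Prime] {K : Subgroup G}
    (hK : K ∈ corelessComponents p G) : pLayer p G ≤ K ⊔ centralizer (K : Set G) := by
  refine sSup_le fun L hL => ?_
  rcases eq_or_ne L K with rfl | hne
  · exact le_sup_left
  · exact le_sup_of_le_right (pComponent_centralizes_coreless hL hK hne)

theorem sSup_coreless_le_pLayer [Finite G] [Fact p.Prime] :
    sSup (corelessComponents p G) ≤ pLayer p G :=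
  sSup_le fun _ hK => pComponent_le_pLayer (isPComponent_component hK.1 hK.2)

theorem pLayer_le_nonQs_sup [Finite G] [Fact p.Prime] :
    pLayer p G ≤ nonQuasisimplePLayer p G ⊔ sSup (corelessComponents p G) := by
  refine sSup_le fun L hL => ?_
  by_cases hq : IsQuasisimple ↥L
  · exact le_sup_of_le_right (le_sSup ⟨⟨hL.1, hq⟩, pComponent_not_le_pPrimeCore hL⟩)
  · refine le_sup_of_le_left ?_
    exact le_iSup (fun K : {K : Subgroup G // IsPComponent p K ∧ ¬ IsQuasisimple ↥K} => (K : Subgroup G))
      ⟨L, hL, hq⟩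

theorem nonQs_centralizes_coreless [Finite G] [Fact p.Prime] :
    nonQuasisimplePLayer p G ≤ centralizer ((sSup (corelessComponents p G) : Subgroup G) : Set G) := by
  refine iSup_le fun L => ?_
  refine le_centralizer_iff.mp (sSup_le fun K hK => le_centralizer_iff.mp ?_)
  exact pComponent_centralizes_coreless L.2.1 hK fun h => L.2.2 (h ▸ hK.1.2)

theorem le_nonQs_of_centralizes [Finite G] [Fact p.Prime] {J : Subgroup G} (hJ : ⁅J, J⁆ = J)
    (hle : J ≤ pLayer p G)
    (hc : J ≤ centralizer ((sSup (corelessComponents p G) : Subgroup G) : Set G)) :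
    J ≤ nonQuasisimplePLayer p G := by
  set B := nonQuasisimplePLayer p G with hBd
  set E := sSup (corelessComponents p G) with hE
  haveI : E.Normal := sSup_corelessComponents_normal
  refine perfect_le_of_le_sup hJ (Z := E ⊓ centralizer (E : Set G)) ?_ ?_ ?_
  · exact le_centralizer_iff.mp (nonQs_centralizes_coreless.trans (centralizer_le inf_le_left))
  · exact inf_le_right.trans (centralizer_le inf_le_left)
  · intro g hg
    have hg' : g ∈ ((B ⊔ E : Subgroup G) : Set G) := pLayer_le_nonQs_sup (hle hg)
    rw [coe_mul_of_left_le_normalizer_right _ _ le_normalizer_of_normal, Set.mem_mul] at hg'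
    obtain ⟨b, hb, e, he, rfl⟩ := hg'
    refine mul_mem_sup hb (mem_inf.mpr ⟨he, ?_⟩)
    rw [← inv_mul_cancel_left b e]
    exact mul_mem (inv_mem (nonQs_centralizes_coreless hb)) (hc hg)

/-- The quotient of `N(K)` by `C(K)` for a component `K` outside the `p'`-core. -/
theorem component_autQuotient [Finite G] [hp : Fact p.Prime] {K : Subgroup G}
    (hK : K ∈ corelessComponents p G) {S : Type u} [Group S] [Finite S]
    {π : ↥(normalizer (K : Set G)) →* S} (hπ : Function.Surjective π)
    (hker : π.ker = (centralizer (K : Set G)).subgroupOf (normalizer (K : Set G))) :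
    IsComponent ((K.subgroupOf (normalizer (K : Set G))).map π) ∧
    centralizer (((K.subgroupOf (normalizer (K : Set G))).map π : Subgroup S) : Set S) = ⊥ ∧
    IsSimpleGroup ↥((K.subgroupOf (normalizer (K : Set G))).map π) ∧
    pPrimeCore p S = ⊥ ∧ HasQuasisimpleGeneralizedFitting S := by
  set Kb := (K.subgroupOf (normalizer (K : Set G))).map π with hKb
  have hKN : K ≤ normalizer (K : Set G) := le_normalizer
  haveI : (K.subgroupOf (normalizer (K : Set G))).Normal := (normal_subgroupOf_iff_le_normalizer hKN).mpr le_rfl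
  haveI hKbn : Kb.Normal := Subgroup.Normal.map inferInstance π hπ
  have hcent : centralizer ((Kb : Subgroup S) : Set S) = ⊥ := by
    rw [eq_bot_iff]
    intro s hs
    obtain ⟨n, rfl⟩ := hπ s
    rw [mem_bot, ← MonoidHom.mem_ker, hker]
    refine mem_centralizer_of_commutator_central (qs_subgroup_perfect hK.1.2) fun k hk => mem_inf.mpr ⟨?_, ?_⟩
    · exact mul_mem ((mem_normalizer_iff.mp n.2 k).mp hk) (inv_mem hk)
    · have h1 : π ⁅n, (⟨k, hKN hk⟩ : ↥(normalizer (K : Set G)))⁆ = 1 := by
        rw [map_commutatorElement, commutatorElement_eq_one_iff_mul_comm]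
        exact (mem_centralizer_iff.mp hs _ (mem_map_of_mem π (show (⟨k, hKN hk⟩ : ↥(normalizer (K : Set G))) ∈ K.subgroupOf (normalizer (K : Set G)) from hk))).symm
      rw [← MonoidHom.mem_ker, hker] at h1
      exact h1
  have hdvd : p ∣ Nat.card ↥Kb := by
    by_contra hnd
    set gK := (π.comp (inclusion hKN)) with hgK
    have hrange : gK.range = Kb := by
      rw [hgK, MonoidHom.range_comp, hKb]
      congr 1
      ext x
      exact ⟨fun ⟨y, hy⟩ => hy ▸ y.2, fun hx => ⟨⟨x, hx⟩, rfl⟩⟩
    have hcz : gK.ker ≤ center ↥K := fun x hx => mem_center_iff.mpr fun y => Subtype.ext (by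
      have hx' : inclusion hKN x ∈ π.ker := hx
      rw [hker] at hx'
      exact mem_centralizer_iff.mp hx' y y.2)
    have hKp := isPComponent_component hK.1 hK.2
    haveI : gK.ker.Normal := gK.normal_ker
    have htop : gK.ker = ⊤ := pComponent_normal_eq_top hKp (by
      rw [index_ker, hrange]
      exact (hp.out.coprime_iff_not_dvd.mpr hnd).symm)
    exact qs_center_ne_top hK.1.2 (top_le_iff.mp (htop ▸ hcz))
  haveI hKbnt : Nontrivial ↥Kb := by
    rw [nontrivial_iff_ne_bot]
    intro h
    rw [h, Subgroup.card_bot] at hdvd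
    exact hp.out.not_dvd_one hdvd
  have hq : IsQuasisimple ↥Kb :=
    qs_of_surjective (isQuasisimple_congr (subgroupOfEquivOfLe hKN).symm hK.1.2) _
      (π.subgroupMap_surjective _)
  have hcomp : IsComponent Kb := ⟨hKbn.isSubnormal, hq⟩
  have hsimple : IsSimpleGroup ↥Kb := by
    refine ⟨fun M hM => ?_⟩
    rcases qs_normal_cases hq hM with h | h
    · exact Or.inr h
    · left
      rw [eq_bot_iff]
      intro x hx
      have h2 : (x : S) ∈ centralizer ((Kb : Subgroup S) : Set S) :=
        ((mem_map_center_iff Kb).mp (mem_map_of_mem Kb.subtype (h hx))).2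
      rw [hcent] at h2
      exact mem_bot.mpr (Subtype.ext (mem_bot.mp h2))
  have hO : pPrimeCore p S = ⊥ := by
    have h1 : pPrimeCore p S ⊓ Kb = ⊥ := by
      rcases hsimple.eq_bot_or_eq_top_of_normal ((pPrimeCore p S).subgroupOf Kb) inferInstance with h | h
      · rw [← subgroupOf_map_subtype, h, Subgroup.map_bot]
      · exact absurd (hdvd.trans (card_dvd_of_le (subgroupOf_eq_top.mp h))) Core.not_dvd_card_pPrimeCore
    rw [← le_bot_iff, ← hcent, ← commutator_eq_bot_iff_le_centralizer, ← le_bot_iff, ← h1]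
    exact commutator_le_inf _ _
  refine ⟨hcomp, hcent, hsimple, hO, ?_⟩
  have hlayer : layer S = Kb := by
    refine le_antisymm (sSup_le fun L hL => ?_) (component_le_layer hcomp)
    rcases eq_or_ne L Kb with rfl | hne
    · exact le_rfl
    · exact absurd (le_bot_iff.mp (hcent ▸ commutator_eq_bot_iff_le_centralizer.mp
        (components_commute hL hcomp hne))) (qs_subgroup_ne_bot hL.2)
  have hF : fittingSubgroup S = ⊥ := by
    rw [← le_bot_iff, ← hcent, ← hlayer]
    exact fitting_le_centralizer_layer
  show IsQuasisimple ↥(generalizedFittingSubgroup S)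
  refine isQuasisimple_congr (MulEquiv.subgroupCongr ?_) hq
  rw [generalizedFittingSubgroup, hF, sup_bot_eq, hlayer]

theorem commute_mul_pow {k z : G} : ∀ n : ℕ,
    (∀ i, i < n → Commute k (z ^ i * k * (z ^ i)⁻¹)) → Commute k ((k * z) ^ n * (z ^ n)⁻¹)
  | 0, _ => by simp
  | n + 1, h => by
    have e : (k * z) ^ (n + 1) * (z ^ (n + 1))⁻¹ =
        ((k * z) ^ n * (z ^ n)⁻¹) * (z ^ n * k * (z ^ n)⁻¹) := by
      rw [pow_succ (k * z), pow_succ z]
      group
    rw [e]
    exact (commute_mul_pow n fun i hi => h i (Nat.lt_succ_of_lt hi)).mul_right (h n (Nat.lt_succ_self n))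

theorem mul_pow_mem {k z : G} {D : Subgroup G} : ∀ n : ℕ,
    (∀ i, i < n → z ^ i * k * (z ^ i)⁻¹ ∈ D) → (k * z) ^ n * (z ^ n)⁻¹ ∈ D
  | 0, _ => by simp
  | n + 1, h => by
    have e : (k * z) ^ (n + 1) * (z ^ (n + 1))⁻¹ =
        ((k * z) ^ n * (z ^ n)⁻¹) * (z ^ n * k * (z ^ n)⁻¹) := by
      rw [pow_succ (k * z), pow_succ z]
      group
    rw [e]
    exact mul_mem (mul_pow_mem n fun i hi => h i (Nat.lt_succ_of_lt hi)) (h n (Nat.lt_succ_self n))

/-- A moved component: every inner automorphism of it is induced from the centraliser of `z`. -/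
theorem exists_fixed_of_moved [Finite G] [hp : Fact p.Prime] {K : Subgroup G}
    (hK : K ∈ corelessComponents p G) {z : G} (hz : orderOf z = p)
    (hmove : z ∉ normalizer (K : Set G)) {k : G} (hk : k ∈ K) :
    ∃ u ∈ sSup (corelessComponents p G) ⊓ centralizer ({z} : Set G),
      k⁻¹ * u ∈ centralizer (K : Set G) := by
  set E := sSup (corelessComponents p G) with hE
  haveI : E.Normal := sSup_corelessComponents_normal
  have hzp : z ^ p = 1 := hz ▸ pow_orderOf_eq_one z
  have hne : ∀ i, 0 < i → i < p → z ^ i * k * (z ^ i)⁻¹ ∈ centralizer (K : Set G) := by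
    intro i hi0 hip
    have hmem : z ^ i * k * (z ^ i)⁻¹ ∈ K.map (MulAut.conj (z ^ i)).toMonoidHom := ⟨k, hk, rfl⟩
    refine commutator_eq_bot_iff_le_centralizer.mp ?_ hmem
    refine components_commute (isComponent_map_conj hK.1 _) hK.1 fun h => hmove ?_
    obtain ⟨m, -, hm⟩ := Nat.exists_mul_mod_eq_gcd (n := i) (k := p)
      (by rw [(Nat.coprime_of_lt_prime hi0.ne' hip hp.out).symm.gcd_eq_one]; exact hp.out.one_lt)
    rw [(Nat.coprime_of_lt_prime hi0.ne' hip hp.out).symm.gcd_eq_one] at hm
    have hzz : z = (z ^ i) ^ m := by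
      rw [← pow_mul, ← Nat.mod_add_div (i * m) p, hm, pow_add, pow_mul, hzp, one_pow, mul_one, pow_one]
    rw [hzz]
    exact pow_mem (map_conj_zpow_fix.mp h) m
  have hcomm : ∀ i, i < p → Commute k (z ^ i * k * (z ^ i)⁻¹) := by
    intro i hip
    rcases Nat.eq_zero_or_pos i with rfl | hi0
    · simp
    · exact mem_centralizer_iff.mp (hne i hi0 hip) k hk
  set u := (k * z) ^ p * (z ^ p)⁻¹ with hu
  have huE : u ∈ E := mul_pow_mem p fun i _ =>
    Subgroup.Normal.conj_mem inferInstance k (le_sSup hK hk) _
  have huk : Commute k u := commute_mul_pow p hcomm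
  have hu' : u = (k * z) ^ p := by rw [hu, hzp, inv_one, mul_one]
  have huz : Commute z u := by
    have h1 : Commute (k * z) u := hu' ▸ Commute.self_pow (k * z) p
    have h2 := huk.inv_left.mul_left h1
    rwa [inv_mul_cancel_left] at h2
  refine ⟨u, ⟨huE, mem_centralizer_singleton_iff.mpr huz.symm⟩, ?_⟩
  obtain ⟨q, hq⟩ : ∃ q, p = q + 1 := ⟨p - 1, by have := hp.out.two_le; omega⟩
  have hstep : ∀ n, n + 1 ≤ p → k⁻¹ * ((k * z) ^ (n + 1) * (z ^ (n + 1))⁻¹) ∈ centralizer (K : Set G) := by
    intro n
    induction n with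
    | zero => intro _; simp
    | succ n ih =>
      intro hn
      have e : k⁻¹ * ((k * z) ^ (n + 1 + 1) * (z ^ (n + 1 + 1))⁻¹) =
          (k⁻¹ * ((k * z) ^ (n + 1) * (z ^ (n + 1))⁻¹)) * (z ^ (n + 1) * k * (z ^ (n + 1))⁻¹) := by
        rw [pow_succ (k * z) (n + 1), pow_succ z (n + 1)]
        group
      rw [e]
      exact mul_mem (ih (by omega)) (hne _ (Nat.succ_pos n) (by omega))
  have := hstep q hq.ge
  rwa [← hq, ← hu] at this

/-- The position of the image of `J` in the automorphism group of a component `K`. -/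
theorem image_position [Finite G] [hp : Fact p.Prime] {K : Subgroup G}
    (hK : K ∈ corelessComponents p G) {z : G} (hz : orderOf z = p) {J : Subgroup G}
    (hJperf : ⁅J, J⁆ = J) (hJC : J ≤ centralizer ({z} : Set G)) (hJL : J ≤ pLayer p G)
    {S : Type u} [Group S] [Finite S]
    {π : ↥(normalizer (K : Set G)) →* S} (hπ : Function.Surjective π)
    (hker : π.ker = (centralizer (K : Set G)).subgroupOf (normalizer (K : Set G))) :
    ∃ P : Subgroup S,
      P ≤ ((sSup (corelessComponents p G) ⊓ centralizer ({z} : Set G)).subgroupOf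
        (normalizer (K : Set G))).map π ∧
      (J.subgroupOf (normalizer (K : Set G))).map π ≤ P ∧
      (P = (K.subgroupOf (normalizer (K : Set G))).map π ∨
        ∃ y : S, orderOf y = p ∧ P ≤ centralizer ({y} : Set S) ∧
          centralizer ({y} : Set S) ≤ normalizer (P : Set S)) := by
  set E := sSup (corelessComponents p G) with hE
  have hKN : K ≤ normalizer (K : Set G) := le_normalizer
  have hCN : centralizer (K : Set G) ≤ normalizer (K : Set G) := centralizer_le_normalizer _
  have hπc : ∀ c : ↥(normalizer (K : Set G)), (c : G) ∈ centralizer (K : Set G) → π c = 1 := by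
    intro c hc
    rw [← MonoidHom.mem_ker, hker]
    exact hc
  have hdec : ∀ x : ↥(normalizer (K : Set G)), (x : G) ∈ pLayer p G →
      ∃ k ∈ K, ∃ c ∈ centralizer (K : Set G), k * c = (x : G) := by
    intro x hx
    have hx' : (x : G) ∈ ((K ⊔ centralizer (K : Set G) : Subgroup G) : Set G) :=
      pLayer_le_sup_centralizer hK hx
    rwa [coe_mul_of_right_le_normalizer_left _ _ hCN, Set.mem_mul] at hx'
  have hJK : (J.subgroupOf (normalizer (K : Set G))).map π ≤
      (K.subgroupOf (normalizer (K : Set G))).map π := by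
    rintro _ ⟨j, hj, rfl⟩
    obtain ⟨k, hk, c, hc, hkc⟩ := hdec j (hJL hj)
    refine ⟨⟨k, hKN hk⟩, hk, ?_⟩
    rw [show j = ⟨k, hKN hk⟩ * ⟨c, hCN hc⟩ from Subtype.ext hkc.symm, map_mul,
      hπc ⟨c, hCN hc⟩ hc, mul_one]
  by_cases hzK : z ∈ normalizer (K : Set G)
  swap
  · refine ⟨_, ?_, hJK, Or.inl rfl⟩
    rintro _ ⟨k, hk, rfl⟩
    obtain ⟨u, hu, huk⟩ := exists_fixed_of_moved hK hz hzK hk
    have huN : u ∈ normalizer (K : Set G) := by
      rw [← mul_inv_cancel_left (k : G) u]
      exact mul_mem k.2 (hCN huk)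
    refine ⟨⟨u, huN⟩, hu, ?_⟩
    rw [show (⟨u, huN⟩ : ↥(normalizer (K : Set G))) = k * ⟨_, hCN huk⟩ from
      Subtype.ext (mul_inv_cancel_left (k : G) u).symm, map_mul, hπc ⟨_, hCN huk⟩ huk, mul_one]
  by_cases hzc : z ∈ centralizer (K : Set G)
  · refine ⟨_, map_mono (comap_mono (le_inf (le_sSup hK) fun k hk => ?_)), hJK, Or.inl rfl⟩
    exact mem_centralizer_singleton_iff.mpr (mem_centralizer_iff.mp hzc k hk)
  refine ⟨((K ⊓ centralizer ({z} : Set G)).subgroupOf (normalizer (K : Set G))).map π, ?_, ?_, Or.inr ?_⟩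
  · exact map_mono (comap_mono (inf_le_inf_right _ (le_sSup hK)))
  · -- commutators of elements of `J` act like commutators fixed by `z`
    have hfix : ∀ x ∈ J, ∃ k ∈ K, ∃ c ∈ centralizer (K : Set G), k * c = x ∧
        k⁻¹ * (z * k * z⁻¹) ∈ K ⊓ centralizer (K : Set G) := by
      intro x hx
      obtain ⟨k, hk, c, hc, hkc⟩ := hdec ⟨x, (pLayer_le_sup_centralizer hK).trans
        (sup_le hKN hCN) (hJL hx)⟩ (hJL hx)
      refine ⟨k, hk, c, hc, hkc, ?_⟩
      have hzk : z * k * z⁻¹ ∈ K := (mem_normalizer_iff.mp hzK k).mp hk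
      have hzcz : z * c * z⁻¹ ∈ centralizer (K : Set G) :=
        (mem_normalizer_iff.mp (Coprime.le_normalizer_centralizer le_rfl hzK) c).mp hc
      have e : k⁻¹ * (z * k * z⁻¹) = c * (z * c * z⁻¹)⁻¹ := by
        have h1 : z * x * z⁻¹ = x := by
          rw [← mem_centralizer_singleton_iff.mp (hJC hx), mul_inv_cancel_right]
        have h2 : (z * k * z⁻¹) * (z * c * z⁻¹) = k * c := by
          rw [hkc]
          calc (z * k * z⁻¹) * (z * c * z⁻¹) = z * (k * c) * z⁻¹ := by group
            _ = x := by rw [hkc, h1]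
        rw [inv_mul_eq_iff_eq_mul, ← mul_assoc, eq_mul_inv_iff_mul_eq, h2]
      refine mem_inf.mpr ⟨mul_mem (inv_mem hk) hzk, ?_⟩
      rw [e]
      exact mul_mem hc (inv_mem hzcz)
    have hperfN : ⁅J.subgroupOf (normalizer (K : Set G)), J.subgroupOf (normalizer (K : Set G))⁆ =
        J.subgroupOf (normalizer (K : Set G)) := by
      apply Subgroup.map_injective (normalizer (K : Set G)).subtype_injective
      rw [map_commutator, map_subgroupOf_eq_of_le
        (hJL.trans ((pLayer_le_sup_centralizer hK).trans (sup_le hKN hCN))), hJperf]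
    rw [← hperfN, map_commutator, commutator_le]
    rintro _ ⟨a, ha, rfl⟩ _ ⟨b, hb, rfl⟩
    obtain ⟨k, hk, c, hc, hkc, hl⟩ := hfix a ha
    obtain ⟨k', hk', c', hc', hkc', hl'⟩ := hfix b hb
    have hπa : π a = π ⟨k, hKN hk⟩ := by
      rw [show a = ⟨k, hKN hk⟩ * ⟨c, hCN hc⟩ from Subtype.ext hkc.symm, map_mul,
        hπc ⟨c, hCN hc⟩ hc, mul_one]
    have hπb : π b = π ⟨k', hKN hk'⟩ := by
      rw [show b = ⟨k', hKN hk'⟩ * ⟨c', hCN hc'⟩ from Subtype.ext hkc'.symm, map_mul,
        hπc ⟨c', hCN hc'⟩ hc', mul_one]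
    rw [hπa, hπb, ← map_commutatorElement]
    refine mem_map_of_mem π (show ⁅k, k'⁆ ∈ K ⊓ centralizer ({z} : Set G) from mem_inf.mpr ⟨?_, ?_⟩)
    · exact mul_mem (mul_mem (mul_mem hk hk') (inv_mem hk)) (inv_mem hk')
    · have key : z * ⁅k, k'⁆ * z⁻¹ = ⁅k, k'⁆ := by
        rw [← MulAut.conj_apply, map_commutatorElement, MulAut.conj_apply, MulAut.conj_apply]
        obtain ⟨hlK, hlc⟩ := hl
        obtain ⟨hlK', hlc'⟩ := hl'
        rw [show z * k * z⁻¹ = k * (k⁻¹ * (z * k * z⁻¹)) by group,
          show z * k' * z⁻¹ = k' * (k'⁻¹ * (z * k' * z⁻¹)) by group]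
        generalize k⁻¹ * (z * k * z⁻¹) = l at hlK hlc ⊢
        generalize k'⁻¹ * (z * k' * z⁻¹) = l' at hlK' hlc' ⊢
        have c1 : Commute l (k' * l') :=
          (Commute.mul_right (mem_centralizer_iff.mp hlc k' hk').symm
            (mem_centralizer_iff.mp hlc l' hlK').symm)
        have c2 : Commute k l' := mem_centralizer_iff.mp hlc' k hk
        rw [commutatorElement_mul_left_eq_conj_mul, Commute.commutator_eq c1, mul_one, mul_inv_cancel,
          one_mul, commutatorElement_mul_right_eq_mul_conj, Commute.commutator_eq c2]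
        group
      rw [mem_centralizer_singleton_iff]
      exact (mul_inv_eq_iff_eq_mul.mp key).symm
  · refine ⟨π ⟨z, hzK⟩, orderOf_eq_prime ?_ ?_, ?_, ?_⟩
    · have h0 : (⟨z, hzK⟩ : ↥(normalizer (K : Set G))) ^ p = 1 :=
        Subtype.ext (by simpa using hz ▸ pow_orderOf_eq_one z)
      rw [← map_pow, h0, map_one]
    · intro h
      rw [← MonoidHom.mem_ker, hker] at h
      exact hzc h
    · rintro _ ⟨k, hk, rfl⟩
      rw [mem_centralizer_singleton_iff, ← map_mul, ← map_mul]
      exact congrArg π (Subtype.ext (mem_centralizer_singleton_iff.mp hk.2))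
    · intro s hs
      refine mem_normalizer_of_conj_mem ?_
      rintro _ ⟨k, hk, rfl⟩
      obtain ⟨n, rfl⟩ := hπ s
      rw [← map_inv, ← map_mul, ← map_mul]
      refine mem_map_of_mem π ⟨(mem_normalizer_iff.mp n.2 k).mp hk.1, mem_centralizer_singleton_iff.mpr ?_⟩
      have hc : (⟨z, hzK⟩ : ↥(normalizer (K : Set G)))⁻¹ * n⁻¹ * ⟨z, hzK⟩ * n ∈ π.ker := by
        rw [MonoidHom.mem_ker]
        simp only [map_mul, map_inv]
        have hcm : π ⟨z, hzK⟩ * π n = π n * π ⟨z, hzK⟩ := (mem_centralizer_singleton_iff.mp hs).symm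
        rw [mul_assoc _ (π ⟨z, hzK⟩) (π n), hcm]
        group
      rw [hker] at hc
      have hc2 := mem_centralizer_iff.mp (show z⁻¹ * (n : G)⁻¹ * z * (n : G) ∈ centralizer (K : Set G) from hc)
        (k : G) hk.1
      have hkz : z * (k : G) = (k : G) * z := (mem_centralizer_singleton_iff.mp hk.2).symm
      show (n : G) * (k : G) * (n : G)⁻¹ * z = z * ((n : G) * (k : G) * (n : G)⁻¹)
      calc (n : G) * (k : G) * (n : G)⁻¹ * z
          = n * (k : G) * z * (z⁻¹ * (n : G)⁻¹ * z * n) * (n : G)⁻¹ := by group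
        _ = n * z * ((k : G) * (z⁻¹ * (n : G)⁻¹ * z * n)) * (n : G)⁻¹ := by
            rw [mul_assoc (n : G) (k : G) z, ← hkz]
            group
        _ = n * z * ((z⁻¹ * (n : G)⁻¹ * z * n) * (k : G)) * (n : G)⁻¹ := by rw [hc2]
        _ = z * ((n : G) * (k : G) * (n : G)⁻¹) := by group

/-- The centraliser step. -/
theorem centralizer_step [Finite G] [hp : Fact p.Prime] (hX : BalanceHyp p G) {z : G}
    (hz : orderOf z = p) {J : Subgroup G} (hJC : J ≤ centralizer ({z} : Set G))
    (hJsn : (J.subgroupOf (centralizer ({z} : Set G))).IsSubnormal)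
    (hJp : IsPCompGroup p ↥J) (hJn : ¬ IsQuasisimple ↥J) :
    J ≤ nonQuasisimplePLayer p G := by
  set C := centralizer ({z} : Set G) with hC
  have hJperf := pCompGroup_subgroup_perfect hJp
  have hJc : IsPComponent p (J.subgroupOf C) := (isPComponent_subgroupOf_iff hJC).mpr ⟨hJsn, hJp⟩
  have hS : ∀ K : Subgroup (G ⧸ pPrimeCore p G), IsComponent K →
      Group.IsSolvable (Out (↥K ⧸ center ↥K)) := by
    intro K hK
    refine (hX ↥K _ ((QuotientGroup.mk' (pPrimeCore p G)).subgroupComap K)
      (MonoidHom.subgroupComap_surjective_of_surjective _ K (QuotientGroup.mk'_surjective _)) ?_).2 hK.2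
    apply Subgroup.map_injective K.subtype_injective
    rw [map_pPrimeCore_eq_inf hK.1, Core.pPrimeCore_quotient_eq_bot, inf_bot_eq, Subgroup.map_bot]
  have hR : IsPGroup p ↥(zpowers z) :=
    IsPGroup.of_card (n := 1) (by rw [Nat.card_zpowers, hz, pow_one])
  have hCeq : centralizer (zpowers z : Set G) = C := by
    refine le_antisymm (centralizer_le (Set.singleton_subset_iff.mpr (mem_zpowers z))) ?_
    rw [le_centralizer_iff, zpowers_le, mem_centralizer_iff]
    exact fun x hx => mem_centralizer_singleton_iff.mp hx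
  have hCNz : C ≤ normalizer (zpowers z : Set G) := hCeq ▸ centralizer_le_normalizer _
  have hJL : J ≤ pLayer p G := by
    have hJN := hJC.trans hCNz
    have h2 : (C.subgroupOf (normalizer (zpowers z : Set G))).IsSubnormal :=
      ((normal_subgroupOf_iff_le_normalizer hCNz).mpr
        (hCeq ▸ Coprime.le_normalizer_centralizer le_rfl)).isSubnormal
    have h1 := hJsn.comap (subgroupOfEquivOfLe hCNz).toMonoidHom
    have hsn : (J.subgroupOf (normalizer (zpowers z : Set G))).IsSubnormal :=
      Subgroup.IsSubnormal.trans (fun x hx => hJC hx) h1 h2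
    refine le_trans ?_ (pLayer_normalizer_le hS hR)
    rw [← map_subgroupOf_eq_of_le hJN]
    exact map_mono (pComponent_le_pLayer ((isPComponent_subgroupOf_iff hJN).mpr ⟨hsn, hJp⟩))
  set E := sSup (corelessComponents p G) with hE
  haveI : E.Normal := sSup_corelessComponents_normal
  have hEL : E ≤ pLayer p G := sSup_coreless_le_pLayer
  have hnorm : ∀ K ∈ corelessComponents p G, pLayer p G ≤ normalizer (K : Set G) := fun K hK =>
    (pLayer_le_sup_centralizer hK).trans (sup_le le_normalizer (centralizer_le_normalizer _))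
  rcases component_le_or_commute hJc.2.1
    ((Subgroup.Normal.isSubnormal (inferInstance : (E.subgroupOf C).Normal)).quotient
      (K := pPrimeCore p ↥C)) with hcase | hcase
  · -- `J ≤ E`; then `J` would be quasisimple
    have hJE : J ≤ E := by
      rw [map_le_iff_le_comap, comap_map_eq, QuotientGroup.ker_mk'] at hcase
      have hJ' : pElemClosure p (J.subgroupOf C) = J.subgroupOf C :=
        (pElemClosure_top_eq_top_iff _).mp ((isPComponent_iff_intrinsic.mp hJc).2).1
      have h := pElemClosure_le_of_cover (Core.coprime_card_pPrimeCore (p := p))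
        (Subgroup.Normal.isSubnormal (inferInstance : (E.subgroupOf C).Normal)) hcase
      rw [hJ'] at h
      exact fun x hx => h (x := ⟨x, hJC hx⟩) hx
    refine absurd (isQuasisimple_of_commutator_eq_bot hJp ?_) hJn
    set O := (pPrimeCore p ↥J).map J.subtype with hO
    have hOJ : O ≤ J := map_subtype_le _
    suffices hzero : ∀ K ∈ corelessComponents p G, ⁅J, O⁆ ≤ centralizer (K : Set G) by
      have hcE : ⁅⁅J, O⁆, J⁆ = ⊥ := by
        rw [commutator_eq_bot_iff_le_centralizer]
        refine le_trans ?_ (centralizer_le hJE)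
        exact le_centralizer_iff.mp (sSup_le fun K hK => le_centralizer_iff.mp (hzero K hK))
      have := commutator_commutator_eq_bot_of_rotate (H₁ := J) (H₂ := J) (H₃ := O) hcE
        (by rwa [Subgroup.commutator_comm O J])
      rwa [hJperf] at this
    intro K hK
    have hJN : J ≤ normalizer (K : Set G) := hJL.trans (hnorm K hK)
    haveI : ((centralizer (K : Set G)).subgroupOf (normalizer (K : Set G))).Normal := inferInstance
    set π := QuotientGroup.mk' ((centralizer (K : Set G)).subgroupOf (normalizer (K : Set G))) with hπ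
    obtain ⟨hcomp, hcent, hsimple, hOS, hqF⟩ :=
      component_autQuotient hK (π := π) (QuotientGroup.mk'_surjective _) (QuotientGroup.ker_mk' _)
    obtain ⟨P, hPU, hJP, hPcase⟩ := image_position hK hz hJperf hJC hJL
      (π := π) (QuotientGroup.mk'_surjective _) (QuotientGroup.ker_mk' _)
    set Jb := (J.subgroupOf (normalizer (K : Set G))).map π with hJb
    set U := (E ⊓ C).subgroupOf (normalizer (K : Set G)) with hU
    have htriv : ∀ T ≤ J, (T.subgroupOf (normalizer (K : Set G))).map π = ⊥ →
        T ≤ centralizer (K : Set G) := by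
      intro T hT h x hx
      rw [Subgroup.map_eq_bot_iff, hπ, QuotientGroup.ker_mk'] at h
      exact h (x := ⟨x, hJN (hT hx)⟩) hx
    rcases eq_or_ne Jb ⊥ with hb | hb
    · exact (commutator_mono (htriv J le_rfl hb) (hOJ.trans (htriv J le_rfl hb))).trans (commutator_le_self _)
    have hJbp : IsPCompGroup p ↥Jb :=
      isPCompGroup_map π (isPCompGroup_congr (subgroupOfEquivOfLe hJN).symm hJp) hb
    -- `Jb` is subnormal in `P`
    have hsnU : (Jb.subgroupOf (U.map π)).IsSubnormal := by
      have h1 : ((J.subgroupOf (normalizer (K : Set G))).subgroupOf U).IsSubnormal :=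
        hJsn.comap (((normalizer (K : Set G)).subtype.comp U.subtype).codRestrict C fun x => x.2.2)
      have h2 := h1.map (f := π.subgroupMap U) (π.subgroupMap_surjective U)
      convert h2 using 1
      ext y
      constructor
      · rintro ⟨x, hx, hxy⟩
        exact ⟨⟨x, mem_inf.mpr ⟨hJE hx, hJC hx⟩⟩, hx, Subtype.ext hxy⟩
      · rintro ⟨x, hx, rfl⟩
        exact mem_map_of_mem π hx
    have hsnP : (Jb.subgroupOf P).IsSubnormal := hsnU.comap (inclusion hPU)
    have hqs : IsQuasisimple ↥Jb := by
      rcases hPcase with rfl | ⟨y, hy, hPy, hyP⟩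
      · rcases qs_sub_subnormal_cases hcomp.2 hJP hsnP with h | h
        · exact isQuasisimple_congr (MulEquiv.subgroupCongr h.symm) hcomp.2
        · refine absurd (le_bot_iff.mp (hcent ▸ ?_)) hb
          exact commutator_eq_bot_iff_le_centralizer.mp h
      · have hsnC : (Jb.subgroupOf (centralizer ({y} : Set _))).IsSubnormal :=
          Subgroup.IsSubnormal.trans (fun x hx => hJP hx)
            (hsnP.comap (subgroupOfEquivOfLe hPy).toMonoidHom)
            ((normal_subgroupOf_iff_le_normalizer hPy).mpr hyP).isSubnormal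
        have hq := (hX _ (normalizer (K : Set G)) π (QuotientGroup.mk'_surjective _) hOS).1 hqF y hy _
          ((isPComponent_subgroupOf_iff (hJP.trans hPy)).mpr ⟨hsnC, hJbp⟩)
        exact isQuasisimple_congr (subgroupOfEquivOfLe (hJP.trans hPy)) hq
    refine htriv _ (commutator_le.mpr fun a ha b hb => mul_mem (mul_mem (mul_mem ha (hOJ hb)) (inv_mem ha)) (inv_mem (hOJ hb))) ?_
    have hOc := pPrimeCore_central_of_isQuasisimple hJbp hqs
    have hOle : (O.subgroupOf (normalizer (K : Set G))).map π ≤ (pPrimeCore p ↥Jb).map Jb.subtype := by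
      rintro _ ⟨x, hx, rfl⟩
      obtain ⟨o, ho, hox⟩ := hx
      have h3 := Core.map_pPrimeCore_le_of_surjective (p := p)
        (f := (π.subgroupMap (J.subgroupOf (normalizer (K : Set G)))).comp (subgroupOfEquivOfLe hJN).symm.toMonoidHom)
        ((π.subgroupMap_surjective _).comp (MulEquiv.surjective _)) (mem_map_of_mem _ ho)
      refine ⟨_, h3, ?_⟩
      show π _ = π x
      exact congrArg π (Subtype.ext hox)
    rw [eq_bot_iff]
    rintro _ ⟨x, hx, rfl⟩
    have h4 : π x ∈ ⁅Jb, (pPrimeCore p ↥Jb).map Jb.subtype⁆ := by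
      refine commutator_mono le_rfl hOle ?_
      rw [← map_commutator]
      refine mem_map_of_mem π ?_
      have h5 : ⁅J, O⁆ = (⁅J.subgroupOf (normalizer (K : Set G)), O.subgroupOf (normalizer (K : Set G))⁆).map
          (normalizer (K : Set G)).subtype := by
        rw [map_commutator, map_subgroupOf_eq_of_le hJN, map_subgroupOf_eq_of_le (hOJ.trans hJN)]
      have h6 : (x : G) ∈ ⁅J, O⁆ := hx
      rw [h5] at h6
      obtain ⟨x', hx', hxx⟩ := h6
      rwa [← Subtype.ext hxx]
    have h7 : ⁅Jb, (pPrimeCore p ↥Jb).map Jb.subtype⁆ = ⊥ := by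
      rw [commutator_eq_bot_iff_le_centralizer, le_centralizer_iff]
      exact (map_mono hOc).trans ((map_center_eq_inf Jb).le.trans inf_le_right)
    rw [h7] at h4
    exact h4
  · -- `J` centralises every such component
    refine le_nonQs_of_centralizes hJperf hJL ?_
    refine le_centralizer_iff.mp (sSup_le fun K hK => le_centralizer_iff.mp ?_)
    rw [← map_commutator, Subgroup.map_eq_bot_iff, QuotientGroup.ker_mk'] at hcase
    have hJN : J ≤ normalizer (K : Set G) := hJL.trans (hnorm K hK)
    haveI : ((centralizer (K : Set G)).subgroupOf (normalizer (K : Set G))).Normal := inferInstance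
    set π := QuotientGroup.mk' ((centralizer (K : Set G)).subgroupOf (normalizer (K : Set G))) with hπ
    obtain ⟨P, hPU, hJP, -⟩ := image_position hK hz hJperf hJC hJL
      (π := π) (QuotientGroup.mk'_surjective _) (QuotientGroup.ker_mk' _)
    have hUN : E ⊓ C ≤ normalizer (K : Set G) := inf_le_left.trans (hEL.trans (hnorm K hK))
    set W := (pPrimeCore p ↥C).map C.subtype with hW
    have hWc : (Nat.card W).Coprime p := by
      rw [hW, card_map_of_injective C.subtype_injective]
      exact Core.coprime_card_pPrimeCore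
    have hJU : ⁅J, E ⊓ C⁆ ≤ W := by
      have := map_mono (f := C.subtype) hcase
      rw [map_commutator, map_subgroupOf_eq_of_le hJC, subgroupOf_map_subtype] at this
      exact this
    set W' := (W.subgroupOf (normalizer (K : Set G))).map π with hW'
    have hle : (J.subgroupOf (normalizer (K : Set G))).map π ≤ W' := by
      have hperf' : ⁅J.subgroupOf (normalizer (K : Set G)), J.subgroupOf (normalizer (K : Set G))⁆ =
          J.subgroupOf (normalizer (K : Set G)) := by
        apply Subgroup.map_injective (normalizer (K : Set G)).subtype_injective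
        rw [map_commutator, map_subgroupOf_eq_of_le hJN, hJperf]
      rw [← hperf', map_commutator]
      refine (commutator_mono le_rfl (hJP.trans hPU)).trans ?_
      rw [← map_commutator]
      refine map_mono (commutator_le.mpr fun a ha b hb => ?_)
      exact hJU (commutator_mem_commutator ha hb)
    have hW'c : (Nat.card W').Coprime p := by
      refine hWc.coprime_dvd_left ((card_map_dvd _ _).trans ?_)
      rw [← card_map_of_injective (Subgroup.subtype_injective _) (K := W.subgroupOf (normalizer (K : Set G))),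
        subgroupOf_map_subtype]
      exact card_dvd_of_le inf_le_left
    have hbot := eq_bot_of_pCompGroup_coprime
      (isPCompGroup_congr (subgroupOfEquivOfLe hJN).symm hJp) hle hW'c
    rw [Subgroup.map_eq_bot_iff, hπ, QuotientGroup.ker_mk'] at hbot
    exact fun x hx => hbot (x := ⟨x, hJN hx⟩) hx

theorem nonQs_balance_aux (n : ℕ) : ∀ (X : Type u) [Group X] [Finite X] [Fact p.Prime],
    BalanceHyp p X → ∀ (R J : Subgroup X), IsPGroup p ↥R → Nat.card R ≤ n →
      J ≤ normalizer (R : Set X) → (J.subgroupOf (normalizer (R : Set X))).IsSubnormal →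
      IsPCompGroup p ↥J → ¬ IsQuasisimple ↥J → J ≤ nonQuasisimplePLayer p X := by
  induction n with
  | zero =>
    intro X _ _ _ _ R _ _ hn
    exact absurd (Nat.card_pos (α := R)) (by omega)
  | succ n ih =>
    intro X _ _ hp hX R J hR hn hJR hJsn hJp hJn
    rcases eq_or_ne R ⊥ with hR1 | hR1
    · have hN : normalizer (R : Set X) = ⊤ := by rw [hR1]; exact normalizer_eq_top ⊥
      have hsn : J.IsSubnormal := by
        have h2 : (normalizer (R : Set X)).IsSubnormal := by rw [hN]; exact IsSubnormal.top
        have := hJsn.trans' h2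
        rwa [map_subgroupOf_eq_of_le hJR] at this
      exact le_iSup (fun K : {K : Subgroup X // IsPComponent p K ∧ ¬ IsQuasisimple ↥K} => (K : Subgroup X))
        ⟨J, isPComponent_iff_intrinsic.mpr ⟨hsn, hJp⟩, hJn⟩
    haveI : Nontrivial ↥R := (nontrivial_iff_ne_bot R).mpr hR1
    haveI : Nontrivial ↥(center ↥R) := hR.center_nontrivial
    obtain ⟨w, hw⟩ := exists_prime_orderOf_dvd_card' (G := ↥(center ↥R)) p
      (by
        obtain ⟨m, hm⟩ := IsPGroup.iff_card.mp (hR.to_subgroup (center ↥R))
        rw [hm]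
        refine dvd_pow_self p fun h0 => ?_
        rw [h0, pow_zero] at hm
        exact absurd hm (Finite.one_lt_card).ne')
    set z : X := ((w : ↥R) : X) with hzd
    have hzR : z ∈ R := (w : ↥R).2
    have hz : orderOf z = p := by rw [hzd, orderOf_coe, orderOf_coe, hw]
    set C := centralizer ({z} : Set X) with hC
    have hJc : IsPComponent p (J.subgroupOf (normalizer (R : Set X))) :=
      (isPComponent_subgroupOf_iff hJR).mpr ⟨hJsn, hJp⟩
    have hJCR : J ≤ centralizer (R : Set X) := by
      have := (pCompLike_le_centralizers hR (isPCompLike_pComponent hJc)).trans inf_le_left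
      rwa [map_subgroupOf_eq_of_le hJR] at this
    have hJC : J ≤ C := hJCR.trans (centralizer_le (Set.singleton_subset_iff.mpr hzR))
    have hRC : R ≤ C := fun r hr => mem_centralizer_singleton_iff.mpr
      (congrArg Subtype.val (mem_center_iff.mp w.2 ⟨r, hr⟩))
    set zc : ↥C := ⟨z, mem_centralizer_singleton_iff.mpr rfl⟩ with hzc
    have hzcen : zpowers zc ≤ center ↥C := by
      rw [zpowers_le, mem_center_iff]
      exact fun y => Subtype.ext (mem_centralizer_singleton_iff.mp y.2)
    haveI : (zpowers zc).Normal := ⟨fun x hx g => by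
      rwa [mem_center_iff.mp (hzcen hx) g, mul_inv_cancel_right]⟩
    set f := QuotientGroup.mk' (zpowers zc) with hf
    have hfker : f.ker = zpowers zc := QuotientGroup.ker_mk' _
    have hkp : IsPGroup p ↥f.ker := by
      rw [hfker]
      exact IsPGroup.of_card (n := 1) (by rw [Nat.card_zpowers, ← orderOf_coe, pow_one]; exact hz)
    set R' := R.subgroupOf C with hR'
    set J' := J.subgroupOf C with hJ'
    have hkR : f.ker ≤ R' := by rw [hfker, zpowers_le]; exact hzR
    have hNeq : normalizer ((R'.map f : Subgroup _) : Set (↥C ⧸ zpowers zc)) =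
        (normalizer (R' : Set ↥C)).map f := by
      refine le_antisymm ?_ (le_normalizer_map f)
      intro y hy
      obtain ⟨x, rfl⟩ := QuotientGroup.mk'_surjective _ y
      refine mem_map_of_mem f (mem_normalizer_of_conj_mem fun r hr => ?_)
      have h1 := (mem_normalizer_iff.mp hy (f r)).mp (mem_map_of_mem f hr)
      rw [← map_inv, ← map_mul, ← map_mul] at h1
      have h2 : x * r * x⁻¹ ∈ (R'.map f).comap f := h1
      rwa [comap_map_eq, sup_eq_left.mpr hkR] at h2
    have hJN' : J' ≤ normalizer (R' : Set ↥C) := fun x hx =>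
      mem_normalizer_of_conj_mem fun r hr => (mem_normalizer_iff.mp (hJR hx) (r : X)).mp hr
    have hJp' : IsPCompGroup p ↥J' := isPCompGroup_congr (subgroupOfEquivOfLe hJC).symm hJp
    have hJn' : ¬ IsQuasisimple ↥J' := fun h => hJn (isQuasisimple_congr (subgroupOfEquivOfLe hJC) h)
    haveI := isPCompGroup_perfect hJp'
    have hJperf' := pCompGroup_subgroup_perfect hJp'
    have hfne : J'.map f ≠ ⊥ := by
      intro h
      rw [Subgroup.map_eq_bot_iff, hfker] at h
      haveI : IsMulCommutative ↥J' :=
        le_centralizer_iff_isMulCommutative.mp (h.trans (hzcen.trans (center_le_centralizer _)))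
      haveI : Nontrivial ↥J' := by
        haveI := qs_nontrivial hJp'.2
        exact (QuotientGroup.mk'_surjective (pPrimeCore p ↥J')).nontrivial
      exact Group.IsPerfect.not_isMulCommutative ↥J' inferInstance
    have hJbn : ¬ IsQuasisimple ↥(J'.map f) := fun h => hJn' <|
      isQuasisimple_of_central_ker (f.subgroupMap_surjective J') (fun x hx => mem_center_iff.mpr fun y => by
        have hx' : (x : ↥C) ∈ f.ker := congrArg Subtype.val (MonoidHom.mem_ker.mp hx)
        rw [hfker] at hx'
        exact Subtype.ext (mem_center_iff.mp (hzcen hx') (y : ↥C))) h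
    have hcard : Nat.card ↥(R'.map f) ≤ n := by
      have h1 : Nat.card ↥(R'.map f) * p = Nat.card R := by
        rw [← Nat.card_congr (subgroupOfEquivOfLe hRC).toEquiv, ← hR',
          ← (f.subgroupMap R').ker.index_mul_card, index_ker,
          MonoidHom.range_eq_top.mpr (f.subgroupMap_surjective R'), Subgroup.card_top]
        congr 1
        have hk : (f.subgroupMap R').ker = f.ker.subgroupOf R' := by
          ext x
          exact ⟨fun h => congrArg Subtype.val (MonoidHom.mem_ker.mp h), fun h => Subtype.ext h⟩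
        rw [hk, Nat.card_congr (subgroupOfEquivOfLe hkR).toEquiv, hfker, Nat.card_zpowers,
          ← orderOf_coe]
        exact hz.symm
      have h2 := hp.out.two_le
      have h3 : Nat.card ↥(R'.map f) * 2 ≤ Nat.card R := h1 ▸ Nat.mul_le_mul_left _ h2
      have h4 := Nat.card_pos (α := ↥(R'.map f))
      omega
    have hsn' : ((J'.map f).subgroupOf (normalizer ((R'.map f : Subgroup _) : Set (↥C ⧸ zpowers zc)))).IsSubnormal := by
      rw [hNeq]
      have h1 : (J'.subgroupOf (normalizer (R' : Set ↥C))).IsSubnormal := by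
        refine hJsn.comap ((C.subtype.comp (normalizer (R' : Set ↥C)).subtype).codRestrict _ fun x => ?_)
        refine mem_normalizer_of_conj_mem fun r hr => ?_
        exact (mem_normalizer_iff.mp x.2 ⟨r, hRC hr⟩).mp hr
      have h2 := h1.map (f := f.subgroupMap _) (f.subgroupMap_surjective _)
      convert h2 using 1
      ext y
      constructor
      · rintro ⟨x, hx, hxy⟩
        exact ⟨⟨x, hJN' hx⟩, hx, Subtype.ext hxy⟩
      · rintro ⟨x, hx, rfl⟩
        exact mem_map_of_mem f hx
    have hmain := ih (↥C ⧸ zpowers zc)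
      (balanceHyp_of_surjective (balanceHyp_subgroup hX C) (QuotientGroup.mk'_surjective _))
      (R'.map f) (J'.map f) ((hR.comap_of_injective C.subtype C.subtype_injective).map f) hcard
      (hNeq ▸ map_mono hJN') hsn' (isPCompGroup_map f hJp' hfne) hJbn
    have hlift : J' ≤ nonQuasisimplePLayer p ↥C := by
      refine perfect_le_of_le_sup hJperf' (Z := f.ker) ?_ ?_ ?_
      · rw [hfker]; exact hzcen.trans (center_le_centralizer _)
      · rw [hfker]; exact hzcen.trans (center_le_centralizer _)
      · refine (map_le_iff_le_comap.mp hmain).trans ?_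
        rw [← comap_map_eq]
        refine comap_mono (iSup_le fun T => ?_)
        obtain ⟨T, hT, hTn⟩ := T
        obtain ⟨hTsn, hTp⟩ := isPComponent_iff_intrinsic.mp hT
        obtain ⟨K, hKsn, hKp, hKT, -⟩ := exists_pCompGroup_lift (QuotientGroup.mk'_surjective _)
          (hfker.le.trans hzcen) hkp hTsn hTp
        show T ≤ _
        rw [← hKT]
        refine map_mono (le_iSup (fun K : {K : Subgroup ↥C // IsPComponent p K ∧ ¬ IsQuasisimple ↥K} =>
          (K : Subgroup ↥C)) ⟨K, isPComponent_iff_intrinsic.mpr ⟨hKsn, hKp⟩, fun h => hTn ?_⟩)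
        haveI := qs_nontrivial hTp.2
        haveI : Nontrivial ↥T := (QuotientGroup.mk'_surjective (pPrimeCore p ↥T)).nontrivial
        exact qs_of_surjective h ((MulEquiv.subgroupCongr hKT).toMonoidHom.comp (f.subgroupMap K))
          ((MulEquiv.subgroupCongr hKT).surjective.comp (f.subgroupMap_surjective K))
    rw [← map_subgroupOf_eq_of_le hJC]
    refine (map_mono hlift).trans ?_
    rw [nonQuasisimplePLayer, Subgroup.map_iSup]
    refine iSup_le fun K => ?_
    obtain ⟨K, hK, hKn⟩ := K
    obtain ⟨hKsn, hKp⟩ := isPComponent_iff_intrinsic.mp hK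
    refine centralizer_step hX hz (map_subtype_le K) ?_
      (isPCompGroup_congr (equivMapOfInjective K _ C.subtype_injective) hKp)
      (fun h => hKn (isQuasisimple_congr (equivMapOfInjective K _ C.subtype_injective).symm h))
    rwa [subgroupOf, comap_map_eq_self_of_injective C.subtype_injective]

/-- **Balance** for the non-quasisimple part of the `p`-layer. -/
theorem nonQs_balance [Finite G] [Fact p.Prime] (hX : BalanceHyp p G) {R : Subgroup G}
    (hR : IsPGroup p ↥R) :
    (nonQuasisimplePLayer p ↥(normalizer (R : Set G))).map (normalizer (R : Set G)).subtype ≤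
      nonQuasisimplePLayer p G := by
  rw [nonQuasisimplePLayer, Subgroup.map_iSup]
  refine iSup_le fun K => ?_
  obtain ⟨K, hK, hKn⟩ := K
  obtain ⟨hKsn, hKp⟩ := isPComponent_iff_intrinsic.mp hK
  refine nonQs_balance_aux _ G hX R _ hR le_rfl (map_subtype_le K) ?_
    (isPCompGroup_congr (equivMapOfInjective K _ (normalizer (R : Set G)).subtype_injective) hKp)
    (fun h => hKn (isQuasisimple_congr (equivMapOfInjective K _ (normalizer (R : Set G)).subtype_injective).symm h))
  rwa [subgroupOf, comap_map_eq_self_of_injective (normalizer (R : Set G)).subtype_injective]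

end Cfsg.Agent.Layer
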