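import Cfsg.Agent.Layer.PTerminalBasic

/-!
Elements of order `p` moving the components over `L_{p'}(C_K(y))`.
-/

set_option autoImplicit false
set_option linter.style.haveILetI false

namespace Cfsg.Agent.Layer

open Subgroup Cfsg
open scoped commutatorElement

universe u

variable {G : Type u} [Group G] {p : ℕ}

theorem mem_conjOrbit_pow [hp : Fact p.Prime] {x : G} (hx : x ^ p = 1) {K : Subgroup G} (m : ℕ) :
    K.map (MulAut.conj (x ^ m)).toMonoidHom ∈ conjOrbit p x K := by
  refine ⟨m % p, Nat.mod_lt _ hp.out.pos, ?_⟩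
  congr 3
  conv_lhs => rw [← Nat.mod_add_div m p, pow_add, pow_mul, hx, one_pow, mul_one]

theorem conjOrbit_eq_of_mem [hp : Fact p.Prime] {x : G} (hx : x ^ p = 1) {K M : Subgroup G}
    (h : M ∈ conjOrbit p x K) : conjOrbit p x M = conjOrbit p x K := by
  obtain ⟨i, hi, rfl⟩ := h
  ext N
  constructor
  · rintro ⟨j, -, rfl⟩
    rw [map_conj_map_conj, ← pow_add]
    exact mem_conjOrbit_pow hx _
  · rintro ⟨j, -, rfl⟩
    have : K.map (MulAut.conj (x ^ j)).toMonoidHom =
        (K.map (MulAut.conj (x ^ i)).toMonoidHom).map (MulAut.conj (x ^ (j + (p - i)))).toMonoidHom := by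
      rw [map_conj_map_conj, ← pow_add, show j + (p - i) + i = j + p by omega, pow_add, hx, mul_one]
    rw [this]
    exact mem_conjOrbit_pow hx _

/-- Two groups pumping up into the same orbit coincide. -/
theorem IsPumpUp.eq_of_orbit [Finite G] [hp : Fact p.Prime] {x : G} (hx : x ^ p = 1)
    {L L' K K' : Subgroup G} (h : IsPumpUp p x L K) (h' : IsPumpUp p x L' K')
    (hcard : Nat.card K ≤ Nat.card L) (hcard' : Nat.card K' ≤ Nat.card L')
    (hL'x : L' ≤ centralizer ({x} : Set G)) (hperf : ⁅L', L'⁆ = L')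
    (hmem : K' ∈ conjOrbit p x K) : L = L' := by
  have hc : Nat.card K' = Nat.card K := by
    obtain ⟨i, -, rfl⟩ := hmem
    exact card_map_conj K _
  have hLK := h.card_le
  have horb := conjOrbit_eq_of_mem hx hmem
  obtain ⟨-, h1⟩ := h.eq_of_card hcard
  rcases h1 with ⟨hfix, rfl⟩ | ⟨_, _, hs, heq, _⟩
  · have hK' : K' = L := by
      rw [conjOrbit_of_fixed hfix] at hmem
      exact hmem
    subst hK'
    have hle := h'.2.1
    rw [conjOrbit_of_fixed hfix, sSup_singleton] at hle
    exact (eq_of_le_of_card_ge hle hcard').symm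
  · have hle := h'.2.1
    rw [horb] at hle
    have hle2 := le_range_diagHom hx hs hperf hL'x hle
    rw [← heq] at hle2
    exact (eq_of_le_of_card_ge hle2 (by omega)).symm

theorem commutator_compsOf_le [Finite G] [Fact p.Prime] {M M' C : Subgroup G}
    (hM : IsPComponentOf p M C) (hM' : IsPComponentOf p M' C) (hne : M ≠ M') :
    ⁅M, M'⁆ ≤ (pPrimeCore p ↥C).map C.subtype := by
  rw [← map_subgroupOf_eq_of_le hM.1, ← map_subgroupOf_eq_of_le hM'.1, ← map_commutator]
  refine map_mono ((commutator_pComponents_le hM.2 hM'.2 fun h => hne ?_).trans inf_le_right)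
  rw [← map_subgroupOf_eq_of_le hM.1, h, map_subgroupOf_eq_of_le hM'.1]

theorem coprime_card_commutator_image [Finite G] {y : G} {L M W : Subgroup G}
    (hL : L ≤ centralizer ({y} : Set G)) (hM : M ≤ centralizer ({y} : Set G))
    (hW : (Nat.card W).Coprime p) (hle : ⁅L, M⁆ ≤ W) :
    (Nat.card ↥(⁅localImage p y L, localImage p y M⁆)).Coprime p := by
  rw [localImage, localImage, ← map_commutator]
  refine hW.coprime_dvd_left ((card_map_dvd _ _).trans ?_)
  rw [← card_map_of_injective (Subgroup.subtype_injective _)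
    (K := ⁅L.subgroupOf (centralizer ({y} : Set G)), M.subgroupOf (centralizer ({y} : Set G))⁆),
    map_commutator, map_subgroupOf_eq_of_le hL, map_subgroupOf_eq_of_le hM]
  exact card_dvd_of_le hle

theorem dvd_card_localComp [Finite G] [Fact p.Prime] {y : G}
    {K₁ : Subgroup (↥(centralizer ({y} : Set G)) ⧸ pPrimeCore p ↥(centralizer ({y} : Set G)))}
    (hK : IsComponent K₁) : p ∣ Nat.card K₁ :=
  dvd_card_component Core.pPrimeCore_quotient_eq_bot hK

theorem not_coprime_of_comp_le [Finite G] [hp : Fact p.Prime] {y : G}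
    {K₁ N : Subgroup (↥(centralizer ({y} : Set G)) ⧸ pPrimeCore p ↥(centralizer ({y} : Set G)))}
    (hK : IsComponent K₁) (h : K₁ ≤ N) (hN : (Nat.card N).Coprime p) : False :=
  hp.out.not_dvd_one (hN.symm.eq_one_of_dvd ((dvd_card_localComp hK).trans (card_dvd_of_le h)) ▸ dvd_rfl)

/-- The elements of `R` fixing the component `K₁` of `C(y)/O_{p'}(C(y))`. -/
def fixer (p : ℕ) (y : G)
    (K₁ : Subgroup (↥(centralizer ({y} : Set G)) ⧸ pPrimeCore p ↥(centralizer ({y} : Set G))))
    (R : Subgroup G) : Subgroup G :=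
  R ⊓ ((normalizer (K₁ : Set (↥(centralizer ({y} : Set G)) ⧸ pPrimeCore p ↥(centralizer ({y} : Set G))))).comap
    (QuotientGroup.mk' (pPrimeCore p ↥(centralizer ({y} : Set G))))).map (centralizer ({y} : Set G)).subtype

/-- A moved pumping. -/
def IsBadTarget (p n : ℕ) (x : G) (K : Subgroup G) (y : G) (hxy : Commute x y)
    (K₁ : Subgroup (↥(centralizer ({y} : Set G)) ⧸ pPrimeCore p ↥(centralizer ({y} : Set G)))) : Prop :=
  IsPumpTarget p n x K y hxy K₁ ∧ localX p x y hxy ∉ normalizer (K₁ : Set _)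

variable {n : ℕ} {x y : G} {K T R : Subgroup G}
  {K₁ : Subgroup (↥(centralizer ({y} : Set G)) ⧸ pPrimeCore p ↥(centralizer ({y} : Set G)))}

theorem exists_badTarget [Finite G] [Fact p.Prime] (hc : TopContext p G n) (hT : IsTriple p n x K T)
    (hyT : y ∈ T) (hy : orderOf y = p) (hbad : ¬ IsGood p x K y) :
    ∃ K₁, IsBadTarget p n x K y (hT.commute hyT) K₁ ∧ Nonempty (↥K₁ ≃* (↥K ⧸ pPrimeCore p ↥K)) := by
  obtain ⟨K₁, h1, h2, h3⟩ := exists_pumpTarget hc hT hyT hy
  exact ⟨K₁, ⟨h1, fun h => hbad (h3.mpr h)⟩, h2⟩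

theorem localX_pow [Finite G] (hxy : Commute x y) (hx : orderOf x = p) :
    localX p x y hxy ^ p = 1 := by
  have h0 : (⟨x, mem_centralizer_singleton_iff.mpr hxy.eq⟩ : ↥(centralizer ({y} : Set G))) ^ p = 1 :=
    Subtype.ext (by simpa using hx ▸ pow_orderOf_eq_one x)
  rw [localX, localElt, ← map_pow, h0, map_one]

theorem localElt_commute_localX {hxy : Commute x y} {g : G} (hg : g ∈ centralizer ({y} : Set G))
    (hgx : Commute x g) :
    localElt p y ⟨g, hg⟩ * localX p x y hxy = localX p x y hxy * localElt p y ⟨g, hg⟩ := by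
  rw [localX, localElt, localElt, ← map_mul, ← map_mul]
  exact congrArg _ (Subtype.ext hgx.eq.symm)

/-- The image of `L_{p'}(C_K(R))` does not depend on `R`. -/
theorem localImage_coreComp_eq [Finite G] [Fact p.Prime] (hT : IsTriple p n x K T)
    {hxy : Commute x y} (hK₁ : IsPumpTarget p n x K y hxy K₁) (hR : R ≤ T) (hxR : x ∈ R) (hyR : y ∈ R) :
    localImage p y (coreComp p K R) = localImage p y (coreComp p K (zpowers x ⊔ zpowers y)) := by
  obtain ⟨hx, hK, hn⟩ := hT.1
  have hRp := hT.2.1.to_le hR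
  have hRK := hT.actsTrivially hR
  obtain ⟨-, -, hKp⟩ := isPComponentOf_iff.mp hK
  obtain ⟨hLp, -, ⟨eL⟩, -⟩ := coreComp_spec hRp hKp hRK
  have hly : coreComp p K R ≤ centralizer ({y} : Set G) :=
    (coreComp_le_centralizer K R).trans (centralizer_le (Set.singleton_subset_iff.mpr hyR))
  have hle := localImage_mono (p := p) (y := y)
    (coreComp_anti (p := p) K (sup_le (zpowers_le.mpr hxR) (zpowers_le.mpr hyR)))
  refine eq_of_le_of_card_ge hle ?_
  have h1 := (localImage_spec hly hLp).2.1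
  have h2 : compOrder p (coreComp p K R) = compOrder p K := Nat.card_congr eL.toEquiv
  have h3 := hK₁.2.2.2
  omega

theorem localElt_centralizes_L [Finite G] [Fact p.Prime] (hT : IsTriple p n x K T)
    {hxy : Commute x y} (hK₁ : IsPumpTarget p n x K y hxy K₁) (hR : R ≤ T) (hxR : x ∈ R) (hyR : y ∈ R)
    {g : G} (hgR : g ∈ R) (hg : g ∈ centralizer ({y} : Set G)) :
    localElt p y ⟨g, hg⟩ ∈
      centralizer ((localImage p y (coreComp p K (zpowers x ⊔ zpowers y)) : Subgroup _) : Set _) := by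
  rw [← localImage_coreComp_eq hT hK₁ hR hxR hyR]
  exact localImage_centralizes hg (mem_centralizer_iff.mpr fun l hl =>
    (mem_centralizer_iff.mp ((coreComp_le_centralizer K R) hl) g hgR).symm)

theorem fixer_le_centralizer (R : Subgroup G) : fixer p y K₁ R ≤ centralizer ({y} : Set G) :=
  fun _ hg => (map_subtype_le _) (mem_inf.mp (show _ ∈ R ⊓ _ from hg)).2

theorem mem_fixer {g : G} (hgR : g ∈ R) (hg : g ∈ centralizer ({y} : Set G))
    (h : localElt p y ⟨g, hg⟩ ∈ normalizer (K₁ : Set _)) : g ∈ fixer p y K₁ R :=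
  mem_inf.mpr ⟨hgR, ⟨⟨g, hg⟩, h, rfl⟩⟩

theorem fixer_centralizes [Finite G] [Fact p.Prime] (hT : IsTriple p n x K T)
    {hxy : Commute x y} (hK₁ : IsPumpTarget p n x K y hxy K₁) (hR : R ≤ T) (hxR : x ∈ R) (hyR : y ∈ R)
    {g : G} (hgF : g ∈ fixer p y K₁ R) (hg : g ∈ centralizer ({y} : Set G)) :
    localElt p y ⟨g, hg⟩ ∈
      centralizer ((sSup (conjOrbit p (localX p x y hxy) K₁) : Subgroup _) : Set _) := by
  obtain ⟨hgR, ⟨g', hg', hgg⟩⟩ := hgF
  have e : g' = ⟨g, hg⟩ := Subtype.ext hgg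
  subst e
  exact hK₁.1.centralizes_orbit (hK₁.2.2.1.trans hK₁.2.2.2.symm).le
    (localElt_commute_localX hg (hT.commute (hR hgR)))
    (localElt_centralizes_L hT hK₁ hR hxR hyR hgR hg) hg'

theorem self_mem_fixer [Finite G] (hyR : y ∈ R) : y ∈ fixer p y K₁ R := by
  refine mem_fixer hyR (mem_centralizer_singleton_iff.mpr rfl) (mem_normalizer_of_conj_mem ?_)
  intro a ha
  obtain ⟨c, rfl⟩ := QuotientGroup.mk'_surjective _ a
  have hc : (⟨y, mem_centralizer_singleton_iff.mpr rfl⟩ : ↥(centralizer ({y} : Set G))) * c =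
      c * ⟨y, mem_centralizer_singleton_iff.mpr rfl⟩ :=
    Subtype.ext (mem_centralizer_singleton_iff.mp c.2).symm
  rw [localElt, ← map_inv, ← map_mul, ← map_mul, hc, mul_inv_cancel_right]
  exact ha

theorem exists_fixer_mul [Finite G] [hp : Fact p.Prime] (hT : IsTriple p n x K T)
    {hxy : Commute x y} (hK₁ : IsPumpTarget p n x K y hxy K₁) (hR : R ≤ T) (hxR : x ∈ R) (hyR : y ∈ R)
    (hRy : R ≤ centralizer ({y} : Set G)) {g : G} (hgR : g ∈ R) :
    ∃ i : ℕ, (x ^ i)⁻¹ * g ∈ fixer p y K₁ R := by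
  have hg := hRy hgR
  have hcard := (hK₁.2.2.1.trans hK₁.2.2.2.symm).le
  obtain ⟨i, -, hi⟩ := hK₁.1.map_conj_mem hK₁.2.1 hcard (localElt_centralizes_L hT hK₁ hR hxR hyR hgR hg)
    (mem_conjOrbit_self _ K₁)
  refine ⟨i, mem_fixer (mul_mem (inv_mem (pow_mem hxR i)) hgR)
    (mul_mem (inv_mem (pow_mem (hRy hxR) i)) hg) ?_⟩
  have e : localElt p y (⟨(x ^ i)⁻¹ * g, mul_mem (inv_mem (pow_mem (hRy hxR) i)) hg⟩ : ↥(centralizer ({y} : Set G))) =
      (localX p x y hxy ^ i)⁻¹ * localElt p y ⟨g, hg⟩ := by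
    rw [localX, localElt, localElt, localElt, ← map_pow, ← map_inv, ← map_mul]
    rfl
  rw [e, ← map_conj_zpow_fix, ← map_conj_map_conj, hi, map_conj_map_conj, inv_mul_cancel, map_conj_one]

theorem card_le_fixer [Finite G] [hp : Fact p.Prime] (hT : IsTriple p n x K T)
    {hxy : Commute x y} (hK₁ : IsPumpTarget p n x K y hxy K₁) (hR : R ≤ T) (hxR : x ∈ R) (hyR : y ∈ R)
    (hRy : R ≤ centralizer ({y} : Set G)) : Nat.card R ≤ p * Nat.card (fixer p y K₁ R) := by
  set F := fixer p y K₁ R with hF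
  have hle : R ≤ F ⊔ zpowers x := by
    intro g hg
    obtain ⟨i, hi⟩ := exists_fixer_mul hT hK₁ hR hxR hyR hRy hg
    rw [← mul_inv_cancel_left (x ^ i) g]
    exact mul_mem (mem_sup_right (pow_mem (mem_zpowers x) i)) (mem_sup_left hi)
  have hn : zpowers x ≤ normalizer (F : Set G) := by
    refine zpowers_le.mpr (centralizer_le_normalizer _ (mem_centralizer_iff.mpr fun g hg => ?_))
    exact (hT.commute (hR (hg : _ ∈ fixer p y K₁ R).1)).eq.symm
  have h1 := Nat.le_of_dvd Nat.card_pos (card_dvd_of_le hle)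
  have h2 := Nat.le_of_dvd (Nat.mul_pos Nat.card_pos Nat.card_pos) (sup_comm (zpowers x) F ▸ card_sup_dvd_of_le_normalizer (M := zpowers x) (N := F) hn)
  rw [Nat.card_zpowers, hT.1.1] at h2
  calc Nat.card R ≤ _ := h1
    _ ≤ _ := h2
    _ ≤ _ := le_of_eq (by ring)

theorem le_normalizer_fixer [Finite G] [hp : Fact p.Prime] (hT : IsTriple p n x K T)
    {hxy : Commute x y} (hK₁ : IsPumpTarget p n x K y hxy K₁) (hR : R ≤ T) (hxR : x ∈ R) (hyR : y ∈ R)
    (hRy : R ≤ centralizer ({y} : Set G)) : R ≤ normalizer (fixer p y K₁ R : Set G) := by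
  intro g hg
  obtain ⟨i, hi⟩ := exists_fixer_mul hT hK₁ hR hxR hyR hRy hg
  rw [← mul_inv_cancel_left (x ^ i) g]
  refine mul_mem (pow_mem (centralizer_le_normalizer _ (mem_centralizer_iff.mpr fun f hf => ?_)) i)
    (le_normalizer hi)
  exact (hT.commute (hR (hf : _ ∈ fixer p y K₁ R).1)).eq.symm

/-- The `p`-component of `C(P)` over a member of the orbit. -/
theorem member_coreComp [Finite G] [Fact p.Prime] (hc : TopContext p G n) (hy : orderOf y = p)
    {K₂ : Subgroup (↥(centralizer ({y} : Set G)) ⧸ pPrimeCore p ↥(centralizer ({y} : Set G)))}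
    (hK₂ : IsComponent K₂) (hcard : Nat.card K₂ = n) {P : Subgroup G} (hP : IsPGroup p ↥P) (hyP : y ∈ P)
    (hPy : P ≤ centralizer ({y} : Set G))
    (hPK : ∀ g (hg : g ∈ P), localElt p y ⟨g, hPy hg⟩ ∈ centralizer (K₂ : Set _)) :
    IsTriple p n y (localPComp p y K₂) P ∧
      IsPCompGroup p ↥(coreComp p (localPComp p y K₂) P) ∧
      IsPComponentOf p (coreComp p (localPComp p y K₂) P) (centralizer (P : Set G)) ∧
      localImage p y (coreComp p (localPComp p y K₂) P) = K₂ ∧
      n ≤ compOrder p (coreComp p (localPComp p y K₂) P) := by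
  obtain ⟨hJ, hJi⟩ := localPComp_spec (p := p) hK₂
  obtain ⟨hJC, hJsn, hJp⟩ := isPComponentOf_iff.mp hJ
  have hJn : compOrder p (localPComp p y K₂) = n := by rw [compOrder_pComponentOf hJ, hJi, hcard]
  have hD : P ≤ centralizerOfPComponent p y (localPComp p y K₂) := fun g hg =>
    ⟨⟨g, hPy hg⟩, show localElt p y ⟨g, hPy hg⟩ ∈ centralizer ((localImage p y (localPComp p y K₂) :
      Subgroup _) : Set _) by rw [hJi]; exact hPK g hg, rfl⟩
  have hTr : IsTriple p n y (localPComp p y K₂) P := ⟨⟨hy, hJ, hJn.ge⟩, hP, hyP, hD⟩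
  have hPJ := hTr.actsTrivially le_rfl
  obtain ⟨hMp, -, ⟨eM⟩, -⟩ := coreComp_spec hP hJp hPJ
  have hMn : compOrder p (coreComp p (localPComp p y K₂) P) = n :=
    (Nat.card_congr eM.toEquiv).trans hJn
  refine ⟨hTr, hMp, isPComponentOf_iff.mpr ⟨coreComp_le_centralizer _ _,
    coreComp_subnormal hyP hJC hJsn, hMp⟩, ?_, hMn.ge⟩
  have hle := localImage_mono (p := p) (y := y) (coreComp_le (p := p) (localPComp p y K₂) P)
  rw [hJi] at hle
  refine eq_of_le_of_card_ge hle ?_
  have h1 := (localImage_spec ((coreComp_le_centralizer (p := p) _ P).trans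
    (centralizer_le (Set.singleton_subset_iff.mpr hyP))) hMp).2.1
  omega

theorem two_members [hp : Fact p.Prime] {hxy : Commute x y} (h : IsBadTarget p n x K y hxy K₁) :
    ∃ A B, A ∈ conjOrbit p (localX p x y hxy) K₁ ∧ B ∈ conjOrbit p (localX p x y hxy) K₁ ∧ A ≠ B ∧
      IsComponent A ∧ IsComponent B ∧ Nat.card A = n ∧ Nat.card B = n := by
  have hm : K₁.map (MulAut.conj (localX p x y hxy)).toMonoidHom ∈ conjOrbit p (localX p x y hxy) K₁ :=
    ⟨1, hp.out.one_lt, by rw [pow_one]⟩
  refine ⟨K₁, _, mem_conjOrbit_self _ _, hm, fun he => h.2 (map_conj_zpow_fix.mp he.symm), h.1.1.1,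
    isComponent_conjOrbit h.1.1.1 _ hm, h.1.2.2.1, ?_⟩
  rw [card_map_conj]
  exact h.1.2.2.1

/-- A good element commuting with a bad one does not fix the components of the latter. -/
theorem not_fixer_of_good [Finite G] [hp : Fact p.Prime] (hc : TopContext p G n)
    (hT : IsTriple p n x K T) (hyT : y ∈ T) (hy : orderOf y = p)
    (hK₁ : IsBadTarget p n x K y (hT.commute hyT) K₁)
    {z : G} (hzT : z ∈ T) (hz : orderOf z = p) (hgood : IsGood p x K z)
    (hzF : z ∈ fixer p y K₁ T) : False := by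
  obtain ⟨hx, hK, hn⟩ := hT.1
  obtain ⟨hKC, hKsn, hKp⟩ := isPComponentOf_iff.mp hK
  have hzy : z ∈ centralizer ({y} : Set G) := fixer_le_centralizer T hzF
  have hyz : y ∈ centralizer ({z} : Set G) :=
    mem_centralizer_singleton_iff.mpr (mem_centralizer_singleton_iff.mp hzy).symm
  set S := zpowers x ⊔ zpowers y ⊔ zpowers z with hS
  have hxS : x ∈ S := mem_sup_left (mem_sup_left (mem_zpowers x))
  have hyS : y ∈ S := mem_sup_left (mem_sup_right (mem_zpowers y))
  have hzS : z ∈ S := mem_sup_right (mem_zpowers z)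
  have hST : S ≤ T := sup_le (sup_le (zpowers_le.mpr hT.2.2.1) (zpowers_le.mpr hyT)) (zpowers_le.mpr hzT)
  have hxy' : x ∈ centralizer ({y} : Set G) := mem_centralizer_singleton_iff.mpr (hT.commute hyT).eq
  have hxz' : x ∈ centralizer ({z} : Set G) := mem_centralizer_singleton_iff.mpr (hT.commute hzT).eq
  have hSy : S ≤ centralizer ({y} : Set G) := sup_le (sup_le (zpowers_le.mpr hxy')
    (zpowers_le.mpr (mem_centralizer_singleton_iff.mpr rfl))) (zpowers_le.mpr hzy)
  have hSz : S ≤ centralizer ({z} : Set G) := sup_le (sup_le (zpowers_le.mpr hxz')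
    (zpowers_le.mpr hyz)) (zpowers_le.mpr (mem_centralizer_singleton_iff.mpr rfl))
  obtain ⟨J, hJ, hLJ⟩ := hgood
  obtain ⟨hTz, hJi, -, -⟩ := good_spec hc hT hST hxS hzS hz hSz hJ hLJ
  set P := zpowers y ⊔ zpowers z with hP
  have hPS : P ≤ S := sup_le (zpowers_le.mpr hyS) (zpowers_le.mpr hzS)
  have hPp : IsPGroup p ↥P := hT.2.1.to_le (hPS.trans hST)
  obtain ⟨hJC, hJsn, hJp⟩ := isPComponentOf_iff.mp hJ
  have hPJ := hTz.actsTrivially hPS
  set M := coreComp p J P with hM
  obtain ⟨hMp, -, -, -⟩ := coreComp_spec hPp hJp hPJ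
  have hMC : IsPComponentOf p M (centralizer (P : Set G)) := isPComponentOf_iff.mpr
    ⟨coreComp_le_centralizer _ _, coreComp_subnormal (mem_sup_right (mem_zpowers z)) hJC hJsn, hMp⟩
  set L := coreComp p K S with hL
  obtain ⟨hLp, -, -, -⟩ := coreComp_spec (hT.2.1.to_le hST) hKp (hT.actsTrivially hST)
  have hLM : L ≤ M := by
    rw [← (pElemClosure_top_eq_top_iff L).mp hLp.1]
    refine pElemClosure_mono (le_inf ?_ ((coreComp_le_centralizer K S).trans (centralizer_le hPS)))
    exact (coreComp_anti K (sup_le (zpowers_le.mpr hxS) (zpowers_le.mpr hzS))).trans hLJ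
  obtain ⟨A, B, hA, hB, hAB, hAc, hBc, hAn, hBn⟩ := two_members hK₁
  have hPy : P ≤ centralizer ({y} : Set G) := hPS.trans hSy
  have hcen : ∀ E ∈ conjOrbit p (localX p x y (hT.commute hyT)) K₁, ∀ g (hg : g ∈ P),
      localElt p y ⟨g, hPy hg⟩ ∈ centralizer (E : Set _) := by
    intro E hE g hg
    refine centralizer_le (SetLike.coe_subset_coe.mpr (le_sSup hE)) (fixer_centralizes hT hK₁.1 le_rfl hT.2.2.1 hyT ?_ _)
    exact (sup_le (zpowers_le.mpr (self_mem_fixer hyT)) (zpowers_le.mpr hzF) : P ≤ fixer p y K₁ T) hg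
  have hyP : y ∈ P := mem_sup_left (mem_zpowers y)
  have key : ∀ E ∈ conjOrbit p (localX p x y (hT.commute hyT)) K₁, IsComponent E → Nat.card E = n →
      M = coreComp p (localPComp p y E) P := by
    intro E hE hEc hEn
    obtain ⟨-, -, hMi, hMim, -⟩ := member_coreComp hc hy hEc hEn hPp hyP hPy (hcen E hE)
    by_contra hne
    have hle := (commutator_mono hLM le_rfl).trans (commutator_compsOf_le hMC hMi hne)
    have hW : (Nat.card ((pPrimeCore p ↥(centralizer (P : Set G))).map
        (centralizer (P : Set G)).subtype)).Coprime p := by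
      rw [card_map_of_injective (Subgroup.subtype_injective _)]
      exact Core.coprime_card_pPrimeCore
    have hcop := coprime_card_commutator_image (y := y)
      ((coreComp_le_centralizer K S).trans (centralizer_le (Set.singleton_subset_iff.mpr hyS)))
      ((coreComp_le_centralizer (p := p) _ P).trans (centralizer_le (Set.singleton_subset_iff.mpr hyP)))
      hW hle
    rw [hMim, localImage_coreComp_eq hT hK₁.1 hST hxS hyS] at hcop
    exact not_coprime_of_comp_le hEc
      (hK₁.1.1.le_commutator hK₁.1.2.1 (hK₁.1.2.2.1.trans hK₁.1.2.2.2.symm).le hE) hcop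
  refine hAB ?_
  obtain ⟨-, -, -, hA', -⟩ := member_coreComp hc hy hAc hAn hPp hyP hPy (hcen A hA)
  obtain ⟨-, -, -, hB', -⟩ := member_coreComp hc hy hBc hBn hPp hyP hPy (hcen B hB)
  rw [← hA', ← hB', ← key A hA hAc hAn, ← key B hB hBc hBn]

/-- Two commuting bad elements, one fixing the components of the other, have the same fixer. -/
theorem fixer_le_fixer [Finite G] [hp : Fact p.Prime] (hc : TopContext p G n)
    (hT : IsTriple p n x K T) (hyT : y ∈ T) (hy : orderOf y = p)
    (hK₁ : IsBadTarget p n x K y (hT.commute hyT) K₁)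
    {w : G} (hwT : w ∈ T) (hw : orderOf w = p)
    {K₂ : Subgroup (↥(centralizer ({w} : Set G)) ⧸ pPrimeCore p ↥(centralizer ({w} : Set G)))}
    (hK₂ : IsBadTarget p n x K w (hT.commute hwT) K₂)
    (hR : R ≤ T) (hxR : x ∈ R) (hyR : y ∈ R) (hwR : w ∈ R)
    (hRy : R ≤ centralizer ({y} : Set G)) (hRw : R ≤ centralizer ({w} : Set G))
    (hwF : w ∈ fixer p y K₁ R) : fixer p y K₁ R ≤ fixer p w K₂ R := by
  obtain ⟨hx, hK, hn⟩ := hT.1
  obtain ⟨hKC, hKsn, hKp⟩ := isPComponentOf_iff.mp hK
  set H := fixer p y K₁ R with hH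
  have hHR : H ≤ R := inf_le_left
  have hHp : IsPGroup p ↥H := hT.2.1.to_le (hHR.trans hR)
  have hyH : y ∈ H := self_mem_fixer hyR
  have hHy : H ≤ centralizer ({y} : Set G) := fixer_le_centralizer R
  set P := zpowers y ⊔ zpowers w with hP
  have hPH : P ≤ H := sup_le (zpowers_le.mpr hyH) (zpowers_le.mpr hwF)
  have hPp : IsPGroup p ↥P := hHp.to_le hPH
  have hPy : P ≤ centralizer ({y} : Set G) := hPH.trans hHy
  have hwy : Commute y w :=
    (mem_centralizer_singleton_iff.mp (hRy hwR)).symm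
  have hxw := hT.commute hwT
  set xb := localX p x w hxw with hxb
  set yb := localX p y w hwy with hyb
  have hxbp : xb ^ p = 1 := localX_pow hxw hx
  have hybp : yb ^ p = 1 := localX_pow hwy hy
  have hcard₂ := (hK₂.1.2.2.1.trans hK₂.1.2.2.2.symm).le
  have hRz : ∀ g (hg : g ∈ R), localElt p w ⟨g, hRw hg⟩ ∈ centralizer
      ((localImage p w (coreComp p K (zpowers x ⊔ zpowers w)) : Subgroup _) : Set _) := fun g hg =>
    localElt_centralizes_L hT hK₂.1 hR hxR hwR hg (hRw hg)
  have hybc : yb ∈ centralizer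
      ((localImage p w (coreComp p K (zpowers x ⊔ zpowers w)) : Subgroup _) : Set _) := hRz y hyR
  have hcenH : ∀ E ∈ conjOrbit p (localX p x y (hT.commute hyT)) K₁, ∀ g (hg : g ∈ H),
      localElt p y ⟨g, hHy hg⟩ ∈ centralizer (E : Set _) := fun E hE g hg =>
    centralizer_le (SetLike.coe_subset_coe.mpr (le_sSup hE)) (fixer_centralizes hT hK₁.1 hR hxR hyR hg _)
  -- for each member, the pumping of its `C(⟨y,w⟩)`-component in `C(w)`
  have key : ∀ E ∈ conjOrbit p (localX p x y (hT.commute hyT)) K₁, IsComponent E → Nat.card E = n →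
      ∃ K', IsPumpUp p yb (localImage p w (coreComp p (localPComp p y E) P)) K' ∧
        localImage p w (coreComp p (localPComp p y E) P) ≤ centralizer ({yb} : Set _) ∧
        IsPCompGroup p ↥(localImage p w (coreComp p (localPComp p y E) P)) ∧
        Nat.card K' ≤ Nat.card (localImage p w (coreComp p (localPComp p y E) P)) ∧
        (∀ M ∈ conjOrbit p yb K', M ∈ conjOrbit p xb K₂) ∧
        (yb ∈ normalizer (K' : Set _) → H ≤ fixer p w K₂ R) := by
    intro E hE hEc hEn
    obtain ⟨-, hMp, hMC, hMim, hMn⟩ := member_coreComp hc hy hEc hEn hPp (mem_sup_left (mem_zpowers y)) hPy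
      fun g hg => hcenH E hE g (hPH hg)
    set M := coreComp p (localPComp p y E) P with hM
    obtain ⟨hMle, hMsn, -⟩ := isPComponentOf_iff.mp hMC
    have hle2 : M ≤ centralizer ({y} : Set G) ⊓ centralizer ({w} : Set G) :=
      hMle.trans (centralizer_pair y w).le
    obtain ⟨hMx, K', hK'⟩ := exists_pumpUp_local hy hwy (hc.schreier w hw) hle2
      (centralizer_pair y w ▸ hMsn) hMp
    obtain ⟨hMb, hge, -⟩ := localImage_spec (hle2.trans inf_le_right) hMp
    have hK'n : Nat.card K' ≤ n := by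
      obtain ⟨hJ', hJ'i⟩ := localPComp_spec (p := p) hK'.1
      have := hc.bound w _ hw hJ'
      rwa [compOrder_pComponentOf hJ', hJ'i] at this
    have hcard' : Nat.card K' ≤ Nat.card (localImage p w M) := hK'n.trans (hMn.trans hge)
    -- some member of the orbit is not centralised by `L`
    have hmeet : ∃ N ∈ conjOrbit p yb K', N ∈ conjOrbit p xb K₂ := by
      by_contra hno
      push Not at hno
      have hcen : localImage p w M ≤ centralizer
          ((localImage p w (coreComp p K (zpowers x ⊔ zpowers w)) : Subgroup _) : Set _) := by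
        refine hK'.2.1.trans (sSup_le fun N hN => le_centralizer_iff.mp ?_)
        by_contra hnc
        exact hno N hN (hK₂.1.1.2.2.1 N (isComponent_conjOrbit hK'.1 N hN) hnc)
      rw [← localImage_coreComp_eq hT hK₂.1 hR hxR hwR, ← commutator_eq_bot_iff_le_centralizer] at hcen
      set L := coreComp p K R with hL
      have hLy : L ≤ centralizer ({y} : Set G) :=
        (coreComp_le_centralizer K R).trans (centralizer_le (Set.singleton_subset_iff.mpr hyR))
      have hLw : L ≤ centralizer ({w} : Set G) :=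
        (coreComp_le_centralizer K R).trans (centralizer_le (Set.singleton_subset_iff.mpr hwR))
      have hle : ⁅L, M⁆ ≤ (pPrimeCore p ↥(centralizer ({w} : Set G))).map (centralizer ({w} : Set G)).subtype := by
        rw [localImage, localImage, ← map_commutator, Subgroup.map_eq_bot_iff, QuotientGroup.ker_mk'] at hcen
        have := map_mono (f := (centralizer ({w} : Set G)).subtype) hcen
        rw [map_commutator, map_subgroupOf_eq_of_le (hle2.trans inf_le_right),
          map_subgroupOf_eq_of_le hLw, Subgroup.commutator_comm] at this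
        exact this
      have hW : (Nat.card ((pPrimeCore p ↥(centralizer ({w} : Set G))).map (centralizer ({w} : Set G)).subtype)).Coprime p := by
        rw [card_map_of_injective (Subgroup.subtype_injective _)]
        exact Core.coprime_card_pPrimeCore
      have hcop := coprime_card_commutator_image (y := y) hLy (hle2.trans inf_le_left) hW hle
      rw [hMim, hL, localImage_coreComp_eq hT hK₁.1 hR hxR hyR] at hcop
      exact not_coprime_of_comp_le hEc
        (hK₁.1.1.le_commutator hK₁.1.2.1 (hK₁.1.2.2.1.trans hK₁.1.2.2.2.symm).le hE) hcop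
    obtain ⟨N, hN, hNS⟩ := hmeet
    have hall : ∀ N' ∈ conjOrbit p yb K', N' ∈ conjOrbit p xb K₂ := by
      intro N' hN'
      rw [← conjOrbit_eq_of_mem hybp hN] at hN'
      obtain ⟨i, -, rfl⟩ := hN'
      exact hK₂.1.1.map_conj_mem hK₂.1.2.1 hcard₂ (pow_mem hybc i) hNS
    refine ⟨K', hK', hMx, hMb, hcard', hall, fun hfix g hg => ?_⟩
    have hgR := hHR hg
    refine mem_fixer hgR (hRw hgR) ?_
    obtain ⟨-, hHMp, -, -, hHMn⟩ := member_coreComp hc hy hEc hEn hHp hyH hHy (hcenH E hE)
    set MH := coreComp p (localPComp p y E) H with hMH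
    have hMHw : MH ≤ centralizer ({w} : Set G) :=
      (coreComp_le_centralizer _ H).trans (centralizer_le (Set.singleton_subset_iff.mpr hwF))
    obtain ⟨-, hgeH, -⟩ := localImage_spec hMHw hHMp
    have hK'eq : localImage p w M = K' := by
      rcases (hK'.eq_of_card hcard').2 with ⟨-, h⟩ | ⟨hm, -⟩
      · exact h
      · exact absurd hfix hm
    have hMHeq : localImage p w MH = K' := by
      refine eq_of_le_of_card_ge (hK'eq ▸ localImage_mono (coreComp_anti _ hPH)) ?_
      omega
    have hgK' : localElt p w ⟨g, hRw hgR⟩ ∈ normalizer (K' : Set _) :=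
      centralizer_le_normalizer _ (hMHeq ▸ localImage_centralizes (hRw hgR)
        (mem_centralizer_iff.mpr fun l hl =>
          (mem_centralizer_iff.mp ((coreComp_le_centralizer _ H) hl) g hg).symm))
    obtain ⟨i, -, hi⟩ := hall K' (mem_conjOrbit_self _ _)
    rw [hi] at hgK'
    have hcx : Commute (localElt p w ⟨g, hRw hgR⟩) (xb ^ i) :=
      Commute.pow_right (localElt_commute_localX (hxy := hxw) (hRw hgR) (hT.commute (hR hgR))) i
    have h1 := map_conj_zpow_fix.mpr hgK'
    rw [map_conj_map_conj, hcx.eq, ← map_conj_map_conj] at h1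
    exact map_conj_zpow_fix.mp (map_conj_inj h1)
  obtain ⟨A, B, hA, hB, hAB, hAc, hBc, hAn, hBn⟩ := two_members hK₁
  obtain ⟨KA, hKA, hAx, hAp, hAcard, hAall, hAfix⟩ := key A hA hAc hAn
  obtain ⟨KB, hKB, hBx, hBp, hBcard, hBall, -⟩ := key B hB hBc hBn
  by_cases hfA : yb ∈ normalizer (KA : Set _)
  · exact hAfix hfA
  exfalso
  -- both orbits coincide
  have hKBA : KB ∈ conjOrbit p yb KA := by
    have hxyc : Commute xb yb :=
      (localElt_commute_localX (hxy := hxw) (hRw hyR) (hT.commute hyT)).symm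
    have hKAx : conjOrbit p xb KA = conjOrbit p xb K₂ :=
      conjOrbit_eq_of_mem hxbp (hAall KA (mem_conjOrbit_self _ _))
    obtain ⟨i, hi, hyi⟩ := hKAx.symm.le (hAall _ (mem_conjOrbit_pow hybp 1))
    obtain ⟨a, ha, hBa⟩ := hKAx.symm.le (hBall KB (mem_conjOrbit_self _ _))
    rw [pow_one] at hyi
    have hi0 : 0 < i := by
      refine Nat.pos_of_ne_zero fun h0 => hfA ?_
      rw [h0, pow_zero, map_conj_one] at hyi
      exact map_conj_zpow_fix.mp hyi
    have hind : ∀ m : ℕ, KA.map (MulAut.conj (yb ^ m)).toMonoidHom =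
        KA.map (MulAut.conj (xb ^ (i * m))).toMonoidHom := by
      intro m
      induction m with
      | zero => simp
      | succ m ih =>
        rw [pow_succ', ← map_conj_map_conj, ih, map_conj_map_conj,
          ← (Commute.pow_left hxyc (i * m)).eq, ← map_conj_map_conj, hyi, map_conj_map_conj, ← pow_add,
          Nat.mul_succ]
    obtain ⟨m, hm⟩ := Nat.exists_mul_mod_eq_gcd (n := i) (k := p) (by
      rw [(Nat.coprime_of_lt_prime hi0.ne' hi hp.out).symm.gcd_eq_one]; exact hp.out.one_lt)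
    rw [(Nat.coprime_of_lt_prime hi0.ne' hi hp.out).symm.gcd_eq_one] at hm
    rw [hBa, show KA.map (MulAut.conj (xb ^ a)).toMonoidHom =
      KA.map (MulAut.conj (xb ^ (i * (m * a)))).toMonoidHom from ?_, ← hind]
    · exact mem_conjOrbit_pow hybp _
    · congr 3
      rw [← mul_assoc, ← Nat.mod_add_div (i * m) p, hm.2, add_mul, one_mul, pow_add, mul_assoc, pow_mul xb p,
        hxbp, one_pow, mul_one]
  have heq := hKA.eq_of_orbit hybp hKB hAcard hBcard hBx (pCompGroup_subgroup_perfect hBp) hKBA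
  obtain ⟨-, -, hMA, hMAim, -⟩ := member_coreComp hc hy hAc hAn hPp (mem_sup_left (mem_zpowers y)) hPy
    fun g hg => hcenH A hA g (hPH hg)
  obtain ⟨-, -, hMB, hMBim, -⟩ := member_coreComp hc hy hBc hBn hPp (mem_sup_left (mem_zpowers y)) hPy
    fun g hg => hcenH B hB g (hPH hg)
  have hne : coreComp p (localPComp p y A) P ≠ coreComp p (localPComp p y B) P := fun h =>
    hAB (by rw [← hMAim, h, hMBim])
  have hW : (Nat.card ((pPrimeCore p ↥(centralizer (P : Set G))).map
      (centralizer (P : Set G)).subtype)).Coprime p := by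
    rw [card_map_of_injective (Subgroup.subtype_injective _)]
    exact Core.coprime_card_pPrimeCore
  have hwP : w ∈ P := mem_sup_right (mem_zpowers w)
  have hcop := coprime_card_commutator_image (y := w)
    ((coreComp_le_centralizer (p := p) _ P).trans (centralizer_le (Set.singleton_subset_iff.mpr hwP)))
    ((coreComp_le_centralizer (p := p) _ P).trans (centralizer_le (Set.singleton_subset_iff.mpr hwP)))
    hW (commutator_compsOf_le hMA hMB hne)
  rw [← heq, pCompGroup_subgroup_perfect hAp] at hcop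
  haveI := qs_nontrivial hAp.2
  refine (nontrivial_iff_ne_bot _).mp (QuotientGroup.mk'_surjective
    (pPrimeCore p ↥(localImage p w (coreComp p (localPComp p y A) P)))).nontrivial ?_
  have := eq_bot_of_pCompGroup_coprime hAp (f := MonoidHom.id _) (by rw [Subgroup.map_id]) hcop
  rwa [Subgroup.map_id] at this

end Cfsg.Agent.Layer
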