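import Cfsg.Agent.Layer.CoreComp

/-!
Pairs `(x, K)` with `K` of largest possible `|K / O_{p'}(K)|` and their pumping up.
-/

set_option autoImplicit false
set_option linter.style.haveILetI false

namespace Cfsg.Agent.Layer

open Subgroup Cfsg
open scoped commutatorElement

universe u

variable {G : Type u} [Group G] {p : ℕ}

/-- The standing hypotheses: the Schreier property and `n` bounds `|J / O_{p'}(J)|`. -/
structure TopContext (p : ℕ) (G : Type u) [Group G] (n : ℕ) : Prop where
  schreier : ∀ y : G, orderOf y = p →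
    ∀ K : Subgroup (↥(centralizer ({y} : Set G)) ⧸ pPrimeCore p ↥(centralizer ({y} : Set G))),
      IsComponent K → Group.IsSolvable (Out (↥K ⧸ center ↥K))
  bound : ∀ (y : G) (J : Subgroup G), orderOf y = p →
    IsPComponentOf p J (centralizer ({y} : Set G)) → compOrder p J ≤ n

/-- A pair attaining the bound. -/
def IsTopPair (p n : ℕ) (x : G) (K : Subgroup G) : Prop :=
  orderOf x = p ∧ IsPComponentOf p K (centralizer ({x} : Set G)) ∧ n ≤ compOrder p K

/-- A top pair with a `p`-subgroup acting trivially on `K / O_{p'}(K)`. -/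
def IsTriple (p n : ℕ) (x : G) (K T : Subgroup G) : Prop :=
  IsTopPair p n x K ∧ IsPGroup p ↥T ∧ x ∈ T ∧ T ≤ centralizerOfPComponent p x K

theorem centralizerOfPComponent_le (x : G) (K : Subgroup G) :
    centralizerOfPComponent p x K ≤ centralizer ({x} : Set G) :=
  map_subtype_le _

theorem self_mem_centralizerOfPComponent [Finite G] {x : G} {K : Subgroup G}
    (hKC : K ≤ centralizer ({x} : Set G)) : x ∈ centralizerOfPComponent p x K := by
  refine centralizer_inf_le_centralizerOfPComponent hKC
    (mem_inf.mpr ⟨?_, mem_centralizer_singleton_iff.mpr rfl⟩)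
  exact mem_centralizer_iff.mpr fun k hk => mem_centralizer_singleton_iff.mp (hKC hk)

theorem actsTrivially_of_le [Finite G] [Fact p.Prime] {x : G} {K P : Subgroup G}
    (hK : IsPComponentOf p K (centralizer ({x} : Set G))) (hP : P ≤ centralizerOfPComponent p x K) :
    ActsTrivially p P K := by
  intro g hg k hk
  have hmem : ⁅g, k⁆ ∈ K ⊓ centralizerPPrimeCore p x := mem_inf.mpr
    ⟨mul_mem ((mem_normalizer_iff.mp (centralizerOfPComponent_le_normalizer hK (hP hg)) k).mp hk)
      (inv_mem hk), ((mem_centralizerOfPComponent_iff hK.1).mp (hP hg)).2 k hk⟩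
  set W := centralizerPPrimeCore p x with hW
  have hWn : K ≤ normalizer (W : Set G) := by
    refine hK.1.trans ?_
    rw [hW, centralizerPPrimeCore]
    refine (normal_subgroupOf_iff_le_normalizer (map_subtype_le _)).mp ?_
    rw [subgroupOf, comap_map_eq_self_of_injective (Subgroup.subtype_injective _)]
    infer_instance
  haveI : (W.subgroupOf K).Normal :=
    (normal_subgroupOf_iff_le_normalizer_inf).mpr (le_normalizer_inf hWn le_normalizer)
  have hle : W.subgroupOf K ≤ pPrimeCore p ↥K := by
    refine Core.le_pPrimeCore ?_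
    rw [← card_map_of_injective K.subtype_injective, subgroupOf_map_subtype]
    refine Nat.Coprime.coprime_dvd_left (card_dvd_of_le inf_le_left) ?_
    rw [hW, centralizerPPrimeCore, card_map_of_injective (Subgroup.subtype_injective _)]
    exact Core.coprime_card_pPrimeCore
  exact ⟨⟨_, hmem.1⟩, hle hmem.2, rfl⟩

theorem IsTriple.actsTrivially [Finite G] [Fact p.Prime] {n : ℕ} {x : G} {K T P : Subgroup G}
    (h : IsTriple p n x K T) (hP : P ≤ T) : ActsTrivially p P K :=
  actsTrivially_of_le h.1.2.1 (hP.trans h.2.2.2)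

theorem IsTriple.le_centralizer {n : ℕ} {x : G} {K T : Subgroup G} (h : IsTriple p n x K T) :
    T ≤ centralizer ({x} : Set G) := h.2.2.2.trans (centralizerOfPComponent_le x K)

theorem IsTriple.commute {n : ℕ} {x : G} {K T : Subgroup G} (h : IsTriple p n x K T) {g : G}
    (hg : g ∈ T) : Commute x g := (mem_centralizer_singleton_iff.mp (h.le_centralizer hg)).symm

/-- The `p`-component of a local quotient, pulled back to `G`. -/
def localPComp (p : ℕ) (y : G)
    (K₁ : Subgroup (↥(centralizer ({y} : Set G)) ⧸ pPrimeCore p ↥(centralizer ({y} : Set G)))) :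
    Subgroup G :=
  (pComponentOver p K₁).map (centralizer ({y} : Set G)).subtype

theorem localPComp_spec [Finite G] [Fact p.Prime] {y : G}
    {K₁ : Subgroup (↥(centralizer ({y} : Set G)) ⧸ pPrimeCore p ↥(centralizer ({y} : Set G)))}
    (hK : IsComponent K₁) :
    IsPComponentOf p (localPComp p y K₁) (centralizer ({y} : Set G)) ∧
      localImage p y (localPComp p y K₁) = K₁ := by
  have h : (localPComp p y K₁).subgroupOf (centralizer ({y} : Set G)) = pComponentOver p K₁ :=
    comap_map_eq_self_of_injective (Subgroup.subtype_injective _) _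
  refine ⟨⟨map_subtype_le _, ?_⟩, ?_⟩
  · rw [h]
    exact isPComponent_pComponentOver hK
  · rw [localImage, h, map_pComponentOver hK]

theorem compOrder_pComponentOf [Finite G] [Fact p.Prime] {y : G} {J : Subgroup G}
    (hJ : IsPComponentOf p J (centralizer ({y} : Set G))) :
    compOrder p J = Nat.card (localImage p y J) := by
  obtain ⟨hJC, hJsn, hJp⟩ := isPComponentOf_iff.mp hJ
  refine le_antisymm (localImage_spec hJC hJp).2.1 ?_
  set C := centralizer ({y} : Set G) with hC
  set f : ↥J →* ↥C ⧸ pPrimeCore p ↥C := (QuotientGroup.mk' _).comp (inclusion hJC) with hf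
  have hrange : f.range = localImage p y J := by
    rw [hf, MonoidHom.range_comp, localImage]
    congr 1
    ext a
    exact ⟨fun ⟨b, hb⟩ => hb ▸ b.2, fun ha => ⟨⟨a, ha⟩, rfl⟩⟩
  have hle : pPrimeCore p ↥J ≤ f.ker := by
    intro a ha
    have h2 : (⟨inclusion hJC a, a.2⟩ : ↥(J.subgroupOf C)) ∈ pPrimeCore p ↥(J.subgroupOf C) :=
      Core.map_pPrimeCore_le (p := p) (subgroupOfEquivOfLe hJC).symm ⟨a, ha, rfl⟩
    exact MonoidHom.mem_ker.mpr ((QuotientGroup.eq_one_iff _).mpr
      ((map_pPrimeCore_eq_inf (p := p) hJsn).le ⟨_, h2, rfl⟩).2)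
  rw [← hrange, ← index_ker]
  exact Nat.le_of_dvd (Nat.pos_of_ne_zero index_ne_zero_of_finite) (index_dvd_of_le hle)

/-- Everything in `C(y)` mapping into the component lies in the `p`-component over it. -/
theorem le_localPComp [Finite G] [Fact p.Prime] {y : G} {L : Subgroup G}
    {K₁ : Subgroup (↥(centralizer ({y} : Set G)) ⧸ pPrimeCore p ↥(centralizer ({y} : Set G)))}
    (hLy : L ≤ centralizer ({y} : Set G)) (hL : IsPCompGroup p ↥L) (hle : localImage p y L ≤ K₁) :
    L ≤ localPComp p y K₁ := by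
  have hLp := (pElemClosure_top_eq_top_iff L).mp hL.1
  rw [← hLp]
  refine (closure_le _).mpr fun a ha => ?_
  obtain ⟨haL, k, hk⟩ := ha
  refine ⟨⟨a, hLy haL⟩, pElem_mem_pElemClosure (hle (mem_map_of_mem _ ?_)) (k := k) ?_, rfl⟩
  · exact haL
  · exact Subtype.ext (by simpa using hk)

theorem pLayerOf_inf_centralizer [Finite G] [Fact p.Prime] {x : G} {K P : Subgroup G}
    (hxP : x ∈ P) (hP : IsPGroup p ↥P) (hK : IsPComponentOf p K (centralizer ({x} : Set G)))
    (hPK : ActsTrivially p P K) :
    pLayerOf p (K ⊓ centralizer (P : Set G)) = coreComp p K P := by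
  obtain ⟨hKC, hKsn, hKp⟩ := isPComponentOf_iff.mp hK
  have hLH : coreComp p K P ≤ K ⊓ centralizer (P : Set G) := pElemClosure_le _
  refine le_antisymm ?_ ?_
  · rw [pLayerOf, pLayer, sSup_eq_iSup, Subgroup.map_iSup]
    refine iSup_le fun M => ?_
    rw [Subgroup.map_iSup]
    refine iSup_le fun hM => ?_
    have h1 := (pElemClosure_top_eq_top_iff M).mp (isPComponent_iff_intrinsic.mp hM).2.1
    rw [← h1]
    exact (map_pElemClosure_le _ _).trans (pElemClosure_mono (map_subtype_le _))
  · rw [pLayerOf, ← map_subgroupOf_eq_of_le hLH]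
    refine map_mono (pComponent_le_pLayer ((isPComponent_subgroupOf_iff hLH).mpr
      ⟨(pElemClosure_normal _).isSubnormal, (coreComp_spec hP hKp hPK).1⟩))

/-- `y` does not move: `L_{p'}(C_K(⟨x,y⟩))` lies in a `p`-component of `C(y)`. -/
def IsGood (p : ℕ) (x : G) (K : Subgroup G) (y : G) : Prop :=
  ∃ J : Subgroup G, IsPComponentOf p J (centralizer ({y} : Set G)) ∧
    coreComp p K (zpowers x ⊔ zpowers y) ≤ J

/-- The image of `x` in `C(y)/O_{p'}(C(y))`. -/
def localX (p : ℕ) (x y : G) (h : Commute x y) :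
    ↥(centralizer ({y} : Set G)) ⧸ pPrimeCore p ↥(centralizer ({y} : Set G)) :=
  localElt p y ⟨x, mem_centralizer_singleton_iff.mpr h.eq⟩

/-- The component into which `K` pumps up in `C(y)/O_{p'}(C(y))`. -/
def IsPumpTarget (p n : ℕ) (x : G) (K : Subgroup G) (y : G) (hxy : Commute x y)
    (K₁ : Subgroup (↥(centralizer ({y} : Set G)) ⧸ pPrimeCore p ↥(centralizer ({y} : Set G)))) : Prop :=
  IsPumpUp p (localX p x y hxy) (localImage p y (coreComp p K (zpowers x ⊔ zpowers y))) K₁ ∧
    localImage p y (coreComp p K (zpowers x ⊔ zpowers y)) ≤ centralizer ({localX p x y hxy} : Set _) ∧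
    Nat.card K₁ = n ∧ Nat.card (localImage p y (coreComp p K (zpowers x ⊔ zpowers y))) = n

theorem exists_pumpTarget [Finite G] [hp : Fact p.Prime] {n : ℕ} (hc : TopContext p G n) {x y : G}
    {K T : Subgroup G} (hT : IsTriple p n x K T) (hyT : y ∈ T) (hy : orderOf y = p) :
    ∃ K₁, IsPumpTarget p n x K y (hT.commute hyT) K₁ ∧
      Nonempty (↥K₁ ≃* (↥K ⧸ pPrimeCore p ↥K)) ∧
      (IsGood p x K y ↔ localX p x y (hT.commute hyT) ∈ normalizer (K₁ : Set _)) := by
  have hxy := hT.commute hyT
  obtain ⟨hx, hK, hn⟩ := hT.1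
  obtain ⟨hKC, hKsn, hKp⟩ := isPComponentOf_iff.mp hK
  set P := zpowers x ⊔ zpowers y with hP
  have hPT : P ≤ T := sup_le (zpowers_le.mpr hT.2.2.1) (zpowers_le.mpr hyT)
  have hPp : IsPGroup p ↥P := hT.2.1.to_le hPT
  have hPK := hT.actsTrivially hPT
  set L := coreComp p K P with hL
  have hLy : L ≤ centralizer ({y} : Set G) :=
    (coreComp_le_centralizer K P).trans (centralizer_le (Set.singleton_subset_iff.mpr
      (mem_sup_right (mem_zpowers y))))
  have hLC : L ≤ centralizer ({x} : Set G) ⊓ centralizer ({y} : Set G) :=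
    (coreComp_le_centralizer K P).trans (centralizer_pair x y).le
  have hLsn : (L.subgroupOf (centralizer ({x} : Set G) ⊓ centralizer ({y} : Set G))).IsSubnormal :=
    centralizer_pair x y ▸ coreComp_subnormal (mem_sup_left (mem_zpowers x)) hKC hKsn
  obtain ⟨hLp, -, ⟨eL⟩, -⟩ := coreComp_spec hPp hKp hPK
  obtain ⟨hle, K₁, hK₁⟩ := exists_pumpUp_local hx hxy (hc.schreier y hy) hLC hLsn hLp
  obtain ⟨hLb, hge, hiso⟩ := localImage_spec hLy hLp
  have hLo : compOrder p L = compOrder p K := Nat.card_congr eL.toEquiv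
  have h1 : n ≤ Nat.card (localImage p y L) := hn.trans (hLo ▸ hge)
  have h2 : Nat.card K₁ ≤ n := by
    obtain ⟨hJ, hJi⟩ := localPComp_spec (p := p) hK₁.1
    have := hc.bound y _ hy hJ
    rwa [compOrder_pComponentOf hJ, hJi] at this
  have h3 := hK₁.card_le
  have hcard : Nat.card K₁ ≤ Nat.card (localImage p y L) := h2.trans h1
  obtain ⟨⟨eK⟩, hcases⟩ := hK₁.eq_of_card hcard
  obtain ⟨eI⟩ := hiso (by
    have hxn := hc.bound x K hx hK
    omega)
  refine ⟨K₁, ⟨hK₁, hle, le_antisymm h2 (h1.trans h3), le_antisymm (h3.trans h2) h1⟩,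
    ⟨eK.symm.trans (eI.trans eL)⟩, ?_⟩
  constructor
  · rintro ⟨J, hJ, hLJ⟩
    have hJc : IsComponent (localImage p y J) := hJ.2.2.1
    have hLJb := localImage_mono (p := p) (y := y) hLJ
    have hmem : localImage p y J ∈ conjOrbit p (localX p x y hxy) K₁ := by
      refine hK₁.2.2.1 _ hJc fun hcen => ?_
      have hbot := commutator_eq_bot_iff_le_centralizer.mpr (hcen.trans (centralizer_le hLJb))
      rw [pCompGroup_subgroup_perfect hLb] at hbot
      haveI := qs_nontrivial hLb.2
      exact (nontrivial_iff_ne_bot _).mp (QuotientGroup.mk'_surjective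
        (pPrimeCore p ↥(localImage p y L))).nontrivial hbot
    by_contra hmove
    have hother : ∀ M ∈ conjOrbit p (localX p x y hxy) K₁, M = localImage p y J := fun M hM => by
      by_contra hne
      exact hK₁.not_le_centralizer hle hcard hM (hLJb.trans (commutator_eq_bot_iff_le_centralizer.mp
        (components_commute hJc (isComponent_conjOrbit hK₁.1 M hM) (Ne.symm hne))))
    have hm1 : K₁.map (MulAut.conj (localX p x y hxy)).toMonoidHom ∈ conjOrbit p (localX p x y hxy) K₁ :=
      ⟨1, hp.out.one_lt, by rw [pow_one]⟩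
    exact hmove (map_conj_zpow_fix.mp ((hother _ hm1).trans (hother _ (mem_conjOrbit_self _ _)).symm))
  · intro hfix
    have heq : localImage p y L = K₁ := by
      rcases hcases with ⟨-, h⟩ | ⟨hm, -⟩
      · exact h
      · exact absurd hfix hm
    exact ⟨localPComp p y K₁, (localPComp_spec hK₁.1).1, le_localPComp hLy hLp heq.le⟩

/-- Elements centralising `L_{p'}(C_K(P))` act trivially on the `p`-component it covers. -/
theorem mem_centralizerOfPComponent_of_centralizes {y g : G} {J L : Subgroup G}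
    (hg : g ∈ centralizer ({y} : Set G)) (hgL : g ∈ centralizer (L : Set G))
    (h : localImage p y J ≤ localImage p y L) : g ∈ centralizerOfPComponent p y J :=
  ⟨⟨g, hg⟩, centralizer_le h (localImage_centralizes hg hgL), rfl⟩

/-- Data of a good element. -/
theorem good_spec [Finite G] [hp : Fact p.Prime] {n : ℕ} (hc : TopContext p G n) {x y : G}
    {K T S J : Subgroup G} (hT : IsTriple p n x K T) (hST : S ≤ T) (hxS : x ∈ S) (hyS : y ∈ S)
    (hy : orderOf y = p) (hSy : S ≤ centralizer ({y} : Set G))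
    (hJ : IsPComponentOf p J (centralizer ({y} : Set G)))
    (hLJ : coreComp p K (zpowers x ⊔ zpowers y) ≤ J) :
    IsTriple p n y J S ∧ localImage p y J = localImage p y (coreComp p K S) ∧
      Nonempty ((↥J ⧸ pPrimeCore p ↥J) ≃* (↥K ⧸ pPrimeCore p ↥K)) ∧
      ∀ S' : Subgroup G, S ≤ S' → IsPGroup p ↥S' → S' ≤ centralizerOfPComponent p y J →
        coreComp p J S' ≤ coreComp p K S := by
  obtain ⟨hx, hK, hn⟩ := hT.1
  obtain ⟨hKC, hKsn, hKp⟩ := isPComponentOf_iff.mp hK
  obtain ⟨hJC, hJsn, hJp⟩ := isPComponentOf_iff.mp hJ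
  have hSp : IsPGroup p ↥S := hT.2.1.to_le hST
  have hSK := hT.actsTrivially hST
  obtain ⟨hLp, -, ⟨eL⟩, -⟩ := coreComp_spec hSp hKp hSK
  set L := coreComp p K S with hL
  have hLS : L ≤ centralizer (S : Set G) := coreComp_le_centralizer K S
  have hLy : L ≤ centralizer ({y} : Set G) := hLS.trans (centralizer_le (Set.singleton_subset_iff.mpr hyS))
  have hLJ' : L ≤ J :=
    (coreComp_anti K (sup_le (zpowers_le.mpr hxS) (zpowers_le.mpr hyS))).trans hLJ
  obtain ⟨-, hge, hiso⟩ := localImage_spec hLy hLp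
  have hLo : compOrder p L = compOrder p K := Nat.card_congr eL.toEquiv
  have hJb := compOrder_pComponentOf hJ
  have hJn := hc.bound y J hy hJ
  have hle := localImage_mono (p := p) (y := y) hLJ'
  have hcard := Nat.le_of_dvd Nat.card_pos (card_dvd_of_le hle)
  have heq : localImage p y L = localImage p y J := eq_of_le_of_card_ge hle (by omega)
  obtain ⟨eI⟩ := hiso (by
    have hxn := hc.bound x K hx hK
    omega)
  have hJiso : Nonempty ((↥J ⧸ pPrimeCore p ↥J) ≃* (↥K ⧸ pPrimeCore p ↥K)) := by
    obtain ⟨eJ⟩ := (localImage_spec hJC hJp).2.2 hJb.ge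
    exact ⟨eJ.symm.trans ((MulEquiv.subgroupCongr heq.symm).trans (eI.trans eL))⟩
  refine ⟨⟨⟨hy, hJ, by omega⟩, hSp, hyS, fun g hg => ?_⟩, heq.symm, hJiso, ?_⟩
  · exact mem_centralizerOfPComponent_of_centralizes (hSy hg)
      (mem_centralizer_iff.mpr fun l hl => (mem_centralizer_iff.mp (hLS hl) g hg).symm) heq.symm.le
  · intro S' hSS' hS'p hS'J
    refine (coreComp_anti J hSS').trans ?_
    set H := J ⊓ centralizer (S : Set G) with hH
    have hLH : L ≤ H := le_inf hLJ' hLS
    have hsn : (L.subgroupOf H).IsSubnormal :=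
      (coreComp_subnormal hxS hKC hKsn).comap (inclusion (inf_le_right : H ≤ centralizer (S : Set G)))
    set W := centralizerPPrimeCore p y with hW
    haveI hWn : (W.subgroupOf H).Normal := by
      refine (normal_subgroupOf_iff_le_normalizer_inf).mpr (le_normalizer_inf ?_ le_normalizer)
      refine (inf_le_left.trans hJC).trans ?_
      rw [hW, centralizerPPrimeCore]
      refine (normal_subgroupOf_iff_le_normalizer (map_subtype_le _)).mp ?_
      rw [subgroupOf, comap_map_eq_self_of_injective (Subgroup.subtype_injective _)]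
      infer_instance
    have hWc : (Nat.card (W.subgroupOf H)).Coprime p := by
      rw [← card_map_of_injective H.subtype_injective, subgroupOf_map_subtype]
      refine Nat.Coprime.coprime_dvd_left (card_dvd_of_le inf_le_left) ?_
      rw [hW, centralizerPPrimeCore, card_map_of_injective (Subgroup.subtype_injective _)]
      exact Core.coprime_card_pPrimeCore
    have hcov : (⊤ : Subgroup ↥H) ≤ L.subgroupOf H ⊔ W.subgroupOf H := by
      intro a _
      have haC : (a : G) ∈ centralizer ({y} : Set G) := hJC a.2.1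
      have h1 : QuotientGroup.mk' (pPrimeCore p _) (⟨a, haC⟩ : ↥(centralizer ({y} : Set G))) ∈
          localImage p y L := heq.symm ▸ mem_map_of_mem _ (show (⟨a, haC⟩ : ↥(centralizer ({y} : Set G))) ∈
          J.subgroupOf _ from a.2.1)
      obtain ⟨l, hl, hla⟩ := h1
      have hlH : (l : G) ∈ H := hLH hl
      rw [← mul_inv_cancel_left (⟨(l : G), hlH⟩ : ↥H) a]
      refine mul_mem_sup (show (⟨(l : G), hlH⟩ : ↥H) ∈ L.subgroupOf H from hl) ?_
      exact ⟨_, QuotientGroup.eq.mp hla, rfl⟩
    have h := (map_mono (f := H.subtype) (pElemClosure_le_of_cover hWc hsn hcov))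
    rwa [map_pElemClosure_top, map_subgroupOf_eq_of_le hLH] at h

end Cfsg.Agent.Layer
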