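import Cfsg.Agent.Layer.PTerminalBad

/-!
The pair reached by a diagonal pumping, and the class of pairs it lies in.
-/

set_option autoImplicit false
set_option linter.style.haveILetI false

namespace Cfsg.Agent.Layer

open Subgroup Cfsg
open scoped commutatorElement

universe u

variable {G : Type u} [Group G] {p : ℕ}

theorem dvd_card_quot_center [Finite G] [hp : Fact p.Prime] (hO : pPrimeCore p G = ⊥) {M : Subgroup G}
    (hM : IsComponent M) : p ∣ Nat.card (↥M ⧸ center ↥M) := by
  by_contra h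
  exact qs_center_ne_top hM.2
    (component_eq_of_coprime_index hO hM (hp.out.coprime_iff_not_dvd.mpr h).symm)

theorem four_dvd_card_simple {S : Type u} [Group S] [Finite S] [IsSimpleGroup S] [Group.IsPerfect S]
    (h2 : 2 ∣ Nat.card S) : 4 ∣ Nat.card S := by
  by_contra h4
  haveI : Fact (Nat.Prime 2) := ⟨Nat.prime_two⟩
  obtain ⟨P⟩ := (inferInstance : Nonempty (Sylow 2 S))
  obtain ⟨k, hk⟩ := IsPGroup.iff_card.mp P.2
  have hk1 : k = 1 := by
    rcases Nat.lt_or_ge k 2 with h | h
    · rcases Nat.eq_zero_or_pos k with rfl | h0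
      · exact absurd (Subgroup.card_eq_one.mp (by simpa using hk)) (P.ne_bot_of_dvd_card h2)
      · omega
    · exact absurd ((pow_dvd_pow 2 h).trans (hk ▸ card_subgroup_dvd_card _)) h4
  have hcyc : IsCyclic ↥(P : Subgroup S) := isCyclic_of_prime_card (p := 2) (by rw [hk, hk1]; norm_num)
  have hmin : (Nat.card S).minFac = 2 := (Nat.minFac_eq_two_iff _).mpr h2
  have hc := IsCyclic.isComplement' hmin hcyc
  rcases IsSimpleGroup.eq_bot_or_eq_top_of_normal
      (MonoidHom.transferSylow P (hcyc.normalizer_le_centralizer hmin)).ker inferInstance with hb | ht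
  · rw [hb, isComplement'_bot_left] at hc
    haveI : IsMulCommutative ↥(P : Subgroup S) := hcyc.isMulCommutative
    refine Group.IsPerfect.not_isMulCommutative S ⟨⟨fun a b => ?_⟩⟩
    exact congrArg Subtype.val (mul_comm' (M := ↥(P : Subgroup S)) ⟨a, hc ▸ mem_top a⟩ ⟨b, hc ▸ mem_top b⟩)
  · rw [ht, isComplement'_top_left] at hc
    exact P.ne_bot_of_dvd_card h2 hc

theorem relIndex_sup_of_le_normalizer {A B : Subgroup G} (h : B ≤ normalizer (A : Set G)) :
    A.relIndex (A ⊔ B) = A.relIndex B := by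
  rw [sup_comm]
  haveI := normal_subgroupOf_of_le_normalizer h
  haveI := normal_subgroupOf_sup_of_le_normalizer h
  exact (Nat.card_congr (QuotientGroup.quotientInfEquivProdNormalizerQuotient B A h).toEquiv).symm

theorem card_sup_eq_mul {A B : Subgroup G} (h : B ≤ normalizer (A : Set G)) :
    Nat.card ↥(A ⊔ B) = Nat.card A * A.relIndex B := by
  rw [← relIndex_sup_of_le_normalizer h, ← relIndex_bot_left, ← relIndex_bot_left,
    relIndex_mul_relIndex ⊥ A _ bot_le le_sup_left]

/-- The product of the components modulo its centre has order divisible by `p²`. -/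
theorem sq_dvd_index_center [Finite G] [hp : Fact p.Prime] (hO : pPrimeCore p G = ⊥)
    {s : Set (Subgroup G)} (hs : ∀ M ∈ s, IsComponent M)
    (h : (p = 2 ∧ s.Nonempty) ∨ ∃ M ∈ s, ∃ M' ∈ s, M ≠ M') :
    p ^ 2 ∣ (center ↥(sSup s)).index := by
  set E := sSup s with hE
  let φ : ∀ M : Subgroup G, M ∈ s → (↥M →* ↥E ⧸ center ↥E) := fun M hM =>
    (QuotientGroup.mk' _).comp (inclusion (le_sSup hM))
  have hker : ∀ M (hM : M ∈ s), (φ M hM).ker = center ↥M := by
    intro M hM
    ext a
    rw [MonoidHom.mem_ker, mem_center_iff]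
    constructor
    · intro ha b
      have h1 := mem_center_iff.mp ((QuotientGroup.eq_one_iff _).mp ha) (inclusion (le_sSup hM) b)
      exact Subtype.ext (congrArg (fun z : ↥E => (z : G)) h1)
    · intro ha
      refine (QuotientGroup.eq_one_iff _).mpr (mem_center_iff.mpr fun e => Subtype.ext ?_)
      have hle : E ≤ centralizer ({(a : G)} : Set G) := sSup_le fun N hN g hg => by
        rw [mem_centralizer_singleton_iff]
        rcases eq_or_ne N M with rfl | hne
        · exact congrArg Subtype.val (ha ⟨g, hg⟩)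
        · exact (commute_of_commutator_eq_bot (components_commute (hs N hN) (hs M hM) hne) hg a.2)
      exact mem_centralizer_singleton_iff.mp (hle e.2)
  have hcardr : ∀ M (hM : M ∈ s), Nat.card (φ M hM).range = Nat.card (↥M ⧸ center ↥M) := fun M hM => by
    rw [← index_ker, hker M hM]
    rfl
  rcases h with ⟨rfl, M, hM⟩ | ⟨M, hM, M', hM', hne⟩
  · haveI := (hs M hM).2.2
    haveI := (hs M hM).2.1
    haveI : Group.IsPerfect (↥M ⧸ center ↥M) :=
      Group.IsPerfect.ofSurjective (QuotientGroup.mk'_surjective _)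
    have h4 := four_dvd_card_simple (dvd_card_quot_center hO (hs M hM))
    rw [← hcardr M hM] at h4
    exact h4.trans (card_subgroup_dvd_card _)
  · set A := (φ M hM).range with hA
    set B := (φ M' hM').range with hB
    have hBA : B ≤ centralizer (A : Set (↥E ⧸ center ↥E)) := by
      rintro _ ⟨b, rfl⟩
      rw [mem_centralizer_iff]
      rintro _ ⟨a, rfl⟩
      exact congrArg (QuotientGroup.mk' _) (Subtype.ext
        (commute_of_commutator_eq_bot (components_commute (hs M hM) (hs M' hM') hne) a.2 b.2))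
    have hinf : A ⊓ B = ⊥ := by
      have hq : IsQuasisimple (↥M ⧸ center ↥M) := qs_quotient (hs M hM).2 (qs_center_ne_top (hs M hM).2)
      haveI := (hs M hM).2.2
      rw [eq_bot_iff]
      rintro _ ⟨⟨a, rfl⟩, hb⟩
      rw [mem_bot, ← MonoidHom.mem_ker, hker M hM]
      have h1 : (QuotientGroup.mk' (center ↥M)) a ∈ center (↥M ⧸ center ↥M) := by
        rw [mem_center_iff]
        intro c
        obtain ⟨c, rfl⟩ := QuotientGroup.mk'_surjective _ c
        rw [← map_mul, ← map_mul]
        refine QuotientGroup.eq.mpr ?_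
        rw [← hker M hM, MonoidHom.mem_ker, map_mul, map_inv, map_mul, map_mul,
          inv_mul_eq_one]
        exact mem_centralizer_iff.mp (hBA hb) _ ⟨c, rfl⟩
      rcases (inferInstance : (center (↥M ⧸ center ↥M)).Normal).eq_bot_or_eq_top with hb' | ht
      · rw [hb', mem_bot] at h1
        exact (QuotientGroup.eq_one_iff a).mp h1
      · exact absurd ht (qs_center_ne_top hq)
    have h1 : Nat.card ↥(A ⊔ B) = Nat.card A * Nat.card B := by
      rw [card_sup_eq_mul (hBA.trans (centralizer_le_normalizer _)), ← inf_relIndex_right, hinf,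
        relIndex_bot_left]
    have hdA : p ∣ Nat.card A := (hcardr M hM) ▸ dvd_card_quot_center hO (hs M hM)
    have hdB : p ∣ Nat.card B := (hcardr M' hM') ▸ dvd_card_quot_center hO (hs M' hM')
    exact ((sq p).symm ▸ (Nat.mul_dvd_mul hdA hdB)).trans (h1 ▸ card_subgroup_dvd_card _)

theorem sSup_simple_components_center [Finite G] {s : Set (Subgroup G)}
    (hc : ∀ M ∈ s, IsComponent M) (hs : ∀ M ∈ s, IsSimpleGroup ↥M) :
    sSup s ⊓ centralizer ((sSup s : Subgroup G) : Set G) = ⊥ := by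
  rw [center_sSup_components hc]
  refine le_bot_iff.mp (sSup_le ?_)
  rintro _ ⟨M, hM, rfl⟩
  haveI := hs M hM
  show M ⊓ centralizer (M : Set G) ≤ ⊥
  rw [← map_center_eq_inf]
  rcases (inferInstance : (center ↥M).Normal).eq_bot_or_eq_top with hb' | ht
  · rw [hb', Subgroup.map_bot]
  · exact absurd ht (qs_center_ne_top (hc M hM).2)

/-- Two involutions with a large common centraliser. -/
def TwoRich (T : Subgroup G) : Prop :=
  ∃ a b : G, a ∈ T ∧ b ∈ T ∧ orderOf a = 2 ∧ orderOf b = 2 ∧ a ≠ b ∧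
    8 ≤ Nat.card ↥(T ⊓ centralizer ({a} : Set G) ⊓ centralizer ({b} : Set G))

/-- An element of `T` inside the product of some simple components of `C(t)/O_{p'}(C(t))`. -/
def HasTrace (p : ℕ) (T : Subgroup G) (t : G)
    (A : Set (Subgroup (↥(centralizer ({t} : Set G)) ⧸ pPrimeCore p ↥(centralizer ({t} : Set G))))) : Prop :=
  (∀ M ∈ A, IsComponent M ∧ IsSimpleGroup ↥M) ∧
    ∃ a : ↥(centralizer ({t} : Set G)), (a : G) ∈ T ∧ localElt p t a ≠ 1 ∧ localElt p t a ∈ sSup A

/-- For every `t` of order `p` in `L_{p'}(C_K(T))`, two disjoint sets of components of `C(t)` meet `T`. -/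
def OddRich (p : ℕ) (K T : Subgroup G) : Prop :=
  ∀ t ∈ coreComp p K T, orderOf t = p → ∃ A B, Disjoint A B ∧ HasTrace p T t A ∧ HasTrace p T t B

/-- The class containing all pairs reached diagonally. -/
def InClass (p : ℕ) (K T : Subgroup G) : Prop :=
  ¬ IsSimpleGroup (↥K ⧸ pPrimeCore p ↥K) ∨ (p = 2 ∧ TwoRich T) ∨ (p ≠ 2 ∧ OddRich p K T)

theorem InClass.mono [Finite G] {K J T T' : Subgroup G} (h : InClass p K T) (hT : T ≤ T')
    (hcore : coreComp p J T' ≤ coreComp p K T)
    (e : (↥J ⧸ pPrimeCore p ↥J) ≃* (↥K ⧸ pPrimeCore p ↥K)) : InClass p J T' := by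
  rcases h with h | ⟨h2, a, b, ha, hb, hoa, hob, hne, h8⟩ | ⟨h2, h⟩
  · exact Or.inl fun hs => h e.symm.isSimpleGroup
  · refine Or.inr (Or.inl ⟨h2, a, b, hT ha, hT hb, hoa, hob, hne, h8.trans ?_⟩)
    exact Nat.le_of_dvd Nat.card_pos (card_dvd_of_le (inf_le_inf_right _ (inf_le_inf_right _ hT)))
  · refine Or.inr (Or.inr ⟨h2, fun t ht hot => ?_⟩)
    obtain ⟨A, B, hd, ⟨hA, a, ha, ha'⟩, ⟨hB, b, hb, hb'⟩⟩ := h t (hcore ht) hot
    exact ⟨A, B, hd, ⟨hA, a, hT ha, ha'⟩, ⟨hB, b, hT hb, hb'⟩⟩

theorem pElem_mem_localPComp [Finite G] {y : G}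
    {K₁ : Subgroup (↥(centralizer ({y} : Set G)) ⧸ pPrimeCore p ↥(centralizer ({y} : Set G)))}
    {a : ↥(centralizer ({y} : Set G))} {k : ℕ} (ha : localElt p y a ∈ K₁) (hk : a ^ p ^ k = 1) :
    (a : G) ∈ localPComp p y K₁ :=
  mem_map_of_mem _ (pElem_mem_pElemClosure ha hk)

theorem pElem_mem_coreComp {J P : Subgroup G} {a : G} {k : ℕ} (haJ : a ∈ J)
    (haP : a ∈ centralizer (P : Set G)) (hk : a ^ p ^ k = 1) : a ∈ coreComp p J P :=
  pElem_mem_pElemClosure (mem_inf.mpr ⟨haJ, haP⟩) hk

theorem localElt_eq_one_pElem [Finite G] [hp : Fact p.Prime] {y : G} {a : ↥(centralizer ({y} : Set G))}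
    {k : ℕ} (hk : a ^ p ^ k = 1) (h : localElt p y a = 1) : a = 1 :=
  orderOf_eq_one_iff.mp (Nat.eq_one_of_dvd_coprimes
    ((Core.coprime_card_pPrimeCore (p := p) (G := ↥(centralizer ({y} : Set G)))).pow_right k)
    (orderOf_dvd_natCard _ ((QuotientGroup.eq_one_iff a).mp h)) (orderOf_dvd_of_pow_eq_one hk))

theorem conjOrbit_simple {x : G} {K : Subgroup G} (h : IsSimpleGroup ↥K) :
    ∀ M ∈ conjOrbit p x K, IsSimpleGroup ↥M := by
  rintro _ ⟨i, -, rfl⟩
  exact (equivMapOfInjective K _ (MulAut.conj (x ^ i)).injective).symm.isSimpleGroup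

/-- The orbit of `C(t)`-components over a simple member containing a `p`-element of `T₁`. -/
theorem exists_trace [Finite G] [hp : Fact p.Prime] {n : ℕ} (hc : TopContext p G n) {y t : G}
    (hy : orderOf y = p) (ht : orderOf t = p) (hyt : Commute y t) {T₁ : Subgroup G}
    {E : Subgroup (↥(centralizer ({y} : Set G)) ⧸ pPrimeCore p ↥(centralizer ({y} : Set G)))}
    (hE : IsComponent E) (hEn : Nat.card E = n) (hEs : IsSimpleGroup ↥E)
    (hty : t ∈ centralizer ({y} : Set G)) (htE : localElt p y ⟨t, hty⟩ ∈ centralizer (E : Set _))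
    {u : ↥(centralizer ({y} : Set G))} (hu : (u : G) ∈ T₁) {k : ℕ} (huk : u ^ p ^ k = 1) (hu1 : u ≠ 1)
    (hut : Commute t (u : G)) (huE : localElt p y u ∈ E) :
    ∃ (M : Subgroup G)
      (Kt : Subgroup (↥(centralizer ({t} : Set G)) ⧸ pPrimeCore p ↥(centralizer ({t} : Set G)))),
      IsPComponentOf p M (centralizer ((zpowers y ⊔ zpowers t : Subgroup G) : Set G)) ∧
      M ≤ centralizer ({t} : Set G) ∧ localImage p y M = E ∧
      IsPumpUp p (localX p y t hyt) (localImage p t M) Kt ∧
      localImage p t M ≤ centralizer ({localX p y t hyt} : Set _) ∧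
      Nat.card Kt ≤ Nat.card (localImage p t M) ∧ IsPCompGroup p ↥(localImage p t M) ∧
      HasTrace p T₁ t (conjOrbit p (localX p y t hyt) Kt) := by
  set P := zpowers y ⊔ zpowers t with hP
  have hPp : IsPGroup p ↥P := isPGroup_pair hy ht hyt
  have hyP : y ∈ P := mem_sup_left (mem_zpowers y)
  have hPy : P ≤ centralizer ({y} : Set G) :=
    sup_le (zpowers_le.mpr (mem_centralizer_singleton_iff.mpr rfl)) (zpowers_le.mpr hty)
  have hcen : ∀ g (hg : g ∈ P), localElt p y ⟨g, hPy hg⟩ ∈ centralizer (E : Set _) := by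
    intro g hg
    have hle : P ≤ ((centralizer (E : Set _)).comap
        (QuotientGroup.mk' (pPrimeCore p ↥(centralizer ({y} : Set G))))).map
          (centralizer ({y} : Set G)).subtype := by
      refine sup_le (zpowers_le.mpr ⟨⟨y, mem_centralizer_singleton_iff.mpr rfl⟩, ?_, rfl⟩)
        (zpowers_le.mpr ⟨⟨t, hty⟩, htE, rfl⟩)
      rw [SetLike.mem_coe, mem_comap, mem_centralizer_iff]
      intro a ha
      obtain ⟨c, rfl⟩ := QuotientGroup.mk'_surjective _ a
      rw [← map_mul, ← map_mul]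
      exact congrArg _ (Subtype.ext (mem_centralizer_singleton_iff.mp c.2))
    obtain ⟨g', hg', hgg⟩ := hle hg
    have e : g' = ⟨g, hPy hg⟩ := Subtype.ext hgg
    exact e ▸ hg'
  obtain ⟨hTr, hMp, hMC, hMim, hMn⟩ := member_coreComp hc hy hE hEn hPp hyP hPy hcen
  set M := coreComp p (localPComp p y E) P with hM
  obtain ⟨hMle, hMsn, -⟩ := isPComponentOf_iff.mp hMC
  have hle2 : M ≤ centralizer ({y} : Set G) ⊓ centralizer ({t} : Set G) :=
    hMle.trans (centralizer_pair y t).le
  obtain ⟨hMx, Kt, hKt⟩ := exists_pumpUp_local hy hyt (hc.schreier t ht) hle2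
    (centralizer_pair y t ▸ hMsn) hMp
  have hMt := hle2.trans inf_le_right
  obtain ⟨hMb, hge, hiso⟩ := localImage_spec hMt hMp
  have hKtn : Nat.card Kt ≤ n := by
    obtain ⟨hJ', hJ'i⟩ := localPComp_spec (p := p) hKt.1
    have := hc.bound t _ ht hJ'
    rwa [compOrder_pComponentOf hJ', hJ'i] at this
  have hcard : Nat.card Kt ≤ Nat.card (localImage p t M) := hKtn.trans (hMn.trans hge)
  refine ⟨M, Kt, hMC, hMt, hMim, hKt, hMx, hcard, hMb, ?_, ?_⟩
  · -- every component in the orbit is simple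
    obtain ⟨e1⟩ := (hKt.eq_of_card hcard).1
    obtain ⟨e2⟩ := hiso (by have := hKt.card_le; omega)
    obtain ⟨hJC, hJi⟩ := localPComp_spec (p := p) hE
    obtain ⟨-, -, ⟨e3⟩, -⟩ := coreComp_spec hPp (isPComponentOf_iff.mp hJC).2.2
      (hTr.actsTrivially le_rfl)
    obtain ⟨e4⟩ := (localImage_spec hJC.1 (isPComponentOf_iff.mp hJC).2.2).2.2 (compOrder_pComponentOf hJC).ge
    have e : ↥Kt ≃* ↥E :=
      e1.symm.trans (e2.trans (e3.trans (e4.symm.trans (MulEquiv.subgroupCongr hJi))))
    exact fun N hN => ⟨isComponent_conjOrbit hKt.1 N hN,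
      conjOrbit_simple (haveI := hEs; e.isSimpleGroup) N hN⟩
  · have hut' : (u : G) ∈ centralizer ({t} : Set G) := mem_centralizer_singleton_iff.mpr hut.eq.symm
    have hk' : (u : G) ^ p ^ k = 1 := by simpa using congrArg Subtype.val huk
    have huM : (u : G) ∈ M := by
      refine pElem_mem_coreComp (pElem_mem_localPComp huE huk) ?_ hk'
      rw [centralizer_pair]
      exact ⟨u.2, hut'⟩
    refine ⟨⟨u, hut'⟩, hu, fun h => hu1 ?_, hKt.2.1 (mem_map_of_mem _ huM)⟩
    exact Subtype.ext (congrArg Subtype.val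
      (localElt_eq_one_pElem (a := (⟨u, hut'⟩ : ↥(centralizer ({t} : Set G))))
        (k := k) (Subtype.ext (by simpa using hk')) h) :)

/-- **The target of a diagonal pumping.** -/
theorem exists_target [Finite G] [hp : Fact p.Prime] {n : ℕ} (hc : TopContext p G n) {x y : G}
    {K T : Subgroup G} (hT : IsTriple p n x K T) (hyT : y ∈ T) (hy : orderOf y = p)
    (hbad : ¬ IsGood p x K y) :
    ∃ J T₁, IsTriple p n y J T₁ ∧ InClass p J T₁ ∧
      (T ≤ centralizer ({y} : Set G) → Nat.card T < Nat.card T₁) := by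
  obtain ⟨K₁, hK₁, -⟩ := exists_badTarget hc hT hyT hy hbad
  have hxy := hT.commute hyT
  set R := T ⊓ centralizer ({y} : Set G) with hR
  have hxR : x ∈ R := ⟨hT.2.2.1, mem_centralizer_singleton_iff.mpr hxy.eq⟩
  have hyR : y ∈ R := ⟨hyT, mem_centralizer_singleton_iff.mpr rfl⟩
  set H := fixer p y K₁ R with hH
  have hHR : H ≤ R := inf_le_left
  have hyH : y ∈ H := self_mem_fixer hyR
  have hHp : IsPGroup p ↥H := hT.2.1.to_le (hHR.trans inf_le_left)
  have hHy : H ≤ (centralizer ({y} : Set G)) := fixer_le_centralizer R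
  set f := QuotientGroup.mk' (pPrimeCore p ↥(centralizer ({y} : Set G))) with hf
  set xb := localX p x y hxy with hxb
  have hxbp : xb ^ p = 1 := localX_pow hxy hT.1.1
  set s := conjOrbit p xb K₁ \ {K₁} with hs
  have hsc : ∀ M ∈ s, IsComponent M := fun M hM => isComponent_conjOrbit hK₁.1.1.1 M hM.1
  set E := sSup s with hE
  have hm : ∀ i, 0 < i → i < p → K₁.map (MulAut.conj (xb ^ i)).toMonoidHom ∈ s := fun i hi hip =>
    ⟨⟨i, hip, rfl⟩, pow_not_mem_normalizer (orderOf_eq_prime hxbp fun h => hK₁.2 (by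
      rw [show localX p x y hxy = 1 from h]; exact one_mem _)) hK₁.2 hi hip⟩
  set Hb := (H.subgroupOf (centralizer ({y} : Set G))).map f with hHb
  have hHbE : Hb ≤ centralizer ((sSup (conjOrbit p xb K₁) : Subgroup _) : Set _) := by
    rintro _ ⟨g, hg, rfl⟩
    exact fixer_centralizes hT hK₁.1 inf_le_left hxR hyR hg g.2
  have hEK : E ≤ centralizer (K₁ : Set (↥(centralizer ({y} : Set G)) ⧸ pPrimeCore p ↥(centralizer ({y} : Set G)))) := sSup_le fun M hM =>
    commutator_eq_bot_iff_le_centralizer.mp (components_commute (hsc M hM) hK₁.1.1.1 hM.2)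
  have hEle : E ≤ sSup (conjOrbit p xb K₁) := sSup_le_sSup fun M hM => hM.1
  have hsq : p ^ 2 ∣ (center ↥E).index := by
    refine sq_dvd_index_center Core.pPrimeCore_quotient_eq_bot hsc ?_
    rcases hp.out.eq_two_or_odd' with h2 | hodd
    · exact Or.inl ⟨h2, _, hm 1 one_pos hp.out.one_lt⟩
    · refine Or.inr ⟨_, hm 1 one_pos hp.out.one_lt, _, hm 2 two_pos ?_, fun h => ?_⟩
      · rcases hp.out.two_le.eq_or_lt with h | h
        · exact absurd (h ▸ hodd) (by decide)
        · exact h
      · rw [show (2 : ℕ) = 1 + 1 from rfl, pow_add, ← map_conj_map_conj, pow_one] at h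
        exact hK₁.2 (map_conj_zpow_fix.mp (map_conj_inj h).symm)
  obtain ⟨P'⟩ := (inferInstance : Nonempty (Sylow p ↥E))
  set Pe := (P' : Subgroup ↥E).map E.subtype with hPe
  have hPeE : Pe ≤ E := map_subtype_le _
  have hHPe : Pe ≤ normalizer (Hb : Set (↥(centralizer ({y} : Set G)) ⧸ pPrimeCore p ↥(centralizer ({y} : Set G)))) :=
    (hPeE.trans hEle).trans ((le_centralizer_iff.mp hHbE).trans (centralizer_le_normalizer _))
  set Tb := Hb ⊔ Pe with hTb
  have hTbp : IsPGroup p ↥Tb := by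
    have h1 : IsPGroup p ↥Hb := (hHp.comap_of_injective (centralizer ({y} : Set G)).subtype (centralizer ({y} : Set G)).subtype_injective).map f
    exact h1.to_sup_of_normal_left' (P'.isPGroup'.map E.subtype) hHPe
  have hTbK : Tb ≤ centralizer (K₁ : Set (↥(centralizer ({y} : Set G)) ⧸ pPrimeCore p ↥(centralizer ({y} : Set G)))) :=
    sup_le (hHbE.trans (centralizer_le (SetLike.coe_subset_coe.mpr (le_sSup (mem_conjOrbit_self xb K₁)))))
      (hPeE.trans hEK)
  -- lift to a `p`-subgroup of `(centralizer ({y} : Set G))(y)`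
  set U := Tb.comap f with hU
  have hHU : H.subgroupOf (centralizer ({y} : Set G)) ≤ U := fun g hg => mem_sup_left (mem_map_of_mem f hg)
  obtain ⟨Q, hQ⟩ := ((hHp.comap_of_injective (centralizer ({y} : Set G)).subtype (centralizer ({y} : Set G)).subtype_injective).comap_of_injective
    U.subtype U.subtype_injective).exists_le_sylow
  set T₁ := ((Q : Subgroup ↥U).map U.subtype).map (centralizer ({y} : Set G)).subtype with hT₁
  have hT₁p : IsPGroup p ↥T₁ := (Q.isPGroup'.map U.subtype).map (centralizer ({y} : Set G)).subtype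
  have hHT₁ : H ≤ T₁ := fun g hg => ⟨⟨g, hHy hg⟩, ⟨⟨⟨g, hHy hg⟩, hHU hg⟩, hQ hg, rfl⟩, rfl⟩
  have hT₁C : T₁ ≤ (centralizer ({y} : Set G)) := map_subtype_le _
  have hT₁U : ∀ g : ↥(centralizer ({y} : Set G)), (g : G) ∈ T₁ → f g ∈ Tb := by
    rintro g ⟨g', ⟨u, -, rfl⟩, hg⟩
    have e : (u : ↥(centralizer ({y} : Set G))) = g := Subtype.ext hg
    exact e ▸ u.2
  have hinjT : ∀ g : ↥(centralizer ({y} : Set G)), (g : G) ∈ T₁ → f g = 1 → g = 1 := by
    intro g hg h1
    obtain ⟨k, hk⟩ := hT₁p ⟨g, hg⟩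
    exact localElt_eq_one_pElem (k := k) (Subtype.ext (by simpa using congrArg Subtype.val hk)) h1
  have hTbT₁ : ∀ q ∈ Tb, ∃ g : ↥(centralizer ({y} : Set G)), (g : G) ∈ T₁ ∧ f g = q := by
    set g₀ : ↥U →* ↥Tb := f.subgroupComap Tb with hg₀
    have hg₀s : Function.Surjective g₀ :=
      MonoidHom.subgroupComap_surjective_of_surjective f Tb (QuotientGroup.mk'_surjective _)
    have himg : (Q : Subgroup ↥U).map g₀ = ⊤ := by
      obtain ⟨m, hm'⟩ := IsPGroup.iff_card.mp hTbp
      obtain ⟨j, -, hj⟩ := (Nat.dvd_prime_pow hp.out).mp (hm' ▸ index_dvd_card ((Q : Subgroup ↥U).map g₀))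
      refine index_eq_one.mp ?_
      rcases Nat.eq_zero_or_pos j with rfl | hj0
      · rw [hj, pow_zero]
      · exact absurd (((dvd_pow_self p hj0.ne').trans hj.symm.dvd).trans (index_map_dvd _ hg₀s)) Q.not_dvd_index
    intro q hq
    obtain ⟨u, hu, huq⟩ := himg.symm.le (mem_top (⟨q, hq⟩ : ↥Tb))
    exact ⟨u, ⟨u, ⟨u, hu, rfl⟩, rfl⟩, congrArg Subtype.val huq⟩
  set r := Hb.relIndex Pe with hrd
  have hr : p ^ 2 ≤ r := by
    refine Nat.le_of_dvd (Nat.pos_of_ne_zero ?_) ?_
    · exact index_ne_zero_of_finite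
    set Z := (center ↥E).map E.subtype with hZ
    have hle : Hb ⊓ Pe ≤ Z := fun g hg => by
      refine ⟨⟨g, hPeE hg.2⟩, mem_center_iff.mpr fun e => Subtype.ext ?_, rfl⟩
      exact mem_centralizer_iff.mp (hHbE hg.1) (e : _) (hEle e.2)
    refine dvd_trans ?_ ((relIndex_dvd_of_le_left Pe hle).trans (by rw [inf_relIndex_right, ← hrd]))
    rw [hZ, hPe, relIndex_map_map_of_injective _ _ E.subtype_injective]
    set π := QuotientGroup.mk' (center ↥E) with hπ
    rw [← QuotientGroup.ker_mk' (center ↥E), relIndex_ker]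
    have h1 : Nat.card ((P' : Subgroup ↥E).map π) * ((P' : Subgroup ↥E).map π).index =
        (center ↥E).index := Subgroup.card_mul_index _
    have h2 : ((P' : Subgroup ↥E).map π).index.Coprime p :=
      ((hp.out.coprime_iff_not_dvd.mpr P'.not_dvd_index).symm).coprime_dvd_left
        (index_map_dvd _ (QuotientGroup.mk'_surjective _))
    exact (h2.symm.pow_left 2).dvd_of_dvd_mul_right (h1 ▸ hsq)
  have hcardT₁ : Nat.card T₁ = Nat.card H * r := by
    have hinj2 : Nat.card T₁ = Nat.card Tb := by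
      refine Nat.card_eq_of_bijective
        (fun g : ↥T₁ => (⟨f ⟨g, hT₁C g.2⟩, hT₁U _ g.2⟩ : ↥Tb)) ⟨?_, ?_⟩
      · intro a a' he
        have h1 : (⟨(a : G), hT₁C a.2⟩ : ↥(centralizer ({y} : Set G))) *
            (⟨(a' : G), hT₁C a'.2⟩ : ↥(centralizer ({y} : Set G)))⁻¹ = 1 := by
          refine hinjT _ (mul_mem a.2 (inv_mem a'.2)) ?_
          rw [map_mul, map_inv, mul_inv_eq_one]
          exact congrArg Subtype.val he
        exact Subtype.ext (congrArg Subtype.val (mul_inv_eq_one.mp h1) :)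
      · rintro ⟨q, hq⟩
        obtain ⟨g, hg, rfl⟩ := hTbT₁ q hq
        exact ⟨⟨g, hg⟩, rfl⟩
    have hHbc : Nat.card Hb = Nat.card H := by
      rw [hHb, ← Nat.card_congr (subgroupOfEquivOfLe hHy).toEquiv]
      refine (Nat.card_eq_of_bijective (f.subgroupMap _) ⟨?_, f.subgroupMap_surjective _⟩).symm
      rw [← MonoidHom.ker_eq_bot_iff, eq_bot_iff]
      intro a ha
      refine mem_bot.mpr (Subtype.ext (hinjT _ (hHT₁ a.2) ?_))
      exact congrArg Subtype.val (MonoidHom.mem_ker.mp ha)
    rw [hinj2, hTb, card_sup_eq_mul hHPe, hHbc]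
  have hyT₁ : y ∈ T₁ := hHT₁ hyH
  obtain ⟨hJ, hJi⟩ := localPComp_spec (p := p) hK₁.1.1.1
  set J := localPComp p y K₁ with hJd
  have hT₁D : T₁ ≤ centralizerOfPComponent p y J := fun g hg =>
    ⟨⟨g, hT₁C hg⟩, show f ⟨g, hT₁C hg⟩ ∈ centralizer ((localImage p y J : Subgroup _) : Set _) by
      rw [hJi]; exact hTbK (hT₁U _ hg), rfl⟩
  have hJn : compOrder p J = n := by rw [compOrder_pComponentOf hJ, hJi]; exact hK₁.1.2.2.1
  refine ⟨J, T₁, ⟨⟨hy, hJ, hJn.ge⟩, hT₁p, hyT₁, hT₁D⟩, ?_, ?_⟩
  · -- the class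
    by_cases hsim : IsSimpleGroup (↥J ⧸ pPrimeCore p ↥J)
    swap
    · exact Or.inl hsim
    have hJs : IsSimpleGroup ↥K₁ := by
      obtain ⟨e⟩ := (localImage_spec hJ.1 (isPComponentOf_iff.mp hJ).2.2).2.2 (compOrder_pComponentOf hJ).ge
      rw [hJi] at e
      haveI := hsim
      exact e.isSimpleGroup
    have hss : ∀ M ∈ s, IsSimpleGroup ↥M := fun M hM => conjOrbit_simple hJs M hM.1
    -- an element of order `p` of the Sylow subgroup in a given member
    have helem : ∀ M ∈ s, ∃ u : ↥(centralizer ({y} : Set G)), (u : G) ∈ T₁ ∧ u ≠ 1 ∧ f u ∈ M := by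
      intro M hM
      have hdvd : p ∣ Nat.card M := dvd_card_localComp (hsc M hM)
      obtain ⟨a, ha⟩ := exists_prime_orderOf_dvd_card' (G := ↥M) p hdvd
      have hME : M ≤ E := le_sSup hM
      obtain ⟨g, hg, hga⟩ := exists_conj_mem_sylow P' (hME a.2) (k := 1) (by
        rw [pow_one]; exact congrArg Subtype.val (orderOf_dvd_iff_pow_eq_one.mp ha.dvd))
      have hMn : (g * (a : ↥(centralizer ({y} : Set G)) ⧸ pPrimeCore p ↥(centralizer ({y} : Set G))) * g⁻¹) ∈ M :=
        (mem_normalizer_iff.mp ((sSup_le fun N hN =>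
          component_le_normalizer_component (hsc N hN) (hsc M hM) : E ≤ normalizer (M : Set _)) hg) _).mp a.2
      obtain ⟨u, hu, huq⟩ := hTbT₁ _ (mem_sup_right hga)
      refine ⟨u, hu, fun h1 => ?_, huq ▸ hMn⟩
      rw [h1, map_one] at huq
      have ha1 : (a : ↥(centralizer ({y} : Set G)) ⧸ pPrimeCore p ↥(centralizer ({y} : Set G))) = 1 := by
        calc (a : ↥(centralizer ({y} : Set G)) ⧸ pPrimeCore p ↥(centralizer ({y} : Set G))) = g⁻¹ * (g * (a : ↥(centralizer ({y} : Set G)) ⧸ pPrimeCore p ↥(centralizer ({y} : Set G))) * g⁻¹) * g := by group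
          _ = 1 := by rw [← huq, mul_one, inv_mul_cancel]
      rw [← orderOf_coe, ha1, orderOf_one] at ha
      exact hp.out.ne_one ha.symm
    have hyb_cent : ∀ g : ↥(centralizer ({y} : Set G)), Commute (f ⟨y, mem_centralizer_singleton_iff.mpr rfl⟩) (f g) := fun g => by
      show _ * _ = _ * _
      rw [← map_mul, ← map_mul]
      exact congrArg _ (Subtype.ext (mem_centralizer_singleton_iff.mp g.2).symm)
    rcases eq_or_ne p 2 with h2 | h2
    · subst h2
      refine Or.inr (Or.inl ⟨rfl, ?_⟩)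
      -- an involution in the centre of the Sylow subgroup of `E`
      have hPne : Pe ≠ ⊥ := by
        intro hb
        obtain ⟨u, hu, hu1, huM⟩ := helem _ (hm 1 one_pos (by norm_num))
        have h4 : 4 ∣ Nat.card ↥E := (hsq.trans (index_dvd_card _))
        rw [hPe, Subgroup.map_eq_bot_iff, E.ker_subtype, le_bot_iff] at hb
        exact P'.ne_bot_of_dvd_card (dvd_trans (by norm_num) h4) hb
      haveI : Nontrivial ↥Pe := (nontrivial_iff_ne_bot _).mpr hPne
      have hPp : IsPGroup 2 ↥Pe := P'.isPGroup'.map E.subtype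
      haveI : Nontrivial ↥(center ↥Pe) := hPp.center_nontrivial
      obtain ⟨w, hw⟩ := exists_prime_orderOf_dvd_card' (G := ↥(center ↥Pe)) 2 (by
        obtain ⟨m, hm'⟩ := IsPGroup.iff_card.mp (hPp.to_subgroup (center ↥Pe))
        rw [hm']
        refine dvd_pow_self 2 fun h0 => ?_
        rw [h0, pow_zero] at hm'
        exact absurd hm' (Finite.one_lt_card).ne')
      set wb : ↥(centralizer ({y} : Set G)) ⧸ pPrimeCore 2 ↥(centralizer ({y} : Set G)) := ((w : ↥Pe) : ↥(centralizer ({y} : Set G)) ⧸ pPrimeCore 2 ↥(centralizer ({y} : Set G))) with hwb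
      have hwE : wb ∈ E := hPeE (w : ↥Pe).2
      obtain ⟨b, hb, hbw⟩ := hTbT₁ wb (mem_sup_right (w : ↥Pe).2)
      have hwcen : ∀ q ∈ Tb, Commute wb q := by
        intro q hq
        have hle : Tb ≤ centralizer ({wb} : Set _) := by
          refine sup_le ?_ ?_
          · intro g hg
            exact mem_centralizer_singleton_iff.mpr (mem_centralizer_iff.mp (hHbE hg) wb (hEle hwE)).symm
          · intro g hg
            exact mem_centralizer_singleton_iff.mpr
              (congrArg Subtype.val (mem_center_iff.mp w.2 ⟨g, hg⟩))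
        exact (mem_centralizer_singleton_iff.mp (hle hq)).symm
      have hbc : T₁ ≤ centralizer ({(b : G)} : Set G) := by
        intro g hg
        rw [mem_centralizer_singleton_iff]
        have hcm : ⁅(⟨g, hT₁C hg⟩ : ↥(centralizer ({y} : Set G))), b⁆ = 1 := by
          refine hinjT _ (mul_mem (mul_mem (mul_mem hg hb) (inv_mem hg)) (inv_mem hb)) ?_
          rw [map_commutatorElement, commutatorElement_eq_one_iff_mul_comm, hbw]
          exact (hwcen _ (hT₁U _ hg)).eq.symm
        exact congrArg Subtype.val (commutatorElement_eq_one_iff_mul_comm.mp hcm)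
      have hb2 : orderOf (b : G) = 2 := by
        have hwo : orderOf wb = 2 := by rw [hwb, orderOf_coe, orderOf_coe, hw]
        rw [orderOf_coe]
        refine orderOf_eq_prime (hinjT _ ?_ ?_) fun h1 => ?_
        · rw [SubmonoidClass.coe_pow]; exact pow_mem hb 2
        · rw [map_pow, hbw]
          exact orderOf_dvd_iff_pow_eq_one.mp hwo.dvd
        · rw [h1, map_one] at hbw
          rw [← hbw, orderOf_one] at hwo
          norm_num at hwo
      refine ⟨y, b, hyT₁, hb, hy, hb2, fun hyb => ?_, ?_⟩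
      · -- the image of `y` is central, but `E` has trivial centre
        have hbot : center ↥E = ⊥ := by
          apply Subgroup.map_injective E.subtype_injective
          rw [hE, map_center_eq_inf, sSup_simple_components_center hsc hss, Subgroup.map_bot]
        have hbc' : (⟨wb, hwE⟩ : ↥E) ∈ center ↥E := by
          rw [mem_center_iff]
          intro e
          refine Subtype.ext ?_
          obtain ⟨c, hc'⟩ := QuotientGroup.mk'_surjective _ (e : ↥(centralizer ({y} : Set G)) ⧸ pPrimeCore 2 ↥(centralizer ({y} : Set G)))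
          have hby : b = ⟨y, mem_centralizer_singleton_iff.mpr rfl⟩ := Subtype.ext hyb.symm
          show (e : ↥(centralizer ({y} : Set G)) ⧸ pPrimeCore 2 ↥(centralizer ({y} : Set G))) * wb = wb * e
          rw [← hc', ← hbw, hby]
          exact (hyb_cent c).eq.symm
        rw [hbot, mem_bot] at hbc'
        have hw1 : wb = 1 := congrArg Subtype.val hbc'
        rw [hwb, OneMemClass.coe_eq_one, OneMemClass.coe_eq_one] at hw1
        rw [hw1, orderOf_one] at hw
        norm_num at hw
      · rw [inf_eq_left.mpr hT₁C, inf_eq_left.mpr hbc]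
        have h3 : 2 ≤ Nat.card H := by
          haveI : Nontrivial ↥H := ⟨⟨⟨y, hyH⟩, 1, fun h => by
            have : y = 1 := congrArg Subtype.val h
            rw [this, orderOf_one] at hy
            norm_num at hy⟩⟩
          exact Finite.one_lt_card
        rw [hcardT₁]
        calc 8 = 2 * 2 ^ 2 := by norm_num
          _ ≤ _ := Nat.mul_le_mul h3 hr
    · refine Or.inr (Or.inr ⟨h2, fun t ht hot => ?_⟩)
      have hp3 : 2 < p := lt_of_le_of_ne hp.out.two_le (Ne.symm h2)
      have hty : t ∈ centralizer ({y} : Set G) := hJ.1 (coreComp_le J T₁ ht)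
      have htT : ∀ g ∈ T₁, Commute t g := fun g hg =>
        (mem_centralizer_iff.mp (coreComp_le_centralizer J T₁ ht) g hg).symm
      have hyt : Commute y t := (htT y hyT₁).symm
      have htK : localElt p y ⟨t, hty⟩ ∈ K₁ :=
        hJi.le (mem_map_of_mem _ (show (⟨t, hty⟩ : ↥(centralizer ({y} : Set G))) ∈ J.subgroupOf _ from
          coreComp_le J T₁ ht))
      have htrace : ∀ M ∈ s, ∃ (Mt : Subgroup G)
          (Kt : Subgroup (↥(centralizer ({t} : Set G)) ⧸ pPrimeCore p ↥(centralizer ({t} : Set G)))),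
          IsPComponentOf p Mt (centralizer ((zpowers y ⊔ zpowers t : Subgroup G) : Set G)) ∧
          Mt ≤ centralizer ({t} : Set G) ∧ localImage p y Mt = M ∧
          IsPumpUp p (localX p y t hyt) (localImage p t Mt) Kt ∧
          localImage p t Mt ≤ centralizer ({localX p y t hyt} : Set _) ∧
          Nat.card Kt ≤ Nat.card (localImage p t Mt) ∧ IsPCompGroup p ↥(localImage p t Mt) ∧
          HasTrace p T₁ t (conjOrbit p (localX p y t hyt) Kt) := by
        intro M hM
        have hMn : Nat.card M = n := by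
          obtain ⟨i, -, rfl⟩ := hM.1
          rw [card_map_conj]
          exact hK₁.1.2.2.1
        obtain ⟨u, hu, hu1, huM⟩ := helem M hM
        obtain ⟨k, hk⟩ := hT₁p ⟨u, hu⟩
        exact exists_trace hc hy hot hyt (hsc M hM) hMn (hss M hM) hty
          (commutator_eq_bot_iff_le_centralizer.mp
            (components_commute hK₁.1.1.1 (hsc M hM) (Ne.symm hM.2)) htK)
          hu (k := k) (Subtype.ext (by simpa using congrArg Subtype.val hk)) hu1 (htT u hu) huM
      have h12 : K₁.map (MulAut.conj (xb ^ 1)).toMonoidHom ≠ K₁.map (MulAut.conj (xb ^ 2)).toMonoidHom := by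
        intro h
        rw [show (2 : ℕ) = 1 + 1 from rfl, pow_add, ← map_conj_map_conj, pow_one] at h
        exact hK₁.2 (map_conj_zpow_fix.mp (map_conj_inj h).symm)
      obtain ⟨MA, KA, hMA, hMAt, hMAy, hKA, hAx, hAc, hAp, hAtr⟩ := htrace _ (hm 1 one_pos hp.out.one_lt)
      obtain ⟨MB, KB, hMB, hMBt, hMBy, hKB, hBx, hBc, hBp, hBtr⟩ := htrace _ (hm 2 two_pos hp3)
      refine ⟨_, _, Set.disjoint_left.mpr fun N hNA hNB => ?_, hAtr, hBtr⟩
      have hxt := localX_pow (p := p) hyt hy
      have hKBA : KB ∈ conjOrbit p (localX p y t hyt) KA := by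
        rw [← conjOrbit_eq_of_mem hxt hNA, conjOrbit_eq_of_mem hxt hNB]
        exact mem_conjOrbit_self _ _
      have heq := hKA.eq_of_orbit hxt hKB hAc hBc hBx (pCompGroup_subgroup_perfect hBp) hKBA
      have hne : MA ≠ MB := fun h => h12 (by rw [← hMAy, ← hMBy, h])
      have hW : (Nat.card ((pPrimeCore p ↥(centralizer ((zpowers y ⊔ zpowers t : Subgroup G) : Set G))).map
          (centralizer ((zpowers y ⊔ zpowers t : Subgroup G) : Set G)).subtype)).Coprime p := by
        rw [card_map_of_injective (Subgroup.subtype_injective _)]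
        exact Core.coprime_card_pPrimeCore
      have hcop := coprime_card_commutator_image (y := t) hMAt hMBt hW (commutator_compsOf_le hMA hMB hne)
      rw [← heq, pCompGroup_subgroup_perfect hAp] at hcop
      have hbot := eq_bot_of_pCompGroup_coprime hAp (f := MonoidHom.id _) (by rw [Subgroup.map_id]) hcop
      rw [Subgroup.map_id] at hbot
      haveI := qs_nontrivial hAp.2
      exact (nontrivial_iff_ne_bot _).mp (QuotientGroup.mk'_surjective
        (pPrimeCore p ↥(localImage p t MA))).nontrivial hbot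
  · intro hTy
    have h1 : R = T := inf_eq_left.mpr hTy
    have h2 := card_le_fixer hT hK₁.1 (inf_le_left : R ≤ T) hxR hyR (inf_le_right : R ≤ _)
    rw [← hH] at h2
    rw [show T ⊓ centralizer ({y} : Set G) = T from h1] at h2
    rw [hcardT₁]
    have h3 : 0 < Nat.card H := Nat.card_pos
    have h4 := hp.out.two_le
    calc Nat.card T ≤ p * Nat.card H := h2
      _ < p ^ 2 * Nat.card H := by
          refine Nat.mul_lt_mul_of_pos_right ?_ h3
          nlinarith
      _ ≤ _ := by rw [mul_comm (p ^ 2)]; exact Nat.mul_le_mul_left _ hr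

end Cfsg.Agent.Layer
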