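import Cfsg.Agent.Layer.Intrinsic
import Cfsg.Agent.Fusion.PGroup
import Cfsg.Prelude.Def_ClassificationStages

/-!
Terminal and `p`-terminal pairs.
-/

set_option autoImplicit false
set_option linter.style.haveILetI false

namespace Cfsg.Agent.Layer

open Subgroup Cfsg
open scoped commutatorElement

universe u

variable {G : Type u} [Group G] {p : ℕ}

theorem isPComponent_conjAut [Finite G] [Fact p.Prime] {y : G} {K : Subgroup G} (g : G)
    (h : IsPComponentOf p K (centralizer ({y} : Set G))) :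
    IsPComponentOf p (K.map (MulAut.conj g).toMonoidHom) (centralizer ({g * y * g⁻¹} : Set G)) := by
  have hC : (centralizer ({y} : Set G)).map (MulAut.conj g).toMonoidHom =
      centralizer ({g * y * g⁻¹} : Set G) := by
    ext x
    rw [mem_map_conj, mem_centralizer_singleton_iff, mem_centralizer_singleton_iff]
    constructor <;> intro hx
    · calc x * (g * y * g⁻¹) = g * (g⁻¹ * x * g * y) * g⁻¹ := by group
        _ = g * (y * (g⁻¹ * x * g)) * g⁻¹ := by rw [hx]
        _ = _ := by group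
    · calc g⁻¹ * x * g * y = g⁻¹ * (x * (g * y * g⁻¹)) * g := by group
        _ = g⁻¹ * ((g * y * g⁻¹) * x) * g := by rw [hx]
        _ = _ := by group
  refine ⟨hC ▸ map_mono h.1, ?_⟩
  let e : ↥(centralizer ({y} : Set G)) ≃* ↥(centralizer ({g * y * g⁻¹} : Set G)) :=
    (equivMapOfInjective _ (MulAut.conj g).toMonoidHom (MulAut.conj g).injective).trans
      (MulEquiv.subgroupCongr hC)
  have h2 := pLayer_characteristic_aux e h.2
  convert h2 using 1
  ext x
  constructor
  · rintro ⟨k, hk, hkx⟩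
    exact ⟨⟨k, h.1 hk⟩, hk, Subtype.ext hkx⟩
  · rintro ⟨k, hk, rfl⟩
    exact ⟨k, hk, rfl⟩

theorem isPComponentOf_iff [Finite G] [Fact p.Prime] {K C : Subgroup G} :
    IsPComponentOf p K C ↔ K ≤ C ∧ (K.subgroupOf C).IsSubnormal ∧ IsPCompGroup p ↥K :=
  ⟨fun h => ⟨h.1, (isPComponent_subgroupOf_iff h.1).mp h.2⟩,
    fun h => ⟨h.1, (isPComponent_subgroupOf_iff h.1).mpr h.2⟩⟩

theorem mem_centralizerOfPComponent_iff {x : G} {K : Subgroup G}
    (hKC : K ≤ centralizer ({x} : Set G)) {g : G} :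
    g ∈ centralizerOfPComponent p x K ↔
      g ∈ centralizer ({x} : Set G) ∧ ∀ k ∈ K, ⁅g, k⁆ ∈ centralizerPPrimeCore p x := by
  constructor
  · rintro ⟨c, hc, rfl⟩
    refine ⟨c.2, fun k hk => ⟨⁅c, (⟨k, hKC hk⟩ : ↥(centralizer ({x} : Set G)))⁆, ?_, rfl⟩⟩
    rw [SetLike.mem_coe, ← QuotientGroup.ker_mk' (pPrimeCore p ↥(centralizer ({x} : Set G))),
      MonoidHom.mem_ker, map_commutatorElement, commutatorElement_eq_one_iff_mul_comm]
    exact (mem_centralizer_iff.mp hc _ (mem_map_of_mem _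
      (show (⟨k, hKC hk⟩ : ↥(centralizer ({x} : Set G))) ∈ K.subgroupOf _ from hk))).symm
  · rintro ⟨hgC, hg⟩
    refine ⟨⟨g, hgC⟩, mem_centralizer_iff.mpr ?_, rfl⟩
    rintro _ ⟨k, hk, rfl⟩
    obtain ⟨c, hc, hck⟩ := hg k hk
    have e : c = ⁅(⟨g, hgC⟩ : ↥(centralizer ({x} : Set G))), k⁆ := Subtype.ext hck
    have h1 : QuotientGroup.mk' (pPrimeCore p ↥(centralizer ({x} : Set G)))
        ⁅(⟨g, hgC⟩ : ↥(centralizer ({x} : Set G))), k⁆ = 1 := by
      rw [← MonoidHom.mem_ker, QuotientGroup.ker_mk']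
      exact e ▸ hc
    rw [map_commutatorElement, commutatorElement_eq_one_iff_mul_comm] at h1
    exact h1.symm

theorem centralizerOfPComponent_le_normalizer [Finite G] [Fact p.Prime] {x : G} {K : Subgroup G}
    (hK : IsPComponentOf p K (centralizer ({x} : Set G))) :
    centralizerOfPComponent p x K ≤ normalizer (K : Set G) := by
  rintro _ ⟨c, hc, rfl⟩
  have h2 : c ∈ (normalizer ((((K.subgroupOf (centralizer ({x} : Set G))).map
      (QuotientGroup.mk' (pPrimeCore p _))) : Subgroup _) : Set _)).comap (QuotientGroup.mk' (pPrimeCore p _)) :=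
    centralizer_le_normalizer _ hc
  have h3 := normalizer_le_normalizer_pElemClosure (p := p) _ (le_normalizer_comap _ h2)
  have h4 := eq_pComponentOver hK.2
  unfold pComponentOver at h4
  rw [h4] at h3
  refine mem_normalizer_of_conj_mem fun k hk => ?_
  exact (mem_normalizer_iff.mp h3 ⟨k, hK.1 hk⟩).mp hk

theorem centralizerOfPComponent_le_centralizer [Finite G] [Fact p.Prime] {x : G} {K : Subgroup G}
    (hK : IsPComponentOf p K (centralizer ({x} : Set G)))
    (hc : ⁅K, centralizerPPrimeCore p x⁆ = ⊥) :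
    centralizerOfPComponent p x K ≤ centralizer (K : Set G) := by
  intro g hg
  have hp' := (isPComponentOf_iff.mp hK).2.2
  refine mem_centralizer_of_commutator_central (pCompGroup_subgroup_perfect hp') fun k hk =>
    mem_inf.mpr ⟨?_, ?_⟩
  · exact mul_mem ((mem_normalizer_iff.mp (centralizerOfPComponent_le_normalizer hK hg) k).mp hk)
      (inv_mem hk)
  · exact commutator_eq_bot_iff_le_centralizer.mp (commutator_eq_bot_symm hc)
      (((mem_centralizerOfPComponent_iff hK.1).mp hg).2 k hk)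

theorem centralizer_inf_le_centralizerOfPComponent {x : G} {K : Subgroup G}
    (hKC : K ≤ centralizer ({x} : Set G)) :
    centralizer (K : Set G) ⊓ centralizer ({x} : Set G) ≤ centralizerOfPComponent p x K := by
  intro g hg
  refine (mem_centralizerOfPComponent_iff hKC).mpr ⟨hg.2, fun k hk => ?_⟩
  rw [commutatorElement_eq_one_iff_mul_comm.mpr (mem_centralizer_iff.mp hg.1 k hk).symm]
  exact one_mem _

theorem isComponentOf_iff_pComponentOf [Finite G] [Fact p.Prime] {K : Subgroup G} {x : G}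
    (hK : IsPComponentOf p K (centralizer ({x} : Set G)))
    (hc : ⁅K, centralizerPPrimeCore p x⁆ = ⊥) : IsComponentOf K (centralizer ({x} : Set G)) := by
  obtain ⟨hKC, hsn, hp'⟩ := isPComponentOf_iff.mp hK
  refine ⟨hKC, hsn, isQuasisimple_congr (subgroupOfEquivOfLe hKC).symm
    (isQuasisimple_of_commutator_eq_bot hp' (le_bot_iff.mp ?_))⟩
  rw [← hc]
  refine commutator_mono le_rfl ?_
  rintro _ ⟨k, hk, rfl⟩
  refine ⟨⟨k, hKC k.2⟩, ?_, rfl⟩
  have h := (map_pPrimeCore_eq_inf (p := p) hK.2.1).le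
  have h2 : (⟨⟨(k : G), hKC k.2⟩, k.2⟩ : ↥(K.subgroupOf (centralizer ({x} : Set G)))) ∈
      pPrimeCore p ↥(K.subgroupOf (centralizer ({x} : Set G))) :=
    Core.map_pPrimeCore_le (subgroupOfEquivOfLe hKC).symm ⟨k, hk, rfl⟩
  exact (h ⟨_, h2, rfl⟩).2

theorem commutator_core_eq_bot_of_componentOf [Finite G] [Fact p.Prime] {K : Subgroup G} {y : G}
    (hK : IsComponentOf K (centralizer ({y} : Set G))) (hp : p ∣ Nat.card K) :
    ⁅K, centralizerPPrimeCore p y⁆ = ⊥ := by
  have h := (component_le_or_commute hK.2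
    (Subgroup.Normal.isSubnormal (inferInstance : (pPrimeCore p ↥(centralizer ({y} : Set G))).Normal))).resolve_left
      (fun h => Core.not_dvd_card_pPrimeCore (p := p) (G := ↥(centralizer ({y} : Set G)))
        (hp.trans ((Nat.card_congr (subgroupOfEquivOfLe hK.1).toEquiv).symm ▸ card_dvd_of_le h)))
  have h2 := congrArg (Subgroup.map (centralizer ({y} : Set G)).subtype) h
  rwa [map_commutator, map_subgroupOf_eq_of_le hK.1, Subgroup.map_bot] at h2

/-- In a `p`-terminal pair whose component centralises the relevant cores, `K` is a component of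
every centraliser commuting with `x`. -/
theorem isComponentOf_of_pTerminal [Finite G] [hp : Fact p.Prime] {x y : G} {K : Subgroup G}
    (hT : IsPTerminal p x K) (hq : IsQuasisimple ↥K) (hyK : y ∈ centralizer (K : Set G))
    (hyx : y ∈ centralizer ({x} : Set G)) (hy : orderOf y = p)
    (hc : ⁅K, centralizerPPrimeCore p y⁆ = ⊥) :
    IsComponentOf K (centralizer ({y} : Set G)) ∧ IsPComponentOf p K (centralizer ({y} : Set G)) := by
  obtain ⟨hx, hK, h1, -⟩ := hT
  obtain ⟨hKC, hKsn, hKp⟩ := isPComponentOf_iff.mp hK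
  obtain ⟨J, hJ, hle, ⟨e⟩⟩ := h1 y (centralizer_inf_le_centralizerOfPComponent hKC ⟨hyK, hyx⟩) hy
  obtain ⟨hJC, hJsn, hJp⟩ := isPComponentOf_iff.mp hJ
  have hKy : K ≤ centralizer ({y} : Set G) := fun k hk =>
    mem_centralizer_singleton_iff.mpr (mem_centralizer_iff.mp hyK k hk)
  have hKJ : K ≤ J := by
    refine le_trans ?_ hle
    rw [pLayerOf, inf_eq_left.mpr hKy]
    have htop : IsPComponent p (⊤ : Subgroup ↥K) :=
      isPComponent_iff_intrinsic.mpr ⟨IsSubnormal.top, isPCompGroup_congr topEquiv.symm hKp⟩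
    calc K = (⊤ : Subgroup ↥K).map K.subtype := by rw [← MonoidHom.range_eq_map, range_subtype]
      _ ≤ _ := map_mono (pComponent_le_pLayer htop)
  set O := (pPrimeCore p ↥J).map J.subtype with hO
  have hOW : O ≤ centralizerPPrimeCore p y := by
    rintro _ ⟨j, hj, rfl⟩
    refine ⟨⟨j, hJC j.2⟩, ?_, rfl⟩
    have h2 : (⟨⟨(j : G), hJC j.2⟩, j.2⟩ : ↥(J.subgroupOf (centralizer ({y} : Set G)))) ∈
        pPrimeCore p ↥(J.subgroupOf (centralizer ({y} : Set G))) :=
      Core.map_pPrimeCore_le (subgroupOfEquivOfLe hJC).symm ⟨j, hj, rfl⟩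
    exact ((map_pPrimeCore_eq_inf hJ.2.1).le ⟨_, h2, rfl⟩).2
  set f := (QuotientGroup.mk' (pPrimeCore p ↥J)).comp (inclusion hKJ) with hf
  have hkle : f.ker ≤ pPrimeCore p ↥K := by
    have hn : f.ker.Normal := f.normal_ker
    refine Core.le_pPrimeCore (hN := hn) ?_
    rw [← card_map_of_injective (inclusion_injective hKJ)]
    refine Core.coprime_card_pPrimeCore.coprime_dvd_left (card_dvd_of_le ?_)
    rintro _ ⟨k, hk, rfl⟩
    exact (QuotientGroup.eq_one_iff _).mp hk
  have hsurj : Function.Surjective f := by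
    rw [← MonoidHom.range_eq_top, ← card_eq_iff_eq_top]
    refine le_antisymm (Finite.card_subtype_le _) ?_
    rw [Nat.card_congr e.toEquiv, ← index_ker f]
    exact Nat.le_of_dvd (Nat.pos_of_ne_zero index_ne_zero_of_finite) (index_dvd_of_le hkle)
  have hJKO : J ≤ K ⊔ O := by
    intro j hj
    obtain ⟨k, hk⟩ := hsurj (QuotientGroup.mk' _ ⟨j, hj⟩)
    rw [← mul_inv_cancel_left (k : G) j]
    exact mul_mem_sup k.2 ⟨_, QuotientGroup.eq.mp hk, rfl⟩
  have hJeq : J = K := by
    refine le_antisymm ?_ hKJ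
    rw [← (pElemClosure_top_eq_top_iff J).mp hJp.1]
    have hn : J ≤ normalizer (K : Set G) := hJKO.trans (sup_le le_normalizer
      ((hOW.trans (commutator_eq_bot_iff_le_centralizer.mp (commutator_eq_bot_symm hc))).trans
        (centralizer_le_normalizer _)))
    haveI : (K.subgroupOf J).Normal := (normal_subgroupOf_iff_le_normalizer hKJ).mpr hn
    have hcov : (⊤ : Subgroup ↥J) ≤ K.subgroupOf J ⊔ pPrimeCore p ↥J := by
      intro j _
      have h3 : (j : G) ∈ K ⊔ O := hJKO j.2
      rw [← map_subgroupOf_eq_of_le hKJ, hO, ← Subgroup.map_sup] at h3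
      obtain ⟨j', hj', hjj⟩ := h3
      rwa [← Subtype.ext hjj]
    refine le_trans ?_ ((map_mono (pElemClosure_le_of_cover (T := (⊤ : Subgroup ↥J))
      Core.coprime_card_pPrimeCore (Subgroup.Normal.isSubnormal inferInstance) hcov)).trans
        (map_subgroupOf_eq_of_le hKJ).le)
    rw [map_pElemClosure_top]
  subst hJeq
  exact ⟨⟨hKy, hJsn, isQuasisimple_congr (subgroupOfEquivOfLe hKy).symm hq⟩, hJ⟩

/-- The Sylow subgroup of the centraliser of `K̄` is Sylow in `C_G(K)`. -/
theorem isTerminalPair_of_pTerminal [Finite G] [hp : Fact p.Prime] {x : G} {K : Subgroup G}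
    (hT : IsPTerminal p x K)
    (hc : ∀ y ∈ centralizer (K : Set G), orderOf y = p → ⁅K, centralizerPPrimeCore p y⁆ = ⊥) :
    IsTerminalPair p x K := by
  have hx := hT.1
  have hK := hT.2.1
  have h2 := hT.2.2.2
  obtain ⟨hKC, hKsn, hKp⟩ := isPComponentOf_iff.mp hK
  have hxK : x ∈ centralizer (K : Set G) :=
    mem_centralizer_iff.mpr fun k hk => mem_centralizer_singleton_iff.mp (hKC hk)
  have hxx : x ∈ centralizer ({x} : Set G) := mem_centralizer_singleton_iff.mpr rfl
  have hcomp := isComponentOf_iff_pComponentOf hK (hc x hxK hx)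
  have hq : IsQuasisimple ↥K := isQuasisimple_congr (subgroupOfEquivOfLe hKC) hcomp.2.2
  refine ⟨hx, hcomp, (Nat.card_congr (subgroupOfEquivOfLe hKC).toEquiv) ▸ dvd_card_pComponent hK.2, ?_⟩
  set D := centralizerOfPComponent p x K with hD
  have hDc : D = centralizer (K : Set G) ⊓ centralizer ({x} : Set G) :=
    le_antisymm (le_inf (centralizerOfPComponent_le_centralizer hK (hc x hxK hx))
      (map_subtype_le _)) (centralizer_inf_le_centralizerOfPComponent hKC)
  obtain ⟨Q⟩ := (inferInstance : Nonempty (Sylow p ↥D))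
  set Q' := (Q : Subgroup ↥D).map D.subtype with hQ'
  have hQD : Q' ≤ D := map_subtype_le _
  have hQp : IsPGroup p ↥Q' := Q.isPGroup'.map D.subtype
  have hxQ : x ∈ Q' := by
    obtain ⟨g, hg, hgx⟩ := exists_conj_mem_sylow Q (hDc ▸ mem_inf.mpr ⟨hxK, hxx⟩ : x ∈ D)
      (k := 1) (by rw [pow_one, ← hx]; exact pow_orderOf_eq_one x)
    rw [mem_centralizer_singleton_iff.mp (hDc.le hg).2, mul_inv_cancel_right] at hgx
    exact hgx
  set C := centralizer (K : Set G) with hC
  have hQC : Q' ≤ C := hQD.trans (hDc.le.trans inf_le_left)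
  obtain ⟨S, hS⟩ := (hQp.comap_of_injective C.subtype C.subtype_injective).exists_le_sylow
  set S' := (S : Subgroup ↥C).map C.subtype with hS'
  have hQS : Q' ≤ S' := by
    rw [← map_subgroupOf_eq_of_le hQC]
    exact map_mono hS
  have hSC : S' ≤ C := map_subtype_le _
  have hSp : IsPGroup p ↥S' := S.isPGroup'.map C.subtype
  have hSQ : S' ≤ Q' := by
    by_contra hne
    set P := S' ⊓ normalizer (Q' : Set G) with hP
    have hlt : ¬ P ≤ Q' := by
      intro h
      apply hne
      have hnc := hSp.isNilpotent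
      have hnorm : normalizer ((Q'.subgroupOf S' : Subgroup ↥S') : Set ↥S') = Q'.subgroupOf S' := by
        refine le_antisymm ?_ le_normalizer
        intro s hs
        refine h ⟨s.2, mem_normalizer_of_conj_mem fun q hq => ?_⟩
        exact (mem_normalizer_iff.mp hs ⟨q, hQS hq⟩).mp hq
      exact subgroupOf_eq_top.mp (normalizerCondition_iff_only_full_group_self_normalizing.mp
        Group.normalizerCondition_of_isNilpotent _ hnorm)
    have hQP : Q' ≤ P := le_inf hQS le_normalizer
    set ZQ := (Q' ⊓ centralizer (Q' : Set G)).subgroupOf P with hZQ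
    haveI : ZQ.Normal := (normal_subgroupOf_iff_le_normalizer (inf_le_left.trans hQP)).mpr
      (le_normalizer_inf inf_le_right (inf_le_right.trans (Coprime.le_normalizer_centralizer le_rfl)))
    have hxDc : ∀ d ∈ D, x * d = d * x := fun d hd =>
      (mem_centralizer_singleton_iff.mp (hDc.le hd).2).symm
    have hne' : ZQ ≠ ⊥ := by
      intro h
      have hx1 : x ∈ Q' ⊓ centralizer (Q' : Set G) :=
        mem_inf.mpr ⟨hxQ, mem_centralizer_iff.mpr fun q hq => (hxDc q (hQD hq)).symm⟩
      have h1 : (⟨x, hQP hxQ⟩ : ↥P) ∈ ZQ := hx1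
      rw [h, mem_bot] at h1
      have : x = 1 := congrArg Subtype.val h1
      rw [this, orderOf_one] at hx
      exact hp.out.ne_one hx.symm
    have hPp : IsPGroup p ↥P := hSp.to_le inf_le_left
    have hmeet := Fusion.pGroup_inf_center_ne_bot hPp ZQ hne'
    haveI : Nontrivial ↥(ZQ ⊓ center ↥P) := (nontrivial_iff_ne_bot _).mpr hmeet
    obtain ⟨w, hw⟩ := exists_prime_orderOf_dvd_card' (G := ↥(ZQ ⊓ center ↥P)) p (by
      obtain ⟨n, hn⟩ := IsPGroup.iff_card.mp (hPp.to_subgroup (ZQ ⊓ center ↥P))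
      rw [hn]
      refine dvd_pow_self p fun h0 => ?_
      rw [h0, pow_zero] at hn
      exact absurd hn (Finite.one_lt_card).ne')
    set y : G := ((w : ↥P) : G) with hy
    have hyo : orderOf y = p := by rw [hy, orderOf_coe, orderOf_coe, hw]
    obtain ⟨hyZ, hyc⟩ := w.2
    have hyQ : y ∈ Q' := (show y ∈ Q' ⊓ centralizer (Q' : Set G) from hyZ).1
    have hyD : y ∈ D := hQD hyQ
    have hyK : y ∈ C := hQC hyQ
    obtain ⟨-, hKpy⟩ := isComponentOf_of_pTerminal hT hq hyK (hDc.le hyD).2 hyo (hc y hyK hyo)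
    have hle : pLayerOf p (K ⊓ centralizer ({y} : Set G)) ≤ K := (map_subtype_le _).trans inf_le_left
    obtain ⟨hQy, hidx⟩ := h2 Q y hyQ
      (fun z hz => mem_centralizer_iff.mp (show y ∈ Q' ⊓ centralizer (Q' : Set G) from hyZ).2 z hz)
      hyo K hKpy hle
    have hPy : P ≤ centralizerOfPComponent p y K := by
      refine le_trans (le_inf (inf_le_left.trans hSC) fun s hs => ?_)
        (centralizer_inf_le_centralizerOfPComponent hKpy.1)
      exact mem_centralizer_singleton_iff.mpr (congrArg Subtype.val (mem_center_iff.mp hyc ⟨s, hs⟩))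
    have hdvd : (Q'.subgroupOf P).index ∣ Q'.relIndex (centralizerOfPComponent p y K) :=
      dvd_of_mul_right_eq _ (relIndex_mul_relIndex Q' P _ hQP hPy)
    obtain ⟨n, hn⟩ := IsPGroup.iff_card.mp hPp
    obtain ⟨m, -, hm⟩ := (Nat.dvd_prime_pow hp.out).mp (hn ▸ index_dvd_card (Q'.subgroupOf P))
    rcases Nat.eq_zero_or_pos m with rfl | hm0
    · exact hlt (subgroupOf_eq_top.mp (index_eq_one.mp (by rw [hm, pow_zero])))
    · exact hidx (((dvd_pow_self p hm0.ne').trans (dvd_of_eq hm.symm)).trans hdvd)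
  intro y hy hyo
  obtain ⟨g, hg, hgy⟩ := exists_conj_mem_sylow S hy (k := 1)
    (by rw [pow_one, ← hyo]; exact pow_orderOf_eq_one y)
  have hyD := hDc.le (hQD (hSQ hgy))
  have hyo' : orderOf (g * y * g⁻¹) = p := by
    rw [← MulAut.conj_apply, MulEquiv.orderOf_eq]
    exact hyo
  obtain ⟨-, hp2⟩ := isComponentOf_of_pTerminal hT hq hyD.1 hyD.2 hyo' (hc _ hyD.1 hyo')
  have h3 := isPComponent_conjAut g⁻¹ hp2
  rw [show g⁻¹ * (g * y * g⁻¹) * g⁻¹⁻¹ = y by group,
    (show K.map (MulAut.conj g⁻¹).toMonoidHom = K from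
      map_conj_zpow_fix.mpr (centralizer_le_normalizer _ (inv_mem hg)))] at h3
  exact isComponentOf_iff_pComponentOf h3 (hc y hy hyo)

end Cfsg.Agent.Layer
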