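import Cfsg.Agent.Layer.NonQsBalance
import Cfsg.Agent.Layer.Terminal

/-!
Pumping up of `p`-components: a component of the centraliser of an element of order `p` either lies
in a component or is diagonal in an orbit of length `p` of components.
-/

set_option autoImplicit false
set_option linter.style.haveILetI false

namespace Cfsg.Agent.Layer

open Subgroup Cfsg
open scoped commutatorElement

universe u

variable {G : Type u} [Group G] {p : ℕ}

/-- The orbit of `K` under the powers of `x`. -/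
def conjOrbit (p : ℕ) (x : G) (K : Subgroup G) : Set (Subgroup G) :=
  {K' | ∃ i, i < p ∧ K' = K.map (MulAut.conj (x ^ i)).toMonoidHom}

/-- The conjugates of `K` by nontrivial powers of `x` centralise `K`. -/
def SplitOrbit (p : ℕ) (x : G) (K : Subgroup G) : Prop :=
  ∀ i, 0 < i → i < p → K.map (MulAut.conj (x ^ i)).toMonoidHom ≤ centralizer (K : Set G)

theorem mem_conjOrbit_self [hp : Fact p.Prime] (x : G) (K : Subgroup G) : K ∈ conjOrbit p x K :=
  ⟨0, hp.out.pos, by rw [pow_zero, map_conj_one]⟩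

theorem eq_pow_mul_of_coprime [hp : Fact p.Prime] {x : G} (hx : orderOf x = p) {i : ℕ}
    (hi0 : 0 < i) (hip : i < p) : ∃ m : ℕ, x = (x ^ i) ^ m := by
  have hcop : i.Coprime p := (Nat.coprime_of_lt_prime hi0.ne' hip hp.out).symm
  obtain ⟨m, -, hm⟩ := Nat.exists_mul_mod_eq_gcd (n := i) (k := p)
    (by rw [hcop.gcd_eq_one]; exact hp.out.one_lt)
  rw [hcop.gcd_eq_one] at hm
  refine ⟨m, ?_⟩
  rw [← pow_mul, ← Nat.mod_add_div (i * m) p, hm, pow_add, pow_mul,
    show x ^ p = 1 from hx ▸ pow_orderOf_eq_one x, one_pow, mul_one, pow_one]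

theorem pow_not_mem_normalizer [hp : Fact p.Prime] {x : G} (hx : orderOf x = p) {K : Subgroup G}
    (hmove : x ∉ normalizer (K : Set G)) {i : ℕ} (hi0 : 0 < i) (hip : i < p) :
    K.map (MulAut.conj (x ^ i)).toMonoidHom ≠ K := fun h => by
  obtain ⟨m, hm⟩ := eq_pow_mul_of_coprime hx hi0 hip
  exact hmove (hm ▸ pow_mem (map_conj_zpow_fix.mp h) m)

theorem splitOrbit_of_moved [Finite G] [Fact p.Prime] {x : G} (hx : orderOf x = p) {K : Subgroup G}
    (hK : IsComponent K) (hmove : x ∉ normalizer (K : Set G)) : SplitOrbit p x K := fun _ hi0 hip =>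
  commutator_eq_bot_iff_le_centralizer.mp
    (components_commute (isComponent_map_conj hK _) hK (pow_not_mem_normalizer hx hmove hi0 hip))

theorem SplitOrbit.mem {x : G} {K : Subgroup G} (h : SplitOrbit p x K) {i : ℕ} (hi0 : 0 < i)
    (hip : i < p) {a : G} (ha : a ∈ K) : x ^ i * a * (x ^ i)⁻¹ ∈ centralizer (K : Set G) :=
  h i hi0 hip ⟨a, ha, rfl⟩

theorem SplitOrbit.commute {x : G} {K : Subgroup G} (h : SplitOrbit p x K) {i n : ℕ} (hin : i < n)
    (hnp : n < p) {a b : G} (ha : a ∈ K) (hb : b ∈ K) :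
    Commute (x ^ i * b * (x ^ i)⁻¹) (x ^ n * a * (x ^ n)⁻¹) := by
  have h1 : Commute b (x ^ (n - i) * a * (x ^ (n - i))⁻¹) :=
    mem_centralizer_iff.mp (h.mem (by omega) (by omega) ha) b hb
  have h2 := h1.map (MulAut.conj (x ^ i))
  rwa [MulAut.conj_apply, MulAut.conj_apply,
    show x ^ i * (x ^ (n - i) * a * (x ^ (n - i))⁻¹) * (x ^ i)⁻¹ =
      x ^ i * x ^ (n - i) * a * (x ^ i * x ^ (n - i))⁻¹ by group,
    ← pow_add, show i + (n - i) = n by omega] at h2

theorem diag_mul {x : G} {K : Subgroup G} (h : SplitOrbit p x K) {a b : G} (ha : a ∈ K) (hb : b ∈ K) :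
    ∀ n, n ≤ p → (a * b * x) ^ n * (x ^ n)⁻¹ =
      ((a * x) ^ n * (x ^ n)⁻¹) * ((b * x) ^ n * (x ^ n)⁻¹)
  | 0, _ => by simp
  | n + 1, hn => by
    have ih := diag_mul h ha hb n (by omega)
    have hcm : Commute (x ^ n * a * (x ^ n)⁻¹) ((b * x) ^ n * (x ^ n)⁻¹) := by
      have hmem : (b * x) ^ n * (x ^ n)⁻¹ ∈ centralizer ({x ^ n * a * (x ^ n)⁻¹} : Set G) :=
        mul_pow_mem n fun i hi => mem_centralizer_singleton_iff.mpr (h.commute hi (by omega) ha hb).eq
      exact (mem_centralizer_singleton_iff.mp hmem).symm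
    have e : ∀ c : G, (c * x) ^ (n + 1) * (x ^ (n + 1))⁻¹ =
        ((c * x) ^ n * (x ^ n)⁻¹) * (x ^ n * c * (x ^ n)⁻¹) := fun c => by
      rw [pow_succ (c * x), pow_succ x]
      group
    rw [e, e, e, ih, show x ^ n * (a * b) * (x ^ n)⁻¹ = (x ^ n * a * (x ^ n)⁻¹) * (x ^ n * b * (x ^ n)⁻¹) by group]
    calc ((a * x) ^ n * (x ^ n)⁻¹) * ((b * x) ^ n * (x ^ n)⁻¹) * ((x ^ n * a * (x ^ n)⁻¹) * (x ^ n * b * (x ^ n)⁻¹))
        = ((a * x) ^ n * (x ^ n)⁻¹) * (((b * x) ^ n * (x ^ n)⁻¹) * (x ^ n * a * (x ^ n)⁻¹)) * (x ^ n * b * (x ^ n)⁻¹) := by group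
      _ = _ := by rw [← hcm.eq]; group

/-- The diagonal embedding of `K` in the product of its conjugates under `x`. -/
def diagHom (p : ℕ) (x : G) (K : Subgroup G) (hx : x ^ p = 1) (h : SplitOrbit p x K) : ↥K →* G where
  toFun k := ((k : G) * x) ^ p
  map_one' := by simp [hx]
  map_mul' a b := by simpa [hx] using diag_mul h a.2 b.2 p le_rfl

theorem diagHom_apply {x : G} {K : Subgroup G} (hx : x ^ p = 1) (h : SplitOrbit p x K) (k : ↥K) :
    diagHom p x K hx h k = ((k : G) * x) ^ p := rfl

theorem diag_mem_sSup [Fact p.Prime] {x : G} {K : Subgroup G} (hx : x ^ p = 1)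
    (h : SplitOrbit p x K) (k : ↥K) : diagHom p x K hx h k ∈ sSup (conjOrbit p x K) := by
  have h1 := mul_pow_mem (k := (k : G)) (z := x) (D := sSup (conjOrbit p x K)) p fun i hi =>
    (le_sSup (s := conjOrbit p x K) ⟨i, hi, rfl⟩) ⟨(k : G), k.2, rfl⟩
  rwa [hx, inv_one, mul_one] at h1

theorem inv_mul_diag_mem [hp : Fact p.Prime] {x : G} {K : Subgroup G} (hx : x ^ p = 1)
    (h : SplitOrbit p x K) (k : ↥K) :
    (k : G)⁻¹ * diagHom p x K hx h k ∈ centralizer (K : Set G) := by
  obtain ⟨q, hq⟩ : ∃ q, p = q + 1 := ⟨p - 1, by have := hp.out.two_le; omega⟩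
  have hstep : ∀ n, n + 1 ≤ p → (k : G)⁻¹ * (((k : G) * x) ^ (n + 1) * (x ^ (n + 1))⁻¹) ∈
      centralizer (K : Set G) := by
    intro n
    induction n with
    | zero => intro _; simp
    | succ n ih =>
      intro hn
      have e : (k : G)⁻¹ * (((k : G) * x) ^ (n + 1 + 1) * (x ^ (n + 1 + 1))⁻¹) =
          ((k : G)⁻¹ * (((k : G) * x) ^ (n + 1) * (x ^ (n + 1))⁻¹)) *
            (x ^ (n + 1) * (k : G) * (x ^ (n + 1))⁻¹) := by
        rw [pow_succ ((k : G) * x) (n + 1), pow_succ x (n + 1)]
        group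
      rw [e]
      exact mul_mem (ih (by omega)) (h.mem (Nat.succ_pos n) (by omega) k.2)
  have := hstep q hq.ge
  rwa [← hq, hx, inv_one, mul_one] at this

theorem diag_commute [Fact p.Prime] {x : G} {K : Subgroup G} (hx : x ^ p = 1)
    (h : SplitOrbit p x K) (k : ↥K) : Commute x (diagHom p x K hx h k) := by
  have hk : Commute (k : G) (diagHom p x K hx h k) := by
    have h1 := mul_pow_mem (k := (k : G)) (z := x) (D := centralizer (K : Set G) ⊔ zpowers (k : G)) p
      fun i hi => by
        rcases Nat.eq_zero_or_pos i with rfl | hi0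
        · simpa using mem_sup_right (S := centralizer (K : Set G)) (mem_zpowers (k : G))
        · exact mem_sup_left (h.mem hi0 hi k.2)
    rw [hx, inv_one, mul_one] at h1
    have h2 : centralizer (K : Set G) ⊔ zpowers (k : G) ≤ centralizer ({(k : G)} : Set G) :=
      sup_le (centralizer_le (Set.singleton_subset_iff.mpr k.2))
        (zpowers_le.mpr (mem_centralizer_singleton_iff.mpr rfl))
    exact (mem_centralizer_singleton_iff.mp (h2 h1)).symm
  have h2 := hk.inv_left.mul_left (Commute.self_pow ((k : G) * x) p)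
  rwa [inv_mul_cancel_left] at h2

theorem commute_diag_of_conj {x g : G} {K : Subgroup G} (hx : x ^ p = 1) (h : SplitOrbit p x K)
    (hgx : g * x = x * g) {k k' : ↥K} (hk : g * (k : G) * g⁻¹ = (k' : G)) :
    g * diagHom p x K hx h k * g⁻¹ = diagHom p x K hx h k' := by
  rw [diagHom_apply, diagHom_apply, ← conj_pow, ← hk]
  congr 1
  calc g * ((k : G) * x) * g⁻¹ = g * (k : G) * g⁻¹ * (g * x * g⁻¹) := by group
    _ = g * (k : G) * g⁻¹ * x := by rw [hgx, mul_inv_cancel_right]

theorem centralizes_sSup_conjOrbit {x e : G} {K : Subgroup G} (hex : e * x = x * e)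
    (he : e ∈ centralizer (K : Set G)) : e ∈ centralizer ((sSup (conjOrbit p x K) : Subgroup G) : Set G) := by
  have h1 : sSup (conjOrbit p x K) ≤ centralizer ({e} : Set G) := by
    refine sSup_le ?_
    rintro _ ⟨i, -, rfl⟩ _ ⟨k, hk, rfl⟩
    have hc : Commute e (x ^ i) := Commute.pow_right hex i
    have hk' : Commute e k := (mem_centralizer_iff.mp he k hk).symm
    exact mem_centralizer_singleton_iff.mpr ((hc.mul_right hk').mul_right hc.inv_right).eq.symm
  exact mem_centralizer_iff.mpr fun g hg => mem_centralizer_singleton_iff.mp (h1 hg)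

theorem sSup_conjOrbit_le_sup [Finite G] [Fact p.Prime] {x : G} {K : Subgroup G}
    (h : SplitOrbit p x K) : sSup (conjOrbit p x K) ≤ K ⊔ centralizer (K : Set G) := by
  refine sSup_le ?_
  rintro _ ⟨i, hi, rfl⟩
  rcases Nat.eq_zero_or_pos i with rfl | hi0
  · rw [pow_zero, map_conj_one]
    exact le_sup_left
  · exact le_sup_of_le_right (h i hi0 hi)

theorem conjOrbit_of_fixed [hp : Fact p.Prime] {x : G} {K : Subgroup G}
    (hfix : x ∈ normalizer (K : Set G)) : conjOrbit p x K = {K} := by
  ext K'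
  constructor
  · rintro ⟨i, -, rfl⟩
    exact map_conj_zpow_fix.mpr (pow_mem hfix i)
  · rintro rfl
    exact mem_conjOrbit_self x _

theorem conjOrbit_conj [hp : Fact p.Prime] {x : G} (hx : x ^ p = 1) {K : Subgroup G} (g : ℕ) :
    (sSup (conjOrbit p x K)).map (MulAut.conj (x ^ g)).toMonoidHom ≤ sSup (conjOrbit p x K) := by
  rw [map_le_iff_le_comap]
  refine sSup_le ?_
  rintro _ ⟨i, hi, rfl⟩
  rw [← map_le_iff_le_comap, map_conj_map_conj, ← pow_add]
  refine le_sSup ⟨(g + i) % p, Nat.mod_lt _ hp.out.pos, ?_⟩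
  congr 3
  conv_lhs => rw [← Nat.mod_add_div (g + i) p, pow_add, pow_mul, hx, one_pow, mul_one]

/-- Elements fixed by `x` in the product of a split orbit are diagonal modulo the centre. -/
theorem le_range_diagHom [Finite G] [hp : Fact p.Prime] {x : G} {K L : Subgroup G} (hx : x ^ p = 1)
    (h : SplitOrbit p x K) (hperf : ⁅L, L⁆ = L) (hLx : L ≤ centralizer ({x} : Set G))
    (hLE : L ≤ sSup (conjOrbit p x K)) : L ≤ (diagHom p x K hx h).range := by
  set E := sSup (conjOrbit p x K) with hE
  have hrE : (diagHom p x K hx h).range ≤ E := by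
    rintro _ ⟨k, rfl⟩
    exact diag_mem_sSup hx h k
  refine perfect_le_of_le_sup hperf (Z := E ⊓ centralizer (E : Set G)) ?_ ?_ ?_
  · exact inf_le_right.trans (centralizer_le hrE)
  · exact inf_le_right.trans (centralizer_le inf_le_left)
  · intro l hl
    have hl' : l ∈ ((K ⊔ centralizer (K : Set G) : Subgroup G) : Set G) := sSup_conjOrbit_le_sup h (hLE hl)
    rw [coe_mul_of_right_le_normalizer_left _ _ (centralizer_le_normalizer _), Set.mem_mul] at hl'
    obtain ⟨k, hk, c, hc, hkc⟩ := hl'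
    have hd := inv_mul_diag_mem hx h ⟨k, hk⟩
    set d := diagHom p x K hx h ⟨k, hk⟩ with hdd
    rw [← mul_inv_cancel_left d l]
    refine mul_mem_sup ⟨_, rfl⟩ (mem_inf.mpr ⟨mul_mem (inv_mem (diag_mem_sSup hx h _)) (hLE hl),
      centralizes_sSup_conjOrbit ?_ ?_⟩)
    · exact (((diag_commute hx h ⟨k, hk⟩).inv_right).symm.mul_left
        (mem_centralizer_singleton_iff.mp (hLx hl) : Commute l x)).eq
    · rw [← hkc, show d⁻¹ * (k * c) = (k⁻¹ * d)⁻¹ * c by group]
      exact mul_mem (inv_mem hd) hc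

/-- Distinct orbits give commuting products. -/
theorem component_le_or_centralizes_orbit [Finite G] {K K' : Subgroup G} (hK' : IsComponent K')
    {s : Set (Subgroup G)} (hs : ∀ M ∈ s, IsComponent M) (hle : K ≤ sSup s) (hn : K' ∉ s) :
    K ≤ centralizer (K' : Set G) :=
  hle.trans (sSup_le fun M hM => commutator_eq_bot_iff_le_centralizer.mp
    (components_commute (hs M hM) hK' fun h => hn (h ▸ hM)))

theorem isComponent_conjOrbit {x : G} {K : Subgroup G} (hK : IsComponent K) :
    ∀ M ∈ conjOrbit p x K, IsComponent M := by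
  rintro _ ⟨i, -, rfl⟩
  exact isComponent_map_conj hK _

/-- The data of pumping up `L ≤ C(x)`. -/
def IsPumpUp (p : ℕ) (x : G) (L K : Subgroup G) : Prop :=
  IsComponent K ∧ L ≤ sSup (conjOrbit p x K) ∧
    (∀ K' : Subgroup G, IsComponent K' → ¬ L ≤ centralizer (K' : Set G) → K' ∈ conjOrbit p x K) ∧
    ((x ∈ normalizer (K : Set G) ∧ L ≤ K) ∨
      (x ∉ normalizer (K : Set G) ∧ ∃ (hx : x ^ p = 1) (h : SplitOrbit p x K),
        L ≤ (diagHom p x K hx h).range))

/-- On a component normalised by `x`, a perfect subgroup of `C(x)` acts like `C_K(x)`. -/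
theorem perfect_image_le_fixed [Finite G] {x : G} {K L : Subgroup G}
    (hzK : x ∈ normalizer (K : Set G)) (hperf : ⁅L, L⁆ = L) (hLC : L ≤ centralizer ({x} : Set G))
    (hLK : L ≤ K ⊔ centralizer (K : Set G)) :
    L ≤ (K ⊓ centralizer ({x} : Set G)) ⊔ centralizer (K : Set G) := by
  have hCN : centralizer (K : Set G) ≤ normalizer (K : Set G) := centralizer_le_normalizer _
  have hfix : ∀ a ∈ L, ∃ k ∈ K, ∃ c ∈ centralizer (K : Set G), k * c = a ∧
      k⁻¹ * (x * k * x⁻¹) ∈ K ⊓ centralizer (K : Set G) := by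
    intro a ha
    have ha' : a ∈ ((K ⊔ centralizer (K : Set G) : Subgroup G) : Set G) := hLK ha
    rw [coe_mul_of_right_le_normalizer_left _ _ hCN, Set.mem_mul] at ha'
    obtain ⟨k, hk, c, hc, hkc⟩ := ha'
    refine ⟨k, hk, c, hc, hkc, ?_⟩
    have hzcz : x * c * x⁻¹ ∈ centralizer (K : Set G) :=
      (mem_normalizer_iff.mp (Coprime.le_normalizer_centralizer le_rfl hzK) c).mp hc
    have e : k⁻¹ * (x * k * x⁻¹) = c * (x * c * x⁻¹)⁻¹ := by
      have h1 : x * a * x⁻¹ = a := by
        rw [← mem_centralizer_singleton_iff.mp (hLC ha), mul_inv_cancel_right]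
      have h2 : (x * k * x⁻¹) * (x * c * x⁻¹) = k * c := by
        rw [hkc]
        calc (x * k * x⁻¹) * (x * c * x⁻¹) = x * (k * c) * x⁻¹ := by group
          _ = a := by rw [hkc, h1]
      rw [inv_mul_eq_iff_eq_mul, ← mul_assoc, eq_mul_inv_iff_mul_eq, h2]
    refine mem_inf.mpr ⟨mul_mem (inv_mem hk) ((mem_normalizer_iff.mp hzK k).mp hk), ?_⟩
    rw [e]
    exact mul_mem hc (inv_mem hzcz)
  rw [← hperf, commutator_le]
  intro a ha b hb
  obtain ⟨k, hk, c, hc, hkc, hl⟩ := hfix a ha
  obtain ⟨k', hk', c', hc', hkc', hl'⟩ := hfix b hb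
  have hN : K ≤ normalizer (K : Set G) := le_normalizer
  haveI : ((centralizer (K : Set G)).subgroupOf (normalizer (K : Set G))).Normal := inferInstance
  have hcomm : (⁅k, k'⁆)⁻¹ * ⁅a, b⁆ ∈ centralizer (K : Set G) := by
    have h0 : (QuotientGroup.mk' ((centralizer (K : Set G)).subgroupOf (normalizer (K : Set G))))
        ((⁅(⟨k, hN hk⟩ : ↥(normalizer (K : Set G))), ⟨k', hN hk'⟩⁆)⁻¹ *
          ⁅(⟨k, hN hk⟩ * ⟨c, hCN hc⟩ : ↥(normalizer (K : Set G))), ⟨k', hN hk'⟩ * ⟨c', hCN hc'⟩⁆) = 1 := by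
      have h1 : ∀ d (hd : d ∈ centralizer (K : Set G)),
          (QuotientGroup.mk' ((centralizer (K : Set G)).subgroupOf (normalizer (K : Set G))))
            (⟨d, hCN hd⟩ : ↥(normalizer (K : Set G))) = 1 := fun d hd => (QuotientGroup.eq_one_iff _).mpr hd
      rw [map_mul, map_inv, map_commutatorElement, map_commutatorElement, map_mul, map_mul, h1 c hc,
        h1 c' hc', mul_one, mul_one, inv_mul_cancel]
    have h2 := (QuotientGroup.eq_one_iff _).mp h0
    rw [← hkc, ← hkc']
    exact h2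
  rw [← mul_inv_cancel_left ⁅k, k'⁆ ⁅a, b⁆]
  refine mul_mem_sup (mem_inf.mpr ⟨?_, ?_⟩) hcomm
  · exact mul_mem (mul_mem (mul_mem hk hk') (inv_mem hk)) (inv_mem hk')
  · have key : x * ⁅k, k'⁆ * x⁻¹ = ⁅k, k'⁆ := by
      rw [← MulAut.conj_apply, map_commutatorElement, MulAut.conj_apply, MulAut.conj_apply]
      obtain ⟨hlK, hlc⟩ := hl
      obtain ⟨hlK', hlc'⟩ := hl'
      rw [show x * k * x⁻¹ = k * (k⁻¹ * (x * k * x⁻¹)) by group,
        show x * k' * x⁻¹ = k' * (k'⁻¹ * (x * k' * x⁻¹)) by group]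
      generalize k⁻¹ * (x * k * x⁻¹) = l at hlK hlc ⊢
      generalize k'⁻¹ * (x * k' * x⁻¹) = l' at hlK' hlc' ⊢
      have c1 : Commute l (k' * l') :=
        (Commute.mul_right (mem_centralizer_iff.mp hlc k' hk').symm
          (mem_centralizer_iff.mp hlc l' hlK').symm)
      have c2 : Commute k l' := mem_centralizer_iff.mp hlc' k hk
      rw [commutatorElement_mul_left_eq_conj_mul, Commute.commutator_eq c1, mul_one, mul_inv_cancel,
        one_mul, commutatorElement_mul_right_eq_mul_conj, Commute.commutator_eq c2]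
      group
    rw [mem_centralizer_singleton_iff]
    exact (mul_inv_eq_iff_eq_mul.mp key).symm

/-- **Pumping up**, for a group whose `p`-components are quasisimple, given `L ≤ L_{p'}(G)`. -/
theorem exists_pumpUp_of_le_pLayer [Finite G] [hp : Fact p.Prime]
    (hq : ∀ K : Subgroup G, IsPComponent p K → IsQuasisimple ↥K)
    {x : G} (hx : x ^ p = 1) {L : Subgroup G} (hLC : L ≤ centralizer ({x} : Set G))
    (hLsn : (L.subgroupOf (centralizer ({x} : Set G))).IsSubnormal) (hLp : IsPCompGroup p ↥L)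
    (hLpl : L ≤ pLayer p G) : ∃ K : Subgroup G, IsPumpUp p x L K := by
  have hperf := pCompGroup_subgroup_perfect hLp
  have hLne : L ≠ ⊥ := by
    haveI := qs_nontrivial hLp.2
    exact (nontrivial_iff_ne_bot L).mp (QuotientGroup.mk'_surjective (pPrimeCore p ↥L)).nontrivial
  rcases eq_or_ne x 1 with rfl | hx1
  · -- the element is trivial: `L` is itself subnormal
    have htop : centralizer ({(1 : G)} : Set G) = ⊤ :=
      top_le_iff.mp fun g _ => mem_centralizer_singleton_iff.mpr (by rw [mul_one, one_mul])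
    have hsn : L.IsSubnormal := by
      have h2 : (centralizer ({(1 : G)} : Set G)).IsSubnormal := by rw [htop]; exact IsSubnormal.top
      have := hLsn.trans' h2
      rwa [map_subgroupOf_eq_of_le hLC] at this
    have hK : IsComponent L := ⟨hsn, hq L (isPComponent_iff_intrinsic.mpr ⟨hsn, hLp⟩)⟩
    refine ⟨L, hK, le_sSup (mem_conjOrbit_self _ _), fun K' hK' hne => ?_, Or.inl ⟨one_mem _, le_rfl⟩⟩
    rcases eq_or_ne K' L with rfl | hne'
    · exact mem_conjOrbit_self _ _
    · exact absurd (commutator_eq_bot_iff_le_centralizer.mp (components_commute hK hK' hne'.symm)) hne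
  have hxo : orderOf x = p := orderOf_eq_prime hx hx1
  set C := centralizer ({x} : Set G) with hC
  have hLc : IsPComponent p (L.subgroupOf C) := (isPComponent_subgroupOf_iff hLC).mpr ⟨hLsn, hLp⟩
  set S₀ := {K : Subgroup G | IsComponent K ∧ ¬ K ≤ pPrimeCore p G} with hS₀
  have hpl : pLayer p G ≤ sSup S₀ :=
    sSup_le fun K hK => le_sSup ⟨⟨hK.1, hq K hK⟩, pComponent_not_le_pPrimeCore hK⟩
  have hLlayer : L ≤ layer G :=
    hLpl.trans (hpl.trans (sSup_le fun K hK => component_le_layer hK.1))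
  -- for every component, either `L` lies in its orbit product or centralises it
  have hdich : ∀ K ∈ S₀,
      L ≤ sSup (conjOrbit p x K) ∨ L ≤ centralizer (K : Set G) := by
    rintro K ⟨hK, hKO⟩
    set E := sSup (conjOrbit p x K) with hE
    set U := E ⊓ C with hU
    have hEsn : E.IsSubnormal := isSubnormal_sSup fun M hM => (isComponent_conjOrbit hK M hM).1
    have hEC : (E.subgroupOf C).IsSubnormal := hEsn.subgroupOf
    rcases component_le_or_commute hLc.2.1 (hEC.quotient (K := pPrimeCore p ↥C)) with hcase | hcase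
    · left
      rw [map_le_iff_le_comap, comap_map_eq, QuotientGroup.ker_mk'] at hcase
      have h1 : pElemClosure p (L.subgroupOf C) = L.subgroupOf C :=
        (pElemClosure_top_eq_top_iff _).mp ((isPComponent_iff_intrinsic.mp hLc).2).1
      have h := pElemClosure_le_of_cover (Core.coprime_card_pPrimeCore (p := p)) hEC hcase
      rw [h1] at h
      exact fun g hg => h (x := ⟨g, hLC hg⟩) hg
    · right
      rw [← map_commutator, Subgroup.map_eq_bot_iff, QuotientGroup.ker_mk'] at hcase
      have hLK : L ≤ normalizer (K : Set G) := hLlayer.trans (layer_le_normalizer_component hK)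
      have hLKC : L ≤ K ⊔ centralizer (K : Set G) :=
        hLpl.trans (pLayer_le_sup_centralizer ⟨hK, hKO⟩)
      set W := (pPrimeCore p ↥C).map C.subtype with hW
      have hWc : (Nat.card W).Coprime p := by
        rw [hW, card_map_of_injective C.subtype_injective]
        exact Core.coprime_card_pPrimeCore
      have hLU : ⁅L, U⁆ ≤ W := by
        have := map_mono (f := C.subtype) hcase
        rw [map_commutator, map_subgroupOf_eq_of_le hLC, subgroupOf_map_subtype] at this
        exact this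
      -- on `K`, `L` acts like elements of `U`
      have hcov : L ≤ U ⊔ centralizer (K : Set G) := by
        by_cases hzK : x ∈ normalizer (K : Set G)
        · exact (perfect_image_le_fixed hzK hperf hLC hLKC).trans
            (sup_le_sup_right (inf_le_inf_right _ (le_sSup (mem_conjOrbit_self x K))) _)
        · have h := splitOrbit_of_moved hxo hK hzK
          refine hLKC.trans (sup_le (fun k hk => ?_) le_sup_right)
          have hd := inv_mul_diag_mem hx h ⟨k, hk⟩
          set d := diagHom p x K hx h ⟨k, hk⟩ with hdd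
          rw [show k = d * (k⁻¹ * d)⁻¹ by group]
          refine mul_mem_sup (mem_inf.mpr ⟨diag_mem_sSup hx h _, ?_⟩) (inv_mem hd)
          exact mem_centralizer_singleton_iff.mpr (diag_commute hx h ⟨k, hk⟩).eq.symm
      haveI : ((centralizer (K : Set G)).subgroupOf (normalizer (K : Set G))).Normal := inferInstance
      set π := QuotientGroup.mk' ((centralizer (K : Set G)).subgroupOf (normalizer (K : Set G))) with hπ
      have hUN : U ≤ normalizer (K : Set G) :=
        inf_le_left.trans ((sSup_le fun M hM => component_le_layer (isComponent_conjOrbit hK M hM)).trans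
          (layer_le_normalizer_component hK))
      have hWc' : (Nat.card ((W.subgroupOf (normalizer (K : Set G))).map π : Subgroup _)).Coprime p := by
        refine hWc.coprime_dvd_left ((card_map_dvd _ _).trans ?_)
        rw [← card_map_of_injective (Subgroup.subtype_injective _) (K := W.subgroupOf (normalizer (K : Set G))),
          subgroupOf_map_subtype]
        exact card_dvd_of_le inf_le_left
      have hle : (L.subgroupOf (normalizer (K : Set G))).map π ≤ (W.subgroupOf (normalizer (K : Set G))).map π := by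
        have hperf' : ⁅L.subgroupOf (normalizer (K : Set G)), L.subgroupOf (normalizer (K : Set G))⁆ =
            L.subgroupOf (normalizer (K : Set G)) := by
          apply Subgroup.map_injective (normalizer (K : Set G)).subtype_injective
          rw [map_commutator, map_subgroupOf_eq_of_le hLK, hperf]
        rw [← hperf', map_commutator, commutator_le]
        rintro _ ⟨a, ha, rfl⟩ _ ⟨b, hb, rfl⟩
        have hb' : (b : G) ∈ ((U ⊔ centralizer (K : Set G) : Subgroup G) : Set G) := hcov hb
        rw [coe_mul_of_left_le_normalizer_right _ _ (hUN.trans (Coprime.le_normalizer_centralizer le_rfl)),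
          Set.mem_mul] at hb'
        obtain ⟨u, hu, c, hc, huc⟩ := hb'
        have hc1 : π (⟨c, centralizer_le_normalizer _ hc⟩ : ↥(normalizer (K : Set G))) = 1 := by
          rw [← MonoidHom.mem_ker, hπ, QuotientGroup.ker_mk']
          exact hc
        rw [show b = ⟨u, hUN hu⟩ * ⟨c, centralizer_le_normalizer _ hc⟩ from Subtype.ext huc.symm,
          map_mul, hc1, mul_one, ← map_commutatorElement]
        exact mem_map_of_mem π (show ⁅(a : G), u⁆ ∈ W from hLU (commutator_mem_commutator ha hu))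
      have hbot := eq_bot_of_pCompGroup_coprime
        (isPCompGroup_congr (subgroupOfEquivOfLe hLK).symm hLp) hle hWc'
      rw [Subgroup.map_eq_bot_iff, hπ, QuotientGroup.ker_mk'] at hbot
      exact fun g hg => hbot (x := ⟨g, hLK hg⟩) hg
  -- some component is not centralised
  obtain ⟨K, hK₀, hnc⟩ : ∃ K ∈ S₀, ¬ L ≤ centralizer (K : Set G) := by
    by_contra h
    push Not at h
    refine hLne ?_
    rw [← le_bot_iff, ← hperf]
    exact (commutator_eq_bot_iff_le_centralizer.mpr
      (le_centralizer_iff.mp (hLpl.trans (hpl.trans (sSup_le fun K hK => le_centralizer_iff.mp (h K hK)))))).le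
  have hK := hK₀.1
  have hle : L ≤ sSup (conjOrbit p x K) := (hdich K hK₀).resolve_right hnc
  refine ⟨K, hK, hle, fun K' hK' hne => ?_, ?_⟩
  · by_contra hn
    exact hne (component_le_or_centralizes_orbit hK' (isComponent_conjOrbit hK) hle hn)
  · by_cases hzK : x ∈ normalizer (K : Set G)
    · rw [conjOrbit_of_fixed hzK, sSup_singleton] at hle
      exact Or.inl ⟨hzK, hle⟩
    · exact Or.inr ⟨hzK, hx, splitOrbit_of_moved hxo hK hzK,
        le_range_diagHom hx _ hperf hLC hle⟩

/-- **Pumping up**, for trivial `p'`-core. -/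
theorem exists_pumpUp [Finite G] [hp : Fact p.Prime] (hO : pPrimeCore p G = ⊥)
    (hS : ∀ K : Subgroup G, IsComponent K → Group.IsSolvable (Out (↥K ⧸ center ↥K)))
    {x : G} (hx : x ^ p = 1) {L : Subgroup G} (hLC : L ≤ centralizer ({x} : Set G))
    (hLsn : (L.subgroupOf (centralizer ({x} : Set G))).IsSubnormal) (hLp : IsPCompGroup p ↥L) :
    ∃ K : Subgroup G, IsPumpUp p x L K := by
  have hq : ∀ K : Subgroup G, IsPComponent p K → IsQuasisimple ↥K := fun K hK => by
    refine isQuasisimple_of_commutator_eq_bot (isPComponent_iff_intrinsic.mp hK).2 ?_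
    rw [map_pPrimeCore_eq_inf hK.1, hO, inf_bot_eq]
    exact commutator_bot_right K
  refine exists_pumpUp_of_le_pLayer hq hx hLC hLsn hLp ?_
  have hlp : layer G ≤ pLayer p G := sSup_le fun K hK =>
    pComponent_le_pLayer (isPComponent_component hK
      fun h => qs_subgroup_ne_bot hK.2 (le_bot_iff.mp (hO ▸ h)))
  rcases eq_or_ne x 1 with rfl | hx1
  · refine pComponent_le_pLayer (isPComponent_iff_intrinsic.mpr ⟨?_, hLp⟩)
    have htop : centralizer ({(1 : G)} : Set G) = ⊤ :=
      top_le_iff.mp fun g _ => mem_centralizer_singleton_iff.mpr (by rw [mul_one, one_mul])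
    have h2 : (centralizer ({(1 : G)} : Set G)).IsSubnormal := by rw [htop]; exact IsSubnormal.top
    have := hLsn.trans' h2
    rwa [map_subgroupOf_eq_of_le hLC] at this
  refine le_trans ?_ hlp
  have hxo : orderOf x = p := orderOf_eq_prime hx hx1
  set C := centralizer ({x} : Set G) with hC
  have hLc : IsPComponent p (L.subgroupOf C) := (isPComponent_subgroupOf_iff hLC).mpr ⟨hLsn, hLp⟩
  have hR : IsPGroup p ↥(zpowers x) :=
    IsPGroup.of_card (n := 1) (by rw [Nat.card_zpowers, hxo, pow_one])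
  have hCeq : centralizer (zpowers x : Set G) = C := by
    refine le_antisymm (centralizer_le (Set.singleton_subset_iff.mpr (mem_zpowers x))) ?_
    rw [le_centralizer_iff, zpowers_le, mem_centralizer_iff]
    exact fun g hg => mem_centralizer_singleton_iff.mp hg
  have hCN : C ≤ normalizer (zpowers x : Set G) := hCeq ▸ centralizer_le_normalizer _
  show L ≤ layer G
  have hLN := hLC.trans hCN
  have hsn : (L.subgroupOf (normalizer (zpowers x : Set G))).IsSubnormal :=
    Subgroup.IsSubnormal.trans (fun g hg => hLC hg) (hLsn.comap (subgroupOfEquivOfLe hCN).toMonoidHom)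
      ((normal_subgroupOf_iff_le_normalizer hCN).mpr
        (hCeq ▸ Coprime.le_normalizer_centralizer le_rfl)).isSubnormal
  have h := pCompLike_le_layer hO hS hR
    (isPCompLike_pComponent ((isPComponent_subgroupOf_iff hLN).mpr ⟨hsn, hLp⟩))
  rwa [map_subgroupOf_eq_of_le hLN] at h

theorem IsPumpUp.card_le [Finite G] {x : G} {L K : Subgroup G} (h : IsPumpUp p x L K) :
    Nat.card L ≤ Nat.card K := by
  rcases h.2.2.2 with ⟨-, hle⟩ | ⟨-, hx, hs, hle⟩
  · exact Nat.le_of_dvd Nat.card_pos (card_dvd_of_le hle)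
  · refine (Nat.le_of_dvd Nat.card_pos (card_dvd_of_le hle)).trans ?_
    rw [← Nat.card_congr (QuotientGroup.quotientKerEquivRange (diagHom p x K hx hs)).toEquiv, ← index]
    exact Nat.le_of_dvd Nat.card_pos (index_dvd_card _)

/-- When no order is lost, `L` is all of `K` or exactly the diagonal, and is isomorphic to `K`. -/
theorem IsPumpUp.eq_of_card [Finite G] {x : G} {L K : Subgroup G} (h : IsPumpUp p x L K)
    (hcard : Nat.card K ≤ Nat.card L) :
    Nonempty (↥L ≃* ↥K) ∧ ((x ∈ normalizer (K : Set G) ∧ L = K) ∨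
      (x ∉ normalizer (K : Set G) ∧ ∃ (hx : x ^ p = 1) (hs : SplitOrbit p x K),
        L = (diagHom p x K hx hs).range ∧ Function.Injective (diagHom p x K hx hs))) := by
  rcases h.2.2.2 with ⟨hfix, hle⟩ | ⟨hmove, hx, hs, hle⟩
  · have heq : L = K := eq_of_le_of_card_ge hle hcard
    exact ⟨⟨MulEquiv.subgroupCongr heq⟩, Or.inl ⟨hfix, heq⟩⟩
  · set f := diagHom p x K hx hs with hf
    have h1 : Nat.card L ≤ Nat.card f.range := Nat.le_of_dvd Nat.card_pos (card_dvd_of_le hle)
    have h2 : f.ker.index = Nat.card f.range := index_ker f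
    have h3 := f.ker.index_mul_card
    have h4 : f.ker.index ≤ Nat.card K := Nat.le_of_dvd Nat.card_pos (index_dvd_card _)
    have hinj : Function.Injective f := by
      rw [← MonoidHom.ker_eq_bot_iff, ← Subgroup.card_eq_one]
      have h5 : f.ker.index = Nat.card K := by omega
      rw [h5] at h3
      exact (mul_eq_left₀ (Nat.card_pos (α := K)).ne').mp h3
    have heq : L = f.range := eq_of_le_of_card_ge hle (by omega)
    exact ⟨⟨(MulEquiv.subgroupCongr heq).trans (MonoidHom.ofInjective hinj).symm⟩,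
      Or.inr ⟨hmove, hx, hs, heq, hinj⟩⟩

/-- The commutator with `L` covers every member of the orbit. -/
theorem IsPumpUp.le_commutator [Finite G] [hp : Fact p.Prime] {x : G} {L K : Subgroup G}
    (h : IsPumpUp p x L K) (hLx : L ≤ centralizer ({x} : Set G)) (hcard : Nat.card K ≤ Nat.card L)
    {M : Subgroup G} (hM : M ∈ conjOrbit p x K) : M ≤ ⁅L, M⁆ := by
  have hbase : K ≤ ⁅L, K⁆ := by
    rcases (h.eq_of_card hcard).2 with ⟨-, rfl⟩ | ⟨-, hx, hs, rfl, -⟩
    · exact (qs_subgroup_perfect h.1.2).symm.le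
    · refine (qs_subgroup_perfect h.1.2).symm.le.trans (commutator_le.mpr fun a ha b hb => ?_)
      have hd := inv_mul_diag_mem hx hs ⟨a, ha⟩
      have e : ⁅diagHom p x K hx hs ⟨a, ha⟩, b⁆ = ⁅a, b⁆ := by
        conv_lhs => rw [← mul_inv_cancel_left a (diagHom p x K hx hs ⟨a, ha⟩)]
        rw [commutatorElement_mul_left_eq_conj_mul,
          commutatorElement_eq_one_iff_mul_comm.mpr (mem_centralizer_iff.mp hd b hb).symm, mul_one,
          mul_inv_cancel, one_mul]
      rw [← e]
      exact commutator_mem_commutator ⟨⟨a, ha⟩, rfl⟩ hb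
  obtain ⟨i, -, rfl⟩ := hM
  refine (map_mono hbase).trans ?_
  rw [map_commutator]
  refine commutator_mono ?_ le_rfl
  rintro _ ⟨l, hl, rfl⟩
  have hc : Commute (x ^ i) l := Commute.pow_left (mem_centralizer_singleton_iff.mp (hLx hl)).symm i
  show x ^ i * l * (x ^ i)⁻¹ ∈ L
  rw [hc.eq, mul_inv_cancel_right]
  exact hl

theorem IsPumpUp.not_le_centralizer [Finite G] [hp : Fact p.Prime] {x : G} {L K : Subgroup G}
    (h : IsPumpUp p x L K) (hLx : L ≤ centralizer ({x} : Set G)) (hcard : Nat.card K ≤ Nat.card L)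
    {M : Subgroup G} (hM : M ∈ conjOrbit p x K) : ¬ L ≤ centralizer (M : Set G) := fun hc =>
  qs_subgroup_ne_bot (isComponent_conjOrbit h.1 M hM).2 (le_bot_iff.mp
    ((h.le_commutator hLx hcard hM).trans (commutator_eq_bot_iff_le_centralizer.mpr hc).le))

/-- An element centralising `L` and `x` permutes the orbit. -/
theorem IsPumpUp.map_conj_mem [Finite G] [hp : Fact p.Prime] {x : G} {L K : Subgroup G}
    (h : IsPumpUp p x L K) (hLx : L ≤ centralizer ({x} : Set G)) (hcard : Nat.card K ≤ Nat.card L)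
    {g : G} (hgL : g ∈ centralizer (L : Set G)) {M : Subgroup G} (hM : M ∈ conjOrbit p x K) :
    M.map (MulAut.conj g).toMonoidHom ∈ conjOrbit p x K := by
  refine h.2.2.1 _ (isComponent_map_conj (isComponent_conjOrbit h.1 M hM) g) fun hc => ?_
  refine h.not_le_centralizer hLx hcard hM (fun l hl => mem_centralizer_iff.mpr fun m hm => ?_)
  have hgl : g * l * g⁻¹ = l := by rw [← mem_centralizer_iff.mp hgL l hl, mul_inv_cancel_right]
  have h1 := mem_centralizer_iff.mp (hc hl) (g * m * g⁻¹) ⟨m, hm, rfl⟩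
  calc m * l = g⁻¹ * ((g * m * g⁻¹) * (g * l * g⁻¹)) * g := by group
    _ = g⁻¹ * ((g * l * g⁻¹) * (g * m * g⁻¹)) * g := by rw [hgl, h1]
    _ = l * m := by group

/-- An element centralising `L` and `x` and fixing `K` centralises the orbit. -/
theorem IsPumpUp.centralizes_orbit [Finite G] [Fact p.Prime] {x : G} {L K : Subgroup G}
    (h : IsPumpUp p x L K) (hcard : Nat.card K ≤ Nat.card L) {g : G}
    (hgx : g * x = x * g) (hgL : g ∈ centralizer (L : Set G)) (hgK : g ∈ normalizer (K : Set G)) :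
    g ∈ centralizer ((sSup (conjOrbit p x K) : Subgroup G) : Set G) := by
  refine centralizes_sSup_conjOrbit hgx (mem_centralizer_iff.mpr fun k hk => ?_)
  rcases (h.eq_of_card hcard).2 with ⟨-, heq⟩ | ⟨-, hx, hs, heq, hinj⟩
  · exact mem_centralizer_iff.mp hgL k (heq ▸ hk)
  · have hk' : g * k * g⁻¹ ∈ K := (mem_normalizer_iff.mp hgK k).mp hk
    have h1 := commute_diag_of_conj hx hs hgx (k := ⟨k, hk⟩) (k' := ⟨_, hk'⟩) rfl
    have h2 : g * diagHom p x K hx hs ⟨k, hk⟩ * g⁻¹ = diagHom p x K hx hs ⟨k, hk⟩ := by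
      rw [← mem_centralizer_iff.mp hgL _ (heq ▸ ⟨_, rfl⟩), mul_inv_cancel_right]
    have h3 : g * k * g⁻¹ = k := congrArg Subtype.val (hinj (h1.symm.trans h2))
    calc k * g = g * k * g⁻¹ * g := by rw [h3]
      _ = g * k := by group

end Cfsg.Agent.Layer
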