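import Cfsg.Agent.LocalStructure.PResidual
import Cfsg.Agent.Layer.FStar
import Cfsg.Agent.Layer.PConstraint
import Cfsg.Agent.S0542
import Cfsg.Agent.S0567

/-!
`O^p` and Sylow subgroups of the join of two subnormal subgroups (Wielandt).
-/

set_option autoImplicit false

namespace Cfsg.Agent.Layer

open Subgroup
open scoped commutatorElement

universe u

theorem resOf_map_le {G H : Type*} [Group G] [Finite G] [Group H] {p : ℕ} [Fact p.Prime]
    (f : G →* H) (A : Subgroup G) :
    LocalStructure.resOf p (A.map f) ≤ (LocalStructure.resOf p A).map f := by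
  unfold LocalStructure.resOf
  rw [← Fusion.map_pResidual_of_surjective (f.subgroupMap A) (f.subgroupMap_surjective A),
    map_map, map_map]
  exact le_rfl

theorem pow_mem_resOf {G : Type*} [Group G] [Finite G] {p : ℕ} [Fact p.Prime] {A : Subgroup G}
    {x : G} (hx : x ∈ A) : ∃ k : ℕ, x ^ p ^ k ∈ LocalStructure.resOf p A := by
  obtain ⟨k, hk⟩ := Fusion.isPGroup_quotient_pResidual (p := p) (G := A) (QuotientGroup.mk ⟨x, hx⟩)
  rw [← QuotientGroup.mk_pow, QuotientGroup.eq_one_iff] at hk
  exact ⟨k, ⟨_, hk, rfl⟩⟩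

theorem exists_pPart_of_mem {G : Type*} [Group G] [Finite G] {p : ℕ} [Fact p.Prime] {A : Subgroup G}
    {x : G} (hx : x ∈ A) : ∃ a b : G, x = a * b ∧ a ∈ A ∧ (∃ k : ℕ, a ^ p ^ k = 1) ∧
      b ∈ LocalStructure.resOf p A := by
  obtain ⟨a, b, hab, -, ha, hb, ⟨k, hk⟩, hbc⟩ :=
    Fusion.exists_pPart_mul (p := p) x (isOfFinOrder_of_finite x)
  have hzA : zpowers x ≤ A := zpowers_le.mpr hx
  exact ⟨a, b, hab, hzA ha, ⟨k, orderOf_dvd_iff_pow_eq_one.mp hk⟩,
    LocalStructure.mem_resOf (hzA hb) hbc⟩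

theorem mem_of_pow_mem_of_coprime {G : Type*} [Group G] {J : Subgroup G} {x : G} {m n : ℕ}
    (hcop : m.Coprime n) (hm : x ^ m ∈ J) (hn : x ^ n ∈ J) : x ∈ J := by
  have hb := Nat.gcd_eq_gcd_ab m n
  rw [hcop.gcd_eq_one] at hb
  have h : x = (x ^ m) ^ Nat.gcdA m n * (x ^ n) ^ Nat.gcdB m n := by
    rw [← zpow_natCast x m, ← zpow_natCast x n, ← zpow_mul, ← zpow_mul, ← zpow_add, ← hb]
    simp
  rw [h]
  exact mul_mem (zpow_mem hm _) (zpow_mem hn _)

theorem inf_sup_normal {G : Type*} [Group G] [Finite G] {A₁ A₂ N : Subgroup G} [N.Normal]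
    (hG : A₁ ⊔ A₂ = ⊤) (h1 : N ≤ normalizer (A₁ : Set G)) (h2 : N ≤ normalizer (A₂ : Set G)) :
    ((N ⊓ A₁) ⊔ (N ⊓ A₂)).Normal := by
  rw [← normalizer_eq_top_iff, ← top_le_iff, ← hG]
  have key : ∀ {A B : Subgroup G}, N ≤ normalizer (A : Set G) →
      A ≤ normalizer (((N ⊓ A) ⊔ (N ⊓ B) : Subgroup G) : Set G) := by
    intro A B hA a ha
    set U := (N ⊓ A) ⊔ (N ⊓ B)
    refine mem_normalizer_of_conj_mem fun x hx => ?_
    have hle : U ≤ U.comap (MulAut.conj a).toMonoidHom := by
      refine sup_le (fun y hy => ?_) fun y hy => ?_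
      · exact mem_sup_left ⟨(inferInstance : N.Normal).conj_mem y hy.1 a,
          A.mul_mem (A.mul_mem ha hy.2) (A.inv_mem ha)⟩
      · have hc : a * y * a⁻¹ * y⁻¹ ∈ N ⊓ A := by
          refine ⟨N.mul_mem ((inferInstance : N.Normal).conj_mem y hy.1 a) (N.inv_mem hy.1), ?_⟩
          rw [mul_assoc, mul_assoc]
          refine A.mul_mem ha ?_
          rw [← mul_assoc]
          exact (mem_normalizer_iff.mp (hA hy.1) _).mp (A.inv_mem ha)
        show a * y * a⁻¹ ∈ U
        have := U.mul_mem (mem_sup_left hc) (mem_sup_right hy)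
        rwa [inv_mul_cancel_right] at this
    exact hle hx
  refine sup_le (key h1) ?_
  rw [sup_comm (N ⊓ A₁) (N ⊓ A₂)]
  exact key h2

/-- A `p`-element of `A₁` normalises `J` in the central case. -/
theorem mem_normalizer_aux {G : Type*} [Group G] [Finite G] {p q : ℕ} [Fact p.Prime] [Fact q.Prime]
    (hqp : q ≠ p) {A J N : Subgroup G} [N.Normal] (hA : A.IsSubnormal)
    (hJA : LocalStructure.resOf p A ≤ J) (hW : (J ⊔ N).Normal) (hNc : N ≤ center G)
    (hNq : ∀ x ∈ N, x ^ q = 1) {a : G} (ha : a ∈ A) {k : ℕ} (hak : a ^ p ^ k = 1) :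
    a ∈ normalizer (J : Set G) := by
  set W := J ⊔ N with hWdef
  have hWq : ∀ w ∈ W, w ^ q ∈ J := by
    intro w hw
    obtain ⟨j, hj, x, hx, rfl⟩ := mem_sup_of_normal_right.mp hw
    rw [Commute.mul_pow (show Commute j x from mem_center_iff.mp (hNc hx) j), hNq x hx, mul_one]
    exact J.pow_mem hj q
  set C := J.normalCore with hC
  have hWC : ∀ w ∈ W, w ^ q ∈ C := fun w hw g => by
    rw [← conj_pow]
    exact hWq _ (hW.conj_mem w hw g)
  have hCJ : C ≤ J := normalCore_le J
  set π := QuotientGroup.mk' C with hπ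
  have hWp : IsPGroup q (W.map π) := by
    rintro ⟨_, w, hw, rfl⟩
    refine ⟨1, Subtype.ext ?_⟩
    show π w ^ q ^ 1 = 1
    rw [pow_one, ← map_pow]
    exact (QuotientGroup.eq_one_iff _).mpr (hWC w hw)
  set X := zpowers (π a) with hX
  have hXp : IsPGroup p X := by
    rintro ⟨_, i, rfl⟩
    refine ⟨k, Subtype.ext ?_⟩
    show ((π a) ^ i) ^ p ^ k = 1
    rw [← zpow_natCast, ← zpow_mul, mul_comm, zpow_mul, zpow_natCast, ← map_pow, hak, map_one,
      one_zpow]
  haveI := hW.map π (QuotientGroup.mk'_surjective C)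
  have heq : ⁅⁅W.map π, X⁆, X⁆ = ⁅W.map π, X⁆ := by
    refine Coprime.commutator_commutator_eq le_normalizer_of_normal ?_ (Or.inl ?_)
    · obtain ⟨i, hi⟩ := hXp.exists_card_eq
      obtain ⟨j, hj⟩ := hWp.exists_card_eq
      rw [hi, hj]
      exact Nat.Coprime.pow i j ((Nat.coprime_primes Fact.out Fact.out).mpr hqp.symm)
    · haveI := hXp.isNilpotent
      infer_instance
  have hXA : X ≤ A.map π := zpowers_le.mpr (mem_map_of_mem _ ha)
  obtain ⟨m, hm⟩ := (S0567.result (A.map π)).mp (hA.map (QuotientGroup.mk'_surjective C))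
  have hiter : ∀ i : ℕ, ⁅W.map π, X⁆ ≤ (fun K => ⁅K, A.map π⁆)^[i] ⊤ := by
    intro i
    induction i with
    | zero => exact le_top
    | succ i ih =>
      rw [Function.iterate_succ_apply', ← heq]
      exact commutator_mono ih hXA
  have hcA : ⁅W.map π, X⁆ ≤ A.map π := (hiter m).trans hm
  have key : ∀ w ∈ W, w * a * w⁻¹ * a⁻¹ ∈ J := by
    intro w hw
    obtain ⟨b, hb, hbc⟩ := hcA (commutator_mem_commutator (mem_map_of_mem π hw) (mem_zpowers (π a)))
    have hcW : w * a * w⁻¹ * a⁻¹ ∈ W := by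
      rw [mul_assoc, mul_assoc]
      refine W.mul_mem hw ?_
      rw [← mul_assoc]
      exact hW.conj_mem _ (W.inv_mem hw) a
    have hbc' : b⁻¹ * (w * a * w⁻¹ * a⁻¹) ∈ C := by
      rw [← QuotientGroup.eq]
      simpa [hπ, commutatorElement_def] using hbc
    have hbW : b ∈ W := by
      have := W.mul_mem hcW (W.inv_mem (mem_sup_left (hCJ hbc') : _ ∈ W))
      simpa [mul_assoc] using this
    obtain ⟨i, hi⟩ := pow_mem_resOf (p := p) hb
    have hbJ : b ∈ J := mem_of_pow_mem_of_coprime
      (Nat.Coprime.pow_left i ((Nat.coprime_primes Fact.out Fact.out).mpr hqp.symm))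
      (hJA hi) (hWq b hbW)
    simpa using J.mul_mem hbJ (hCJ hbc')
  refine mem_normalizer_of_conj_mem fun j hj => ?_
  have := J.mul_mem (J.inv_mem hj) (key j (mem_sup_left hj))
  have h2 : a * j⁻¹ * a⁻¹ ∈ J := by simpa [mul_assoc] using this
  simpa [mul_assoc] using J.inv_mem h2

theorem pResidual_sup_aux (p : ℕ) [Fact p.Prime] : ∀ (n : ℕ) (G : Type u) [Group G] [Finite G],
    Nat.card G ≤ n → ∀ A₁ A₂ : Subgroup G, A₁.IsSubnormal → A₂.IsSubnormal → A₁ ⊔ A₂ = ⊤ →
      Cfsg.pResidual p G ≤ LocalStructure.resOf p A₁ ⊔ LocalStructure.resOf p A₂ := by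
  intro n
  induction n with
  | zero =>
    intro G _ _ hn
    have := Nat.card_pos (α := G)
    omega
  | succ n ih =>
    intro G _ _ hn A₁ A₂ h₁ h₂ hG
    rcases subsingleton_or_nontrivial G with hs | hs
    · intro x _
      rw [Subsingleton.elim x 1]
      exact one_mem _
    set J := LocalStructure.resOf p A₁ ⊔ LocalStructure.resOf p A₂ with hJ
    set K := Cfsg.pResidual p G with hK
    obtain ⟨N, hN, hNne, hmin⟩ := exists_minimal_normal (G := G)
    haveI := hN
    set π := QuotientGroup.mk' N with hπ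
    have hπs : Function.Surjective π := QuotientGroup.mk'_surjective N
    have hlt : Nat.card (G ⧸ N) < Nat.card G := by
      have h1 := Subgroup.card_eq_card_quotient_mul_card_subgroup N
      have h2 : 1 < Nat.card N := Subgroup.one_lt_card_iff_ne_bot N |>.mpr hNne
      have h3 : 0 < Nat.card (G ⧸ N) := Nat.card_pos
      nlinarith
    have h1 := ih (G ⧸ N) (by omega) (A₁.map π) (A₂.map π) (h₁.map hπs) (h₂.map hπs)
      (by rw [← Subgroup.map_sup, hG, Subgroup.map_top_of_surjective _ hπs])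
    have hKW : K ≤ J ⊔ N := by
      refine le_trans ?_ (le_of_eq (congrArg (J ⊔ ·) (QuotientGroup.ker_mk' N)))
      rw [← comap_map_eq]
      refine le_trans (le_comap_map π K) (comap_mono ?_)
      rw [hK, Fusion.map_pResidual_of_surjective π hπs, hJ, Subgroup.map_sup]
      exact h1.trans (sup_le_sup (resOf_map_le π A₁) (resOf_map_le π A₂))
    have hN1 := minimal_normal_le_normalizer hmin h₁
    have hN2 := minimal_normal_le_normalizer hmin h₂
    have hNJ : N ≤ normalizer (J : Set G) :=
      le_normalizer_sup (LocalStructure.le_normalizer_resOf p hN1)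
        (LocalStructure.le_normalizer_resOf p hN2)
    suffices hgoal : (∀ x ∈ N, ∃ k : ℕ, x ^ p ^ k ∈ J) ∨ J.Normal by
      rcases hgoal with hp | hJn
      · -- `p'`-elements of `J ⊔ N` lie in `J`
        rw [hK, Cfsg.pResidual, closure_le]
        intro g hg
        have hgW : g ∈ normalizer (J : Set G) :=
          (sup_le le_normalizer hNJ) (hKW (Fusion.mem_pResidual_of_coprime hg))
        obtain ⟨x, hx, j, hj, hxj⟩ := mem_sup_of_normal_left.mp
          (show g ∈ N ⊔ J from sup_comm J N ▸ hKW (Fusion.mem_pResidual_of_coprime hg))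
        obtain ⟨k, hk⟩ := hp x hx
        set J' := J.subgroupOf (normalizer (J : Set G))
        have he : (QuotientGroup.mk (⟨g, hgW⟩ : normalizer (J : Set G)) : _ ⧸ J') =
            QuotientGroup.mk (⟨x, hNJ hx⟩ : normalizer (J : Set G)) := by
          refine (QuotientGroup.eq.mpr ?_).symm
          show x⁻¹ * g ∈ J
          rw [← hxj, inv_mul_cancel_left]
          exact hj
        have hd1 : orderOf (QuotientGroup.mk (⟨g, hgW⟩ : normalizer (J : Set G)) : _ ⧸ J') ∣ p ^ k := by
          refine orderOf_dvd_of_pow_eq_one ?_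
          rw [he, ← QuotientGroup.mk_pow, QuotientGroup.eq_one_iff]
          exact hk
        have hd2 : orderOf (QuotientGroup.mk (⟨g, hgW⟩ : normalizer (J : Set G)) : _ ⧸ J') ∣ orderOf g := by
          have := orderOf_map_dvd (QuotientGroup.mk' J') (⟨g, hgW⟩ : normalizer (J : Set G))
          rwa [Subgroup.orderOf_mk] at this
        have := orderOf_eq_one_iff.mp (Nat.eq_one_of_dvd_coprimes
          (Nat.Coprime.pow_right k hg) hd2 hd1)
        rw [QuotientGroup.eq_one_iff] at this
        exact this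
      · -- the quotient by `J` is a `p`-group
        refine Fusion.pResidual_le_of_isPGroup_quotient J ?_
        have himg : ∀ A : Subgroup G, A.IsSubnormal → LocalStructure.resOf p A ≤ J →
            A.map (QuotientGroup.mk' J) ≤ Cfsg.pCore p (G ⧸ J) := by
          intro A hA hAJ
          refine subnormal_le_pCore (hA.map (QuotientGroup.mk'_surjective J)) ?_
          rintro ⟨_, x, hx, rfl⟩
          obtain ⟨k, hk⟩ := pow_mem_resOf (p := p) hx
          exact ⟨k, Subtype.ext ((QuotientGroup.eq_one_iff _).mpr (hAJ hk))⟩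
        have htop : (⊤ : Subgroup (G ⧸ J)) ≤ Cfsg.pCore p (G ⧸ J) := by
          rw [← Subgroup.map_top_of_surjective _ (QuotientGroup.mk'_surjective J), ← hG,
            Subgroup.map_sup]
          exact sup_le (himg A₁ h₁ le_sup_left) (himg A₂ h₂ le_sup_right)
        intro x
        obtain ⟨k, hk⟩ := Core.pCore_isPGroup (p := p) (G := G ⧸ J) ⟨x, htop (mem_top x)⟩
        exact ⟨k, congrArg Subtype.val hk⟩
    rcases hmin _ (inf_sup_normal hG hN1 hN2) (sup_le inf_le_left inf_le_left) with hU | hU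
    · -- `N` is central
      obtain ⟨hU1, hU2⟩ := sup_eq_bot_iff.mp hU
      have hNc : N ≤ center G := by
        intro x hx
        have hc : ∀ A : Subgroup G, N ⊓ A = ⊥ → N ≤ normalizer (A : Set G) →
            A ≤ centralizer ({x} : Set G) := by
          intro A hA hNA a ha
          rw [mem_centralizer_singleton_iff]
          have hmem : a * x * a⁻¹ * x⁻¹ ∈ N ⊓ A := by
            refine ⟨N.mul_mem (hN.conj_mem x hx a) (N.inv_mem hx), ?_⟩
            rw [mul_assoc, mul_assoc]
            refine A.mul_mem ha ?_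
            rw [← mul_assoc]
            exact (mem_normalizer_iff.mp (hNA hx) _).mp (A.inv_mem ha)
          rw [hA, mem_bot] at hmem
          exact mul_inv_eq_iff_eq_mul.mp (mul_inv_eq_one.mp hmem)
        have := (hG ▸ sup_le (hc A₁ hU1 hN1) (hc A₂ hU2 hN2) : (⊤ : Subgroup G) ≤ centralizer {x})
        exact mem_center_iff.mpr fun g => mem_centralizer_singleton_iff.mp (this (mem_top g))
      -- its order is prime
      obtain ⟨q, hq, hqd⟩ := Nat.exists_prime_and_dvd
        (show Nat.card N ≠ 1 from fun h => hNne (Subgroup.card_eq_one.mp h))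
      haveI := Fact.mk hq
      obtain ⟨x₀, hx₀⟩ := exists_prime_orderOf_dvd_card' (G := N) q hqd
      have hzn : (zpowers (x₀ : G)).Normal := by
        refine ⟨fun y hy g => ?_⟩
        have hyc : y ∈ center G := hNc (zpowers_le.mpr x₀.2 hy)
        rwa [mem_center_iff.mp hyc g, mul_inv_cancel_right]
      have hzN : zpowers (x₀ : G) = N := (hmin _ hzn (zpowers_le.mpr x₀.2)).resolve_left fun h => by
        rw [zpowers_eq_bot, OneMemClass.coe_eq_one] at h
        rw [h, orderOf_one] at hx₀
        exact hq.ne_one hx₀.symm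
      have hNq : ∀ x ∈ N, x ^ q = 1 := by
        intro x hx
        rw [← hzN] at hx
        obtain ⟨i, rfl⟩ := mem_zpowers_iff.mp hx
        rw [← zpow_natCast, ← zpow_mul, mul_comm, zpow_mul, zpow_natCast, ← hx₀,
          ← Subgroup.orderOf_coe, pow_orderOf_eq_one, one_zpow]
      by_cases hqp : q = p
      · refine Or.inl fun x hx => ⟨1, ?_⟩
        rw [pow_one, ← hqp, hNq x hx]
        exact one_mem _
      · refine Or.inr ?_
        have hJK : J ≤ K := by
          rw [hK, ← LocalStructure.resOf_top]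
          exact sup_le (LocalStructure.resOf_mono p le_top) (LocalStructure.resOf_mono p le_top)
        have hW : (J ⊔ N).Normal := by
          rw [show J ⊔ N = K ⊔ N from le_antisymm (sup_le_sup_right hJK N) (sup_le hKW le_sup_right)]
          infer_instance
        have hA : ∀ A : Subgroup G, A.IsSubnormal → LocalStructure.resOf p A ≤ J →
            A ≤ normalizer (J : Set G) := by
          intro A hA hAJ x hx
          obtain ⟨a, b, rfl, ha, ⟨k, hk⟩, hb⟩ := exists_pPart_of_mem (p := p) hx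
          exact mul_mem (mem_normalizer_aux hqp hA hAJ hW hNc hNq ha hk) (le_normalizer (hAJ hb))
        rw [← normalizer_eq_top_iff, ← top_le_iff, ← hG]
        exact sup_le (hA A₁ h₁ le_sup_left) (hA A₂ h₂ le_sup_right)
    · -- `N` is generated by its intersections
      refine Or.inl fun x hx => ?_
      haveI hJn : (J.subgroupOf N).Normal := normal_subgroupOf_of_le_normalizer hNJ
      have hq : ∀ A : Subgroup G, LocalStructure.resOf p A ≤ J → N ≤ normalizer (A : Set G) →
          ((N ⊓ A).subgroupOf N).map (QuotientGroup.mk' (J.subgroupOf N)) ≤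
            Cfsg.pCore p (↥N ⧸ J.subgroupOf N) := by
        intro A hAJ hNA
        haveI : ((N ⊓ A).subgroupOf N).Normal := by
          refine (normal_subgroupOf_iff_le_normalizer inf_le_left).mpr ?_
          exact le_normalizer_inf le_normalizer hNA
        haveI := (inferInstance : ((N ⊓ A).subgroupOf N).Normal).map
          (QuotientGroup.mk' (J.subgroupOf N)) (QuotientGroup.mk'_surjective _)
        refine Core.le_pCore ?_
        rintro ⟨_, y, hy, rfl⟩
        obtain ⟨k, hk⟩ := pow_mem_resOf (p := p) (show (y : G) ∈ A from hy.2)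
        exact ⟨k, Subtype.ext ((QuotientGroup.eq_one_iff _).mpr (hAJ hk))⟩
      have htop : (N ⊓ A₁).subgroupOf N ⊔ (N ⊓ A₂).subgroupOf N = ⊤ := by
        rw [← subgroupOf_sup inf_le_left inf_le_left, hU, subgroupOf_self]
      have hall : (QuotientGroup.mk' (J.subgroupOf N)) ⟨x, hx⟩ ∈
          Cfsg.pCore p (↥N ⧸ J.subgroupOf N) := by
        have h := mem_map_of_mem (QuotientGroup.mk' (J.subgroupOf N))
          (show (⟨x, hx⟩ : N) ∈ (N ⊓ A₁).subgroupOf N ⊔ (N ⊓ A₂).subgroupOf N from htop ▸ mem_top _)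
        rw [Subgroup.map_sup] at h
        exact sup_le (hq A₁ le_sup_left hN1) (hq A₂ le_sup_right hN2) h
      obtain ⟨k, hk⟩ := Core.pCore_isPGroup (p := p) ⟨_, hall⟩
      exact ⟨k, (QuotientGroup.eq_one_iff (N := J.subgroupOf N) ((⟨x, hx⟩ : N) ^ p ^ k)).mp (congrArg Subtype.val hk)⟩

/-- Wielandt: `O^p` of a group generated by two subnormal subgroups. -/
theorem pResidual_eq_sup {G : Type u} [Group G] [Finite G] {p : ℕ} [Fact p.Prime]
    {A₁ A₂ : Subgroup G} (h₁ : A₁.IsSubnormal) (h₂ : A₂.IsSubnormal) (hG : A₁ ⊔ A₂ = ⊤) :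
    Cfsg.pResidual p G = LocalStructure.resOf p A₁ ⊔ LocalStructure.resOf p A₂ := by
  refine le_antisymm (pResidual_sup_aux p _ G le_rfl A₁ A₂ h₁ h₂ hG) ?_
  rw [← LocalStructure.resOf_top]
  exact sup_le (LocalStructure.resOf_mono p le_top) (LocalStructure.resOf_mono p le_top)

end Cfsg.Agent.Layer
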