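import Cfsg.Agent.Fusion.Alperin
import Cfsg.Agent.Invol.ZStar
import Cfsg.Agent.Layer.LBalance
import Cfsg.Agent.AbCentFpf.Derived
import Mathlib.GroupTheory.Transfer

/-!
Glauberman's theorem on the automorphisms centralising a Sylow 2-subgroup: in a perfect group acting
this way the 2-elements act trivially, when the group acted on has trivial core.
-/

set_option autoImplicit false
set_option linter.unusedSectionVars false

namespace Cfsg.Agent.Layer

open Subgroup Cfsg
open Cfsg.Agent.Fusion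
open scoped commutatorElement

universe u

variable {G : Type u} [Group G] [Finite G]

/-- With a central Sylow `2`-subgroup the core is a complement. -/
theorem sylow_sup_oddCore_eq_top (P : Sylow 2 G) (hP : (P : Subgroup G) ≤ center G) :
    (P : Subgroup G) ⊔ oddCore G = ⊤ := by
  have hn : normalizer ((P : Subgroup G) : Set G) ≤ centralizer ((P : Subgroup G) : Set G) :=
    fun x _ => mem_centralizer_iff.mpr fun y hy => (mem_center_iff.mp (hP hy) x).symm
  have h := MonoidHom.ker_transferSylow_isComplement' P hn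
  have hcop : (Nat.card (MonoidHom.transferSylow P hn).ker).Coprime 2 := by
    rw [← h.index_eq_card]
    exact ((Nat.Prime.coprime_iff_not_dvd Nat.prime_two).mpr P.not_dvd_index).symm
  exact top_le_iff.mp (h.symm.sup_eq_top.ge.trans (sup_le_sup_left (Core.le_pPrimeCore hcop) _))

variable {N T A : Subgroup G}

/-- One step of the fusion argument. -/
theorem exists_fusion_step (hT : IsPGroup 2 T) (hTN : T ≤ N) (hAN : A ≤ normalizer (N : Set G))
    (hAT : A ≤ centralizer (T : Set G)) {F : Subgroup G} (hFT : F ≤ T)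
    (hR : ¬ 2 ∣ (T ⊓ centralizer (F : Set G)).relIndex (N ⊓ centralizer (F : Set G)))
    {x : G} (hx : x ∈ N) (hxF : x ∈ normalizer (F : Set G)) {w : G} (hw : w ∈ ⁅A, A⁆)
    (hw2 : IsPGroup 2 (zpowers w)) :
    ∃ y ∈ N, y ∈ centralizer {w} ∧ ∀ f ∈ F, y⁻¹ * f * y = x⁻¹ * f * x := by
  have : Fact (Nat.Prime 2) := ⟨Nat.prime_two⟩
  set C := N ⊓ centralizer (F : Set G) with hC
  set R := T ⊓ centralizer (F : Set G) with hRdef
  have hRC : R ≤ C := inf_le_inf_right _ hTN
  have hRp : IsPGroup 2 R := hT.to_le inf_le_left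
  have hNF : normalizer (F : Set G) ≤ normalizer (centralizer (F : Set G) : Set G) :=
    Coprime.le_normalizer_centralizer le_rfl
  have hxC : conjSub x C = C := conjSub_eq_of_mem_normalizer
    (le_normalizer_inf (le_refl (N ⊓ normalizer (F : Set G)) |>.trans (inf_le_left.trans le_normalizer))
      (inf_le_right.trans hNF) ⟨hx, hxF⟩)
  obtain ⟨m, hm, hmle⟩ := exists_conjSub_le_of_not_dvd_relIndex hRC hRp hR
    ((conjSub_mono hRC).trans hxC.le) (isPGroup_conjSub (g := x) hRp)
  rw [conjSub_conjSub] at hmle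
  set n := x * m with hn
  have hnR : n ∈ normalizer (R : Set G) :=
    mem_normalizer_of_conjSub_eq (eq_of_le_of_card_ge hmle (card_conjSub n R).ge)
  have hnN : n ∈ N := N.mul_mem hx hm.1
  have hxf : ∀ f ∈ F, x⁻¹ * f * x ∈ F := fun f hf => by
    have := (mem_normalizer_iff.mp (inv_mem hxF) f).mp hf
    simpa using this
  have hnf : ∀ f ∈ F, n⁻¹ * f * n = x⁻¹ * f * x := fun f hf => by
    have h1 := mem_centralizer_iff.mp hm.2 _ (hxf f hf)
    rw [hn, mul_inv_rev, show m⁻¹ * x⁻¹ * f * (x * m) = m⁻¹ * ((x⁻¹ * f * x) * m) by group, h1,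
      inv_mul_cancel_left]
  have hnF : n ∈ normalizer (F : Set G) :=
    (normalizer (F : Set G)).mul_mem hxF (centralizer_le_normalizer _ hm.2)
  -- the centraliser of `F ⊔ R`
  set D := C ⊓ centralizer (R : Set G) with hD
  have hpow : ∀ c ∈ D, IsPGroup 2 (zpowers c) → c ∈ R := by
    intro c hc hcp
    have hn' : zpowers c ≤ normalizer (R : Set G) :=
      (zpowers_le.mpr hc.2).trans (centralizer_le_normalizer _)
    exact (eq_of_isPGroup_of_not_dvd_relIndex hRC hRp hR (sup_le hRC (zpowers_le.mpr hc.1))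
      (hRp.to_sup_of_normal_left' hcp hn') le_sup_left).le (mem_sup_right (mem_zpowers c))
  obtain ⟨P⟩ : Nonempty (Sylow 2 D) := inferInstance
  have hPR : ∀ z ∈ (P : Subgroup D), (z : G) ∈ R := fun z hz =>
    hpow z z.2 (((P.2.to_le (zpowers_le.mpr hz)).map D.subtype).to_le
      (by rw [MonoidHom.map_zpowers]; rfl))
  have hPc : (P : Subgroup D) ≤ center D := fun z hz => mem_center_iff.mpr fun y =>
    Subtype.ext (mem_centralizer_iff.mp y.2.2 z (hPR z hz)).symm
  have hsup := sylow_sup_oddCore_eq_top P hPc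
  set O := (oddCore D).map D.subtype with hO
  have hAD : A ≤ normalizer (D : Set G) := by
    refine le_normalizer_inf (le_normalizer_inf hAN ?_) ?_
    · exact Coprime.le_normalizer_centralizer
        ((hAT.trans (centralizer_le hFT)).trans (centralizer_le_normalizer _))
    · exact Coprime.le_normalizer_centralizer
        ((hAT.trans (centralizer_le (inf_le_left : R ≤ T))).trans (centralizer_le_normalizer _))
  have hnD : n ∈ normalizer (D : Set G) := by
    refine le_normalizer_inf (le_normalizer_inf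
      (le_refl (N ⊓ normalizer (F : Set G) ⊓ normalizer (R : Set G)) |>.trans
        ((inf_le_left.trans inf_le_left).trans le_normalizer))
      ((inf_le_left.trans inf_le_right).trans hNF))
      (inf_le_right.trans (Coprime.le_normalizer_centralizer le_rfl)) ⟨⟨hnN, hnF⟩, hnR⟩
  have hAO : A ≤ normalizer (O : Set G) := hAD.trans (AbCentFpf.normalizer_le_map_char _)
  have hnO : n ∈ normalizer (O : Set G) := AbCentFpf.normalizer_le_map_char _ hnD
  -- every element of `A` moves `n` inside `D`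
  have hfix : ∀ a ∈ A, ∀ z ∈ T, a * z = z * a := fun a ha z hz =>
    (mem_centralizer_iff.mp (hAT ha) z hz).symm
  have hd : ∀ a ∈ A, n⁻¹ * (a * n * a⁻¹) ∈ D := by
    intro a ha
    have key : ∀ (U : Subgroup G), U ≤ T → n ∈ normalizer (U : Set G) →
        n⁻¹ * (a * n * a⁻¹) ∈ centralizer (U : Set G) := by
      intro U hU hnU
      rw [mem_centralizer_iff]
      intro z hz
      have h1 : n * z * n⁻¹ ∈ U := (mem_normalizer_iff.mp hnU z).mp hz
      have h2 : a * (n * z * n⁻¹) * a⁻¹ = n * z * n⁻¹ := by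
        rw [hfix a ha _ (hU h1), mul_inv_cancel_right]
      have h3 : a⁻¹ * z * a = z := by
        rw [mul_assoc, ← hfix a ha z (hU hz), inv_mul_cancel_left]
      calc z * (n⁻¹ * (a * n * a⁻¹)) = n⁻¹ * (n * z * n⁻¹) * (a * n * a⁻¹) := by group
        _ = n⁻¹ * (a * (n * z * n⁻¹) * a⁻¹) * (a * n * a⁻¹) := by rw [h2]
        _ = n⁻¹ * (a * n * a⁻¹) * (a * z * a⁻¹) := by group
        _ = n⁻¹ * (a * n * a⁻¹) * z := by rw [hfix a ha z (hU hz), mul_inv_cancel_right]
    refine ⟨⟨N.mul_mem (N.inv_mem hnN) ((mem_normalizer_iff.mp (hAN ha) n).mp hnN), key F hFT hnF⟩,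
      key R inf_le_left hnR⟩
  let f : ↥D →* ↥D ⧸ oddCore D := QuotientGroup.mk' (oddCore D)
  have hdec : ∀ q : ↥D ⧸ oddCore D, ∃ z ∈ (P : Subgroup D), f z = q := by
    intro q
    obtain ⟨c, rfl⟩ := QuotientGroup.mk'_surjective (oddCore D) q
    obtain ⟨z, hz, o, ho, e⟩ := Subgroup.mem_sup_of_normal_right.mp (hsup.ge (mem_top c))
    refine ⟨z, hz, ?_⟩
    rw [← e, map_mul, show f o = 1 from (QuotientGroup.eq_one_iff o).mpr ho, mul_one]
  have hcomm : ∀ q q' : ↥D ⧸ oddCore D, q * q' = q' * q := by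
    intro q q'
    obtain ⟨z, hz, rfl⟩ := hdec q
    obtain ⟨z', -, rfl⟩ := hdec q'
    rw [← map_mul, ← map_mul, mem_center_iff.mp (hPc hz) z']
  let φ : A → ↥D ⧸ oddCore D := fun a => f ⟨_, hd a a.2⟩
  have hmul : ∀ a b : A, φ (a * b) = φ a * φ b := by
    intro a b
    have hbD : (a : G) * (n⁻¹ * (b * n * (b : G)⁻¹)) * (a : G)⁻¹ ∈ D :=
      (mem_normalizer_iff.mp (hAD a.2) _).mp (hd b b.2)
    have h1 : (⟨_, hd _ (a * b).2⟩ : D) = ⟨_, hd a a.2⟩ * ⟨_, hbD⟩ := Subtype.ext (by
      show n⁻¹ * ((a : G) * b * n * ((a : G) * b)⁻¹) = _ * _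
      group)
    obtain ⟨z, hz, o, ho, e⟩ := Subgroup.mem_sup_of_normal_right.mp
      (hsup.ge (mem_top (⟨_, hd b b.2⟩ : D)))
    have haz : (a : G) * z * (a : G)⁻¹ = z := by
      rw [hfix a a.2 _ (hPR z hz).1, mul_inv_cancel_right]
    have hao : (⟨(a : G) * o * (a : G)⁻¹, (mem_normalizer_iff.mp (hAD a.2) _).mp o.2⟩ : D) ∈ oddCore D := by
      obtain ⟨o', ho', e'⟩ := (mem_normalizer_iff.mp (hAO a.2) _).mp (mem_map_of_mem D.subtype ho)
      have e'' : o' = ⟨(a : G) * o * (a : G)⁻¹, (mem_normalizer_iff.mp (hAD a.2) _).mp o.2⟩ := Subtype.ext e'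
      exact e'' ▸ ho'
    have h2 : (⟨_, hbD⟩ : D) =
        z * ⟨(a : G) * o * (a : G)⁻¹, (mem_normalizer_iff.mp (hAD a.2) _).mp o.2⟩ := Subtype.ext (by
      show (a : G) * (n⁻¹ * (b * n * (b : G)⁻¹)) * (a : G)⁻¹ = (z : G) * ((a : G) * o * (a : G)⁻¹)
      have e' : (z : G) * o = n⁻¹ * (b * n * (b : G)⁻¹) := congrArg Subtype.val e
      rw [← e']
      conv_rhs => rw [← haz]
      group)
    show f _ = f _ * f _
    rw [h1, h2, map_mul, map_mul, show f ⟨_, _⟩ = 1 from (QuotientGroup.eq_one_iff _).mpr hao, mul_one,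
      ← e, map_mul f z o, show f o = 1 from (QuotientGroup.eq_one_iff o).mpr ho, mul_one]
  let ψ : A →* ↥D ⧸ oddCore D := MonoidHom.mk' φ hmul
  have hker : ∀ a : G, a ∈ ⁅A, A⁆ → n⁻¹ * (a * n * a⁻¹) ∈ O := by
    intro a ha
    rw [← map_subtype_commutator] at ha
    obtain ⟨a, ha, rfl⟩ := ha
    have h1 : commutator A ≤ ψ.ker := by
      rw [_root_.commutator_def, commutator_le]
      intro b _ c _
      rw [MonoidHom.mem_ker, map_commutatorElement, commutatorElement_eq_one_iff_mul_comm]
      exact hcomm _ _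
    exact ⟨⟨_, hd a a.2⟩, (QuotientGroup.eq_one_iff _).mp (h1 ha), rfl⟩
  have hwA : w ∈ A := commutator_le_self A hw
  have hcop : (Nat.card (zpowers w)).Coprime (Nat.card O) := by
    obtain ⟨k, hk⟩ := IsPGroup.iff_card.mp hw2
    rw [hk, hO, card_map_of_injective D.subtype_injective]
    exact (Core.coprime_card_pPrimeCore (p := 2) (G := D)).symm.pow_left k
  obtain ⟨y, ⟨o, ho, rfl⟩, hy⟩ := Coprime.exists_fixed_mem_leftCoset
    ((zpowers_le.mpr hwA).trans hAO) hcop (Or.inl (isSolvable_of_isPGroup hw2))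
    (fun a ha => hker a (zpowers_le.mpr hw ha))
  have hoD : (o : G) ∈ D := o.2
  refine ⟨n * o, N.mul_mem hnN hoD.1.1,
    centralizer_le (Set.singleton_subset_iff.mpr (mem_zpowers w)) hy, fun f hf => ?_⟩
  rw [← hnf f hf]
  have hf' : n⁻¹ * f * n ∈ F := hnf f hf ▸ hxf f hf
  have h1 := mem_centralizer_iff.mp hoD.1.2 _ hf'
  rw [mul_inv_rev, show (o : G)⁻¹ * n⁻¹ * f * (n * o) = (o : G)⁻¹ * ((n⁻¹ * f * n) * o) by group, h1,
    inv_mul_cancel_left]

/-- `C(w)` controls the fusion of single elements of the centralised Sylow subgroup. -/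
theorem exists_centralizing_conj [N.Normal] (T₀ : Sylow 2 N)
    (hAT : A ≤ centralizer (((T₀ : Subgroup N).map N.subtype : Subgroup G) : Set G))
    {w : G} (hw : w ∈ ⁅A, A⁆) (hw2 : IsPGroup 2 (zpowers w)) {t g : G}
    (ht : t ∈ (T₀ : Subgroup N).map N.subtype) (hg : g ∈ N)
    (hgt : g⁻¹ * t * g ∈ (T₀ : Subgroup N).map N.subtype) :
    ∃ y ∈ N, y ∈ centralizer {w} ∧ y⁻¹ * t * y = g⁻¹ * t * g := by
  have : Fact (Nat.Prime 2) := ⟨Nat.prime_two⟩
  obtain ⟨t, ht, rfl⟩ := ht
  obtain ⟨s, hs, e⟩ := hgt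
  have key : ∀ (S : Set N) (k : N), AlperinChain T₀ S k →
      ∃ y ∈ N, y ∈ centralizer {w} ∧ ∀ a ∈ S, y⁻¹ * (a : G) * y = (k : G)⁻¹ * a * k := by
    intro S k h
    induction h with
    | nil S => exact ⟨1, one_mem _, one_mem _, fun a _ => by simp⟩
    | @cons S k x Q hA hx hQ _ ih =>
      obtain ⟨y₂, hy₂, hy₂w, hy₂a⟩ := ih
      set F' := (T₀ : Subgroup N) ⊓ (Q : Subgroup N) with hF'
      set C' := centralizer (F' : Set N) with hC'
      set R' := (T₀ : Subgroup N) ⊓ C' with hR'
      have hCN : C' ≤ normalizer (F' : Set N) := centralizer_le_normalizer _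
      have hidx : ¬ 2 ∣ R'.relIndex C' := by
        obtain ⟨V, hV⟩ := ((T₀.2.to_le (inf_le_left : R' ≤ _)).comap_subtype (K := C')).exists_le_sylow
        obtain ⟨m, hm, hmle⟩ := exists_conjSub_le_of_not_dvd_relIndex inf_le_right T₀.2.to_inf_left hQ.1
          ((map_subtype_le (V : Subgroup C')).trans hCN) (V.2.map C'.subtype)
        have hle : conjSub m ((V : Subgroup C').map C'.subtype) ≤ R' := by
          refine le_inf (hmle.trans inf_le_left) ((conjSub_mono (map_subtype_le _)).trans ?_)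
          exact (conjSub_eq_of_mem_normalizer (Coprime.le_normalizer_centralizer le_rfl hm)).le
        have heq : R'.subgroupOf C' = (V : Subgroup C') := by
          refine eq_of_le_of_card_ge hV ?_
          rw [Nat.card_congr (subgroupOfEquivOfLe (inf_le_right : R' ≤ C')).toEquiv,
            ← card_map_of_injective C'.subtype_injective (K := (V : Subgroup C')), ← card_conjSub m]
          exact card_le_of_le hle
        rw [relIndex, heq]
        exact V.not_dvd_index
      set F := F'.map N.subtype with hF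
      have hcen : C'.map N.subtype = N ⊓ centralizer (F : Set G) := by
        ext z
        constructor
        · rintro ⟨z, hz, rfl⟩
          refine ⟨z.2, mem_centralizer_iff.mpr ?_⟩
          rintro _ ⟨v, hv, rfl⟩
          exact congrArg Subtype.val (mem_centralizer_iff.mp hz v hv)
        · rintro ⟨hzN, hz⟩
          exact ⟨⟨z, hzN⟩, mem_centralizer_iff.mpr fun v hv => Subtype.ext
            (mem_centralizer_iff.mp hz _ (mem_map_of_mem N.subtype hv)), rfl⟩
      have hR : ¬ 2 ∣ ((T₀ : Subgroup N).map N.subtype ⊓ centralizer (F : Set G)).relIndex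
          (N ⊓ centralizer (F : Set G)) := by
        have h1 : (T₀ : Subgroup N).map N.subtype ⊓ centralizer (F : Set G) = R'.map N.subtype := by
          rw [hR', map_inf _ _ _ N.subtype_injective, hcen, ← inf_assoc,
            inf_eq_left.mpr (map_subtype_le _)]
        rw [h1, ← hcen, relIndex_map_map_of_injective _ _ N.subtype_injective]
        exact hidx
      obtain ⟨y, hy, hyw, hyF⟩ := exists_fusion_step (T₀.2.map N.subtype) (map_subtype_le _)
        (le_normalizer_of_normal : A ≤ normalizer (N : Set G)) hAT (map_mono inf_le_left) hR x.2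
        (le_normalizer_map N.subtype (mem_map_of_mem N.subtype hx)) hw hw2
      refine ⟨y * y₂, N.mul_mem hy hy₂, mul_mem hyw hy₂w, fun a ha => ?_⟩
      have h2 := hy₂a _ (mem_conjSet.mpr (show x * (x⁻¹ * a * x) * x⁻¹ ∈ S by simpa [mul_assoc] using ha))
      push_cast at h2
      rw [mul_inv_rev, Subgroup.coe_mul, mul_inv_rev,
        show y₂⁻¹ * y⁻¹ * (a : G) * (y * y₂) = y₂⁻¹ * (y⁻¹ * a * y) * y₂ by group,
        hyF a (mem_map_of_mem N.subtype (hA ha)), h2]
      group
  obtain ⟨y, hy, hyw, hya⟩ := key _ _ (alperinChain_of_subset T₀ (A := {t}) (g := ⟨g, hg⟩)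
    (Set.singleton_subset_iff.mpr ht) (by
      rw [conjSet, Set.image_singleton, Set.singleton_subset_iff]
      have : (⟨g, hg⟩ : N)⁻¹ * t * ⟨g, hg⟩ = s := Subtype.ext e.symm
      rw [this]
      exact hs))
  exact ⟨y, hy, hyw, hya t rfl⟩

/-- An involution of `⁅A, A⁆` centralises `N`. -/
theorem involution_centralizes [N.Normal] (hO : oddCore N = ⊥) (T₀ : Sylow 2 N)
    (hAT : A ≤ centralizer (((T₀ : Subgroup N).map N.subtype : Subgroup G) : Set G))
    {w : G} (hw : w ∈ ⁅A, A⁆) (hw2 : orderOf w = 2) : w ∈ centralizer (N : Set G) := by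
  have : Fact (Nat.Prime 2) := ⟨Nat.prime_two⟩
  set T := (T₀ : Subgroup N).map N.subtype with hT
  have hTN : T ≤ N := map_subtype_le _
  have hTp : IsPGroup 2 T := T₀.2.map N.subtype
  have hwA : w ∈ A := commutator_le_self A hw
  have hww : w * w = 1 := by rw [← pow_two, ← hw2, pow_orderOf_eq_one]
  have hwp : IsPGroup 2 (zpowers w) := IsPGroup.of_card (n := 1) (by rw [Nat.card_zpowers, hw2, pow_one])
  have hwT : ∀ z ∈ T, w * z = z * w := fun z hz => (mem_centralizer_iff.mp (hAT hwA) z hz).symm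
  set H := N ⊔ zpowers w with hH
  have hwH : w ∈ H := mem_sup_right (mem_zpowers w)
  have hTW : zpowers w ≤ normalizer (T : Set G) :=
    (zpowers_le.mpr (hAT hwA)).trans (centralizer_le_normalizer _)
  set P := T ⊔ zpowers w with hP
  have hPp : IsPGroup 2 P := hTp.to_sup_of_normal_left' hwp hTW
  have hPH : P ≤ H := sup_le_sup_right hTN _
  -- Sylow subgroups
  have hTmax : ∀ U : Subgroup G, IsPGroup 2 U → U ≤ N → T ≤ U → U = T := by
    intro U hU hUN hTU
    have h1 := T₀.3 (hU.comap_of_injective N.subtype N.subtype_injective)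
      (fun z hz => hTU (mem_map_of_mem N.subtype hz))
    rw [← map_subgroupOf_eq_of_le hUN]
    exact congrArg (Subgroup.map N.subtype) h1
  have hPinf : P ⊓ N = T := hTmax _ (hPp.to_inf_left) inf_le_right (le_inf le_sup_left hTN)
  have hdecH : ∀ h ∈ H, ∃ m ∈ N, ∃ z ∈ zpowers w, m * z = h := fun h hh =>
    Subgroup.mem_sup_of_normal_left.mp hh
  have hPsyl : ∀ U : Subgroup G, IsPGroup 2 U → U ≤ H → P ≤ U → U = P := by
    intro U hU hUH hPU
    refine le_antisymm (fun z hz => ?_) hPU
    obtain ⟨m, hm, z', hz', rfl⟩ := hdecH z (hUH hz)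
    have hmU : m ∈ U := by
      have := U.mul_mem hz (U.inv_mem (hPU (mem_sup_right hz')))
      simpa using this
    have hmT : m ∈ T := (hTmax (U ⊓ N) hU.to_inf_left inf_le_right
      (le_inf (le_sup_left.trans hPU) hTN)).le ⟨hmU, hm⟩
    exact mul_mem_sup hmT hz'
  let P' : Sylow 2 H := ⟨P.subgroupOf H, hPp.comap_of_injective H.subtype H.subtype_injective, by
    intro U hU hle
    have h1 := hPsyl (U.map H.subtype) (hU.map H.subtype) (map_subtype_le _)
      ((map_subgroupOf_eq_of_le hPH).ge.trans (map_mono hle))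
    rw [← comap_map_eq_self_of_injective H.subtype_injective U, h1]
    rfl⟩
  -- fixed points of the relevant kind
  have hiso : ∀ g ∈ N, g * w * g⁻¹ ∈ P → g * w * g⁻¹ = w := by
    intro g hg hgP
    set t := w⁻¹ * (g * w * g⁻¹) with ht_def
    have htT : t ∈ T := by
      rw [← hPinf]
      refine ⟨P.mul_mem (P.inv_mem (mem_sup_right (mem_zpowers w))) hgP, ?_⟩
      have := N.mul_mem ((inferInstance : N.Normal).conj_mem g hg w⁻¹) (N.inv_mem hg)
      simpa [ht_def, mul_assoc] using this
    have hv : g * w * g⁻¹ = w * t := by rw [ht_def, mul_inv_cancel_left]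
    have htw : t * w = w * t := (hwT t htT).symm
    set v := g * w * g⁻¹ with hv'
    set K := H ⊓ centralizer {w} with hK
    have hPK : P ≤ K := le_inf hPH (sup_le
      (fun z hz => mem_centralizer_singleton_iff.mpr (hwT z hz).symm)
      (zpowers_le.mpr (mem_centralizer_singleton_iff.mpr rfl)))
    have hidx : ¬ 2 ∣ P.relIndex K := by
      intro hd
      exact P'.not_dvd_index (show 2 ∣ (P.subgroupOf H).index from
        hd.trans ((dvd_mul_right _ _).trans (relIndex_mul_relIndex P K H hPK inf_le_left).dvd))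
    set Pv := P ⊓ centralizer {v} with hPv
    have hPvK : conjSub g Pv ≤ K := by
      intro z hz
      rw [mem_conjSub] at hz
      refine ⟨?_, mem_centralizer_singleton_iff.mpr ?_⟩
      · have := H.mul_mem (H.mul_mem (H.inv_mem (mem_sup_left hg)) (hPH hz.1)) (mem_sup_left hg)
        simpa [mul_assoc] using this
      · have h1 := congrArg (fun s => g⁻¹ * s * g) (mem_centralizer_singleton_iff.mp hz.2)
        simpa [hv', mul_assoc] using h1
    obtain ⟨c, hc, hcle⟩ := exists_conjSub_le_of_not_dvd_relIndex hPK hPp hidx hPvK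
      (isPGroup_conjSub (hPp.to_inf_left))
    obtain ⟨c', hc', z, hz, rfl⟩ := hdecH c hc.1
    have hzP : z ∈ P := mem_sup_right hz
    have hc'w : c' * w = w * c' := by
      have h1 : c' * z ∈ centralizer {w} := hc.2
      have h2 : z ∈ centralizer {w} := zpowers_le.mpr (mem_centralizer_singleton_iff.mpr rfl) hz
      exact mem_centralizer_singleton_iff.mp ((Subgroup.mul_mem_cancel_right _ h2).mp h1)
    set h := g * c' with hh
    have hhN : h ∈ N := N.mul_mem hg hc'
    have hcle' : conjSub h Pv ≤ P := by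
      intro x hx
      have h1 : z⁻¹ * x * z ∈ conjSub (c' * z) (conjSub g Pv) := by
        rw [conjSub_conjSub, mem_conjSub]
        rw [mem_conjSub] at hx
        simpa [hh, mul_assoc] using hx
      have := P.mul_mem (P.mul_mem hzP (hcle h1)) (P.inv_mem hzP)
      simpa [mul_assoc] using this
    have hhv : h⁻¹ * (w * t) * h = w := by
      calc h⁻¹ * (w * t) * h = c'⁻¹ * (g⁻¹ * (g * w * g⁻¹) * g) * c' := by rw [← hv, hv', hh]; group
        _ = c'⁻¹ * (w * c') := by group
        _ = w := by rw [← hc'w, inv_mul_cancel_left]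
    have htv : t ∈ Pv := ⟨mem_sup_left htT, mem_centralizer_singleton_iff.mpr (by
      rw [hv, ← mul_assoc, htw])⟩
    have hht : h⁻¹ * t * h ∈ T := by
      rw [← hPinf]
      refine ⟨hcle' (mem_conjSub.mpr (by simpa [mul_assoc] using htv)), ?_⟩
      exact N.mul_mem (N.mul_mem (N.inv_mem hhN) (hTN htT)) hhN
    -- replace `h` by an element centralising `t`
    obtain ⟨y, hy, hyw, hyt⟩ := exists_centralizing_conj T₀ hAT hw hwp htT hhN hht
    have hyw' : y * w = w * y := mem_centralizer_singleton_iff.mp hyw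
    set c := h * y⁻¹ with hcdef
    have hcN : c ∈ N := N.mul_mem hhN (N.inv_mem hy)
    have hct : c * t = t * c := by
      have h1 : c⁻¹ * t * c = t := by
        rw [hcdef, mul_inv_rev, inv_inv,
          show y * h⁻¹ * t * (h * y⁻¹) = y * (h⁻¹ * t * h) * y⁻¹ by group, ← hyt]
        group
      calc c * t = c * (c⁻¹ * t * c) := by rw [h1]
        _ = t * c := by group
    have hcw : c * w * c⁻¹ = w * t := by
      calc c * w * c⁻¹ = h * (y⁻¹ * (w * y)) * h⁻¹ := by rw [hcdef]; group
        _ = h * w * h⁻¹ := by rw [← hyw', inv_mul_cancel_left]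
        _ = w * t := by
          conv_lhs => rw [← hhv]
          group
    -- move `t` to a fully centralised element
    obtain ⟨R₀⟩ : Nonempty (Sylow 2 (N ⊓ centralizer {t} : Subgroup G)) := inferInstance
    set Nt := N ⊓ centralizer {t} with hNt
    set R := (R₀ : Subgroup Nt).map Nt.subtype with hR
    have hRp : IsPGroup 2 R := R₀.2.map _
    obtain ⟨u, hu, hule⟩ := exists_conjSub_le_of_not_dvd_relIndex hTN hTp
      (show ¬ 2 ∣ T.relIndex N by
        have := T₀.not_dvd_index
        rwa [relIndex, hT, subgroupOf, comap_map_eq_self_of_injective N.subtype_injective])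
      ((map_subtype_le _).trans inf_le_left : R ≤ N) hRp
    have htR : t ∈ R := by
      have hts : (⟨t, hTN htT, mem_centralizer_singleton_iff.mpr rfl⟩ : Nt) ∈ (R₀ : Subgroup Nt) := by
        have hcen : (⟨t, hTN htT, mem_centralizer_singleton_iff.mpr rfl⟩ : Nt) ∈ center Nt :=
          mem_center_iff.mpr fun y => Subtype.ext (mem_centralizer_singleton_iff.mp y.2.2)
        have hle : zpowers (⟨t, hTN htT, mem_centralizer_singleton_iff.mpr rfl⟩ : Nt) ≤
            normalizer ((R₀ : Subgroup Nt) : Set Nt) :=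
          (zpowers_le.mpr hcen).trans ((center_le_centralizer _).trans (centralizer_le_normalizer _))
        have hp := R₀.2.to_sup_of_normal_left' ((hTp.to_le (zpowers_le.mpr htT)).comap_of_injective
          Nt.subtype Nt.subtype_injective |>.to_le (zpowers_le.mpr (mem_zpowers t))) hle
        exact (R₀.3 hp le_sup_left).le (mem_sup_right (mem_zpowers _))
      exact ⟨_, hts, rfl⟩
    set t₂ := u⁻¹ * t * u with ht₂
    have ht₂T : t₂ ∈ T := hule (mem_conjSub.mpr (by
      rw [show u * t₂ * u⁻¹ = t by rw [ht₂]; group]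
      exact htR))
    obtain ⟨y₂, hy₂, hy₂w, hy₂t⟩ := exists_centralizing_conj T₀ hAT hw hwp htT hu ht₂T
    have hy₂w' : y₂ * w = w * y₂ := mem_centralizer_singleton_iff.mp hy₂w
    set N₂ := N ⊓ centralizer {t₂} with hN₂
    -- the homomorphism
    have ht2 : t * t = 1 := by
      have h1 : v * v = 1 := by
        rw [hv', show g * w * g⁻¹ * (g * w * g⁻¹) = g * (w * w) * g⁻¹ by group, hww]
        group
      rw [hv, show w * t * (w * t) = w * (t * w) * t by group, htw,
        show w * (w * t) * t = w * w * (t * t) by group, hww, one_mul] at h1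
      exact h1
    set c₂ := y₂⁻¹ * c * y₂ with hc₂
    have ht₂y : t₂ = y₂⁻¹ * t * y₂ := hy₂t.symm
    have hc₂mem : c₂ ∈ N₂ := ⟨N.mul_mem (N.mul_mem (N.inv_mem hy₂) hcN) hy₂,
      mem_centralizer_singleton_iff.mpr (by
        rw [ht₂y, hc₂, show y₂⁻¹ * c * y₂ * (y₂⁻¹ * t * y₂) = y₂⁻¹ * (c * t) * y₂ by group, hct]
        group)⟩
    have hy₂fix : y₂⁻¹ * w * y₂ = w := by rw [mul_assoc, ← hy₂w', inv_mul_cancel_left]
    have hc₂w : c₂ * w * c₂⁻¹ = w * t₂ := by
      calc c₂ * w * c₂⁻¹ = y₂⁻¹ * c * (y₂ * w) * y₂⁻¹ * c⁻¹ * y₂ := by rw [hc₂]; group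
        _ = y₂⁻¹ * (c * w * c⁻¹) * y₂ := by rw [hy₂w']; group
        _ = y₂⁻¹ * w * y₂ * (y₂⁻¹ * t * y₂) := by rw [hcw]; group
        _ = w * t₂ := by rw [hy₂fix, ← ht₂y]
    let E : Subgroup G :=
      { carrier := {d | d ∈ N₂ ∧ (d * w * d⁻¹ = w ∨ d * w * d⁻¹ = w * t₂)}
        one_mem' := ⟨one_mem _, Or.inl (by simp)⟩
        mul_mem' := by
          rintro a b ⟨ha, ha'⟩ ⟨hb, hb'⟩
          refine ⟨N₂.mul_mem ha hb, ?_⟩
          have hat : a * t₂ * a⁻¹ = t₂ := by
            rw [mem_centralizer_singleton_iff.mp ha.2, mul_inv_cancel_right]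
          have e0 : a * b * w * (a * b)⁻¹ = a * (b * w * b⁻¹) * a⁻¹ := by group
          have e1 : a * (w * t₂) * a⁻¹ = a * w * a⁻¹ * (a * t₂ * a⁻¹) := by group
          have ht22 : t₂ * t₂ = 1 := by
            rw [ht₂, show u⁻¹ * t * u * (u⁻¹ * t * u) = u⁻¹ * (t * t) * u by group, ht2]
            group
          rcases hb' with hb' | hb' <;> rcases ha' with ha' | ha' <;> rw [e0, hb']
          · exact Or.inl ha'
          · exact Or.inr ha'
          · exact Or.inr (by rw [e1, ha', hat])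
          · exact Or.inl (by rw [e1, ha', hat, mul_assoc, ht22, mul_one])
        inv_mem' := by
          rintro a ⟨ha, ha'⟩
          refine ⟨N₂.inv_mem ha, ?_⟩
          have hat : a⁻¹ * t₂ * a = t₂ := by
            rw [mul_assoc, ← mem_centralizer_singleton_iff.mp ha.2, inv_mul_cancel_left]
          have ht22 : t₂ * t₂ = 1 := by
            rw [ht₂, show u⁻¹ * t * u * (u⁻¹ * t * u) = u⁻¹ * (t * t) * u by group, ht2]
            group
          rcases ha' with ha' | ha'
          · refine Or.inl ?_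
            conv_lhs => rw [inv_inv, ← ha']
            group
          · refine Or.inr ?_
            rw [inv_inv]
            calc a⁻¹ * w * a = a⁻¹ * ((a * w * a⁻¹) * t₂⁻¹) * a := by rw [ha', mul_inv_cancel_right]
              _ = w * (a⁻¹ * t₂ * a)⁻¹ := by group
              _ = w * t₂ := by rw [hat, inv_eq_of_mul_eq_one_right ht22] }
    set R₂ := conjSub u R with hR₂
    have hR₂T : R₂ ≤ T := hule
    have hR₂N : R₂ ≤ N₂ := fun z hz => by
      obtain ⟨hzN, hzt⟩ := map_subtype_le (R₀ : Subgroup Nt) (mem_conjSub.mp hz)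
      refine ⟨hTN (hR₂T hz), mem_centralizer_singleton_iff.mpr ?_⟩
      have h1 := congrArg (fun s => u⁻¹ * s * u) (mem_centralizer_singleton_iff.mp hzt)
      simpa [ht₂, mul_assoc] using h1
    have hR₂E : R₂ ≤ E ⊓ centralizer {w} := fun z hz => by
      have h1 : z * w = w * z := (hwT z (hR₂T hz)).symm
      exact ⟨⟨hR₂N hz, Or.inl (by rw [h1, mul_inv_cancel_right])⟩, mem_centralizer_singleton_iff.mpr h1⟩
    have hidx₂ : ¬ 2 ∣ R₂.relIndex N₂ := by
      have hN₂eq : N₂ = conjSub u Nt := by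
        ext z
        rw [mem_conjSub, hN₂, hNt, mem_inf, mem_inf, mem_centralizer_singleton_iff,
          mem_centralizer_singleton_iff]
        refine and_congr ⟨fun hz => N.mul_mem (N.mul_mem hu hz) (N.inv_mem hu), fun hz => ?_⟩ ?_
        · have := N.mul_mem (N.mul_mem (N.inv_mem hu) hz) hu
          simpa [mul_assoc] using this
        · constructor <;> intro h1
          · have := congrArg (fun s => u * s * u⁻¹) h1
            simpa [ht₂, mul_assoc] using this
          · have := congrArg (fun s => u⁻¹ * s * u) h1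
            simpa [ht₂, mul_assoc] using this
      rw [hR₂, hN₂eq, conjSub, conjSub, relIndex_map_map_of_injective _ _ (MulAut.conj u⁻¹).injective,
        relIndex, hR, subgroupOf, comap_map_eq_self_of_injective Nt.subtype_injective]
      exact R₀.not_dvd_index
    have hidxE : ¬ 2 ∣ (E ⊓ centralizer {w}).relIndex E := by
      intro hd
      apply hidx₂
      refine dvd_trans ?_ (dvd_trans (dvd_mul_right _ _)
        (relIndex_mul_relIndex R₂ E N₂ (hR₂E.trans inf_le_left) (fun z hz => hz.1)).dvd)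
      exact hd.trans ((dvd_mul_left _ _).trans
        (relIndex_mul_relIndex R₂ (E ⊓ centralizer {w}) E hR₂E inf_le_left).dvd)
    have hc₂E : c₂ ∈ E := ⟨hc₂mem, Or.inr hc₂w⟩
    have hc₂C : c₂ ∈ centralizer {w} := by
      by_contra hnot
      refine hidxE ?_
      have hmemC : ∀ b : G, b ∈ centralizer {w} ↔ b * w * b⁻¹ = w := fun b => by
        rw [mem_centralizer_singleton_iff, mul_inv_eq_iff_eq_mul]
      have h2 : ((E ⊓ centralizer {w}).subgroupOf E).index = 2 := by
        refine Subgroup.index_eq_two_iff.mpr ⟨⟨c₂, hc₂E⟩, fun b => ?_⟩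
        by_cases hb : (b : G) ∈ centralizer {w}
        · refine Or.inr ⟨⟨b.2, hb⟩, fun h' => hnot ?_⟩
          exact (Subgroup.mul_mem_cancel_left _ hb).mp h'.2
        · refine Or.inl ⟨⟨(b * (⟨c₂, hc₂E⟩ : E)).2, (hmemC _).mpr ?_⟩, fun h' => hb h'.2⟩
          have hbt : (b : G) * w * (b : G)⁻¹ = w * t₂ :=
            b.2.2.resolve_left fun h' => hb ((hmemC _).mpr h')
          have hat : (b : G) * t₂ * (b : G)⁻¹ = t₂ := by
            rw [mem_centralizer_singleton_iff.mp b.2.1.2, mul_inv_cancel_right]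
          have ht22 : t₂ * t₂ = 1 := by
            rw [ht₂, show u⁻¹ * t * u * (u⁻¹ * t * u) = u⁻¹ * (t * t) * u by group, ht2]
            group
          show (b : G) * c₂ * w * ((b : G) * c₂)⁻¹ = w
          calc (b : G) * c₂ * w * ((b : G) * c₂)⁻¹ = (b : G) * (c₂ * w * c₂⁻¹) * (b : G)⁻¹ := by group
            _ = (b : G) * w * (b : G)⁻¹ * ((b : G) * t₂ * (b : G)⁻¹) := by rw [hc₂w]; group
            _ = w := by rw [hbt, hat, mul_assoc, ht22, mul_one]
      rw [relIndex, h2]
    have h1 : w * t₂ = w := by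
      rw [← hc₂w, mem_centralizer_singleton_iff.mp hc₂C, mul_inv_cancel_right]
    have h2 : t₂ = 1 := mul_left_cancel (h1.trans (mul_one w).symm)
    have h3 : t = 1 := by
      have := congrArg (fun s => u * s * u⁻¹) h2
      simpa [ht₂, mul_assoc] using this
    rw [hv, h3, mul_one]
  have hiso' : ∀ g : H, g * ⟨w, hwH⟩ * g⁻¹ ∈ P' → g * ⟨w, hwH⟩ * g⁻¹ = ⟨w, hwH⟩ := by
    rintro ⟨g, hg⟩ hgP
    obtain ⟨m, hm, z, hz, rfl⟩ := hdecH g hg
    have hzw : z * w * z⁻¹ = w := by
      obtain ⟨i, rfl⟩ := mem_zpowers_iff.mp hz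
      group
    have e : m * z * w * (m * z)⁻¹ = m * w * m⁻¹ := by
      rw [show m * z * w * (m * z)⁻¹ = m * (z * w * z⁻¹) * m⁻¹ by group, hzw]
    apply Subtype.ext
    show m * z * w * (m * z)⁻¹ = w
    rw [e]
    exact hiso m hm (e ▸ hgP)
  have hwo : orderOf (⟨w, hwH⟩ : H) = 2 := by rw [← orderOf_coe]; exact hw2
  have hz := fun g : H => Invol.zstar (Invol.isolated_of_sylow P' hwo hiso') g
  rw [mem_centralizer_iff]
  intro x hx
  set c : H := (⟨w, hwH⟩ : H) * ⟨x, mem_sup_left hx⟩ * (⟨w, hwH⟩ : H)⁻¹ * (⟨x, mem_sup_left hx⟩ : H)⁻¹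
  have hc : c ∈ oddCore H := hz _
  have hcN : (c : G) ∈ N :=
    N.mul_mem ((inferInstance : N.Normal).conj_mem x hx w) (N.inv_mem hx)
  have hle : (oddCore H).comap (inclusion (le_sup_left : N ≤ H)) ≤ oddCore N :=
    Core.le_pPrimeCore ((Core.coprime_card_pPrimeCore (p := 2) (G := H)).coprime_dvd_left (by
      rw [← card_map_of_injective (inclusion_injective (le_sup_left : N ≤ H))]
      exact card_dvd_of_le (map_comap_le _ _)))
  have h1 : (⟨(c : G), hcN⟩ : N) ∈ oddCore N := hle (show c ∈ oddCore H from hc)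
  rw [hO, mem_bot] at h1
  have h2 : w * x * w⁻¹ * x⁻¹ = 1 := congrArg Subtype.val h1
  calc x * w = (w * x * w⁻¹ * x⁻¹) * x * w := by rw [h2, one_mul]
    _ = w * x := by group

end Cfsg.Agent.Layer
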