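import Cfsg.Agent.Layer.SubnormalJoin

/-!
Sylow subgroups of the join of two subnormal subgroups.
-/

set_option autoImplicit false

namespace Cfsg.Agent.Layer

open Subgroup
open scoped commutatorElement

universe u

variable {p : ℕ} [Fact p.Prime]

/-- The image of a subnormal subgroup meets the image of a Sylow subgroup in the expected way. -/
theorem map_inf_sylow_le {G : Type*} [Group G] [Finite G] (S : Sylow p G) {A : Subgroup G}
    (hA : A.IsSubnormal) {H : Type*} [Group H] [Finite H] (f : G →* H) :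
    A.map f ⊓ (S : Subgroup G).map f ≤ (A ⊓ (S : Subgroup G)).map f := by
  obtain ⟨Q, hQ⟩ := S0542.result p A hA S
  set Q' := Q.mapSurjective (f.subgroupMap_surjective A) with hQ'
  have hle : (Q' : Subgroup (A.map f)) ≤ ((S : Subgroup G).map f).subgroupOf (A.map f) := by
    rintro _ ⟨q, hq, rfl⟩
    rw [SetLike.mem_coe, hQ] at hq
    exact ⟨(q : G), hq, rfl⟩
  have heq := Q'.is_maximal' ((S.isPGroup'.map f).comap_subtype) hle
  intro y hy
  have hy' : (⟨y, hy.1⟩ : A.map f) ∈ (Q' : Subgroup (A.map f)) := by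
    rw [← heq]
    exact hy.2
  obtain ⟨q, hq, hqy⟩ := hy'
  rw [SetLike.mem_coe, hQ] at hq
  exact ⟨(q : G), ⟨q.2, hq⟩, congrArg Subtype.val hqy⟩

theorem sylow_le_of_map_le {G : Type*} [Group G] [Finite G] (S : Sylow p G) (N : Subgroup G)
    [N.Normal] {T : Subgroup G} (hTS : T ≤ (S : Subgroup G))
    (hN : (S : Subgroup G) ⊓ N ≤ T)
    (h : (S : Subgroup G).map (QuotientGroup.mk' N) ≤ T.map (QuotientGroup.mk' N)) :
    (S : Subgroup G) ≤ T := by
  intro x hx
  obtain ⟨t, ht, htx⟩ := h (mem_map_of_mem _ hx)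
  have h1 : t⁻¹ * x ∈ N := QuotientGroup.eq.mp htx
  have h2 := T.mul_mem ht (hN ⟨(S : Subgroup G).mul_mem ((S : Subgroup G).inv_mem (hTS ht)) hx, h1⟩)
  rwa [mul_inv_cancel_left] at h2

theorem sylow_le_of_normal {G : Type*} [Group G] [Finite G] (S : Sylow p G) {N B : Subgroup G}
    [N.Normal] (hB : B.IsSubnormal) (hG : N ⊔ B = ⊤) :
    (S : Subgroup G) ≤ (N ⊓ (S : Subgroup G)) ⊔ (B ⊓ (S : Subgroup G)) := by
  refine sylow_le_of_map_le S N (sup_le inf_le_right inf_le_right)
    (le_sup_of_le_left (le_inf inf_le_right inf_le_left)) ?_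
  refine le_trans ?_ (map_mono le_sup_right)
  refine le_trans (le_inf ?_ le_rfl) (map_inf_sylow_le S hB _)
  have : B.map (QuotientGroup.mk' N) = ⊤ := by
    rw [← Subgroup.map_top_of_surjective _ (QuotientGroup.mk'_surjective N), ← hG, Subgroup.map_sup,
      QuotientGroup.map_mk'_self, bot_sup_eq]
  rw [this]
  exact le_top

theorem commutator_sup_le_of {G : Type*} [Group G] {P B₁ B₂ : Subgroup G}
    (h₁ : ⁅P, B₁⁆ ≤ P) (h₂ : ⁅P, B₂⁆ ≤ P) :
    ⁅P, B₁ ⊔ B₂⁆ ≤ ⁅P, B₁⁆ ⊔ ⁅P, B₂⁆ := by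
  set X := ⁅P, B₁⁆ ⊔ ⁅P, B₂⁆ with hX
  have hX1 : ∀ b, b ∈ B₁ ∨ b ∈ B₂ → ∀ x ∈ P, ⁅x, b⁆ ∈ X := by
    rintro b (hb | hb) x hx
    · exact mem_sup_left (commutator_mem_commutator hx hb)
    · exact mem_sup_right (commutator_mem_commutator hx hb)
  have hXP : X ≤ P := sup_le h₁ h₂
  have hnorm : ∀ b, b ∈ B₁ ∨ b ∈ B₂ → ∀ x ∈ X, b * x * b⁻¹ ∈ X := by
    intro b hb x hx
    have h := X.mul_mem (X.inv_mem (hX1 b hb x (hXP hx))) hx
    rwa [commutatorElement_inv, commutatorElement_def, inv_mul_cancel_right] at h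
  set C : Subgroup G :=
    { carrier := {g | (∀ x ∈ X, g * x * g⁻¹ ∈ X) ∧ (∀ x ∈ X, g⁻¹ * x * g ∈ X) ∧ ∀ x ∈ P, ⁅x, g⁆ ∈ X}
      one_mem' := ⟨fun x hx => by simpa using hx, fun x hx => by simpa using hx,
        fun x _ => by simp⟩
      mul_mem' := by
        rintro g h ⟨hg1, hg2, hg3⟩ ⟨hh1, hh2, hh3⟩
        refine ⟨fun x hx => ?_, fun x hx => ?_, fun x hx => ?_⟩
        · have := hg1 _ (hh1 x hx)
          simpa [mul_assoc] using this
        · have := hh2 _ (hg2 x hx)
          simpa [mul_assoc] using this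
        · have := X.mul_mem (hg3 x hx) (hg1 _ (hh3 x hx))
          simpa [commutatorElement_def, mul_assoc] using this
      inv_mem' := by
        rintro g ⟨hg1, hg2, hg3⟩
        refine ⟨fun x hx => by simpa using hg2 x hx, fun x hx => by simpa using hg1 x hx,
          fun x hx => ?_⟩
        have := hg2 _ (X.inv_mem (hg3 x hx))
        simpa [commutatorElement_def, mul_assoc] using this } with hC
  have hle : B₁ ⊔ B₂ ≤ C := by
    refine sup_le (fun b hb => ?_) fun b hb => ?_
    · exact ⟨hnorm b (Or.inl hb), fun x hx => by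
        simpa using hnorm b⁻¹ (Or.inl (inv_mem hb)) x hx, hX1 b (Or.inl hb)⟩
    · exact ⟨hnorm b (Or.inr hb), fun x hx => by
        simpa using hnorm b⁻¹ (Or.inr (inv_mem hb)) x hx, hX1 b (Or.inr hb)⟩
  rw [commutator_le]
  exact fun x hx g hg => (hle hg).2.2 x hx

theorem sylow_sup_aux : ∀ (n : ℕ) (G : Type u) [Group G] [Finite G],
    Nat.card G ≤ n → ∀ (S : Sylow p G) (A₁ A₂ : Subgroup G), A₁.IsSubnormal → A₂.IsSubnormal →
      A₁ ⊔ A₂ = ⊤ → (S : Subgroup G) ≤ (A₁ ⊓ (S : Subgroup G)) ⊔ (A₂ ⊓ (S : Subgroup G)) := by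
  intro n
  induction n with
  | zero =>
    intro G _ _ hn
    have := Nat.card_pos (α := G)
    omega
  | succ n ih =>
    intro G _ _ hn S A₁ A₂ h₁ h₂ hG
    set T := (A₁ ⊓ (S : Subgroup G)) ⊔ (A₂ ⊓ (S : Subgroup G)) with hT
    have hTS : T ≤ (S : Subgroup G) := sup_le inf_le_right inf_le_right
    have red : ∀ N : Subgroup G, N.Normal → N ≠ ⊥ → (S : Subgroup G) ⊓ N ≤ T →
        (S : Subgroup G) ≤ T := by
      intro N hN hne hSN
      have hπs := QuotientGroup.mk'_surjective N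
      refine sylow_le_of_map_le S N hTS hSN ?_
      have hlt : Nat.card (G ⧸ N) < Nat.card G := by
        have h1 := Subgroup.card_eq_card_quotient_mul_card_subgroup N
        have h2 : 1 < Nat.card N := Subgroup.one_lt_card_iff_ne_bot N |>.mpr hne
        have h3 : 0 < Nat.card (G ⧸ N) := Nat.card_pos
        nlinarith
      have h := ih (G ⧸ N) (by omega) (S.mapSurjective hπs) (A₁.map (QuotientGroup.mk' N))
        (A₂.map (QuotientGroup.mk' N)) (h₁.map hπs) (h₂.map hπs)
        (by rw [← Subgroup.map_sup, hG, Subgroup.map_top_of_surjective _ hπs])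
      refine h.trans ?_
      rw [hT, Subgroup.map_sup]
      exact sup_le_sup (map_inf_sylow_le S h₁ _) (map_inf_sylow_le S h₂ _)
    by_cases hp : IsPGroup p G
    · have hS : (S : Subgroup G) = ⊤ :=
        (S.is_maximal' (hp.to_subgroup ⊤) le_top).symm
      rw [hT, hS]
      simp [hG]
    by_cases hO : Cfsg.pPrimeCore p G = ⊥
    swap
    · refine red _ inferInstance hO (le_of_eq_of_le ?_ bot_le)
      refine Subgroup.inf_eq_bot_of_coprime ?_
      obtain ⟨k, hk⟩ := S.isPGroup'.exists_card_eq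
      rw [hk]
      exact (Core.coprime_card_pPrimeCore (p := p) (G := G)).symm.pow_left k
    by_cases hE : layer G = ⊥
    swap
    · refine red _ inferInstance hE ?_
      have hcases : ∀ L : Subgroup G, IsComponent L → L ≤ A₁ ∨ L ≤ A₂ := by
        intro L hL
        by_contra h
        rw [not_or] at h
        have hc1 := commutator_eq_bot_iff_le_centralizer.mp
          ((component_le_or_commute hL h₁).resolve_left h.1)
        have hc2 := commutator_eq_bot_iff_le_centralizer.mp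
          ((component_le_or_commute hL h₂).resolve_left h.2)
        have hc : L ≤ centralizer ((A₁ ⊔ A₂ : Subgroup G) : Set G) :=
          le_centralizer_iff.mp (sup_le (le_centralizer_iff.mp hc1) (le_centralizer_iff.mp hc2))
        rw [hG] at hc
        exact qs_subgroup_not_abelian hL.2
          (commutator_eq_bot_iff_le_centralizer.mpr (hc.trans (centralizer_le le_top)))
      set E₁ := sSup {L : Subgroup G | IsComponent L ∧ L ≤ A₁} with hE₁
      set E₂ := sSup {L : Subgroup G | IsComponent L ∧ L ≤ A₂} with hE₂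
      have hEl : ∀ A : Subgroup G, sSup {L : Subgroup G | IsComponent L ∧ L ≤ A} ≤ layer G :=
        fun A => sSup_le fun L hL => component_le_layer hL.1
      set E := layer G with hEdef
      have hsup : E₁.subgroupOf E ⊔ E₂.subgroupOf E = ⊤ := by
        rw [← subgroupOf_sup (hEl A₁) (hEl A₂), subgroupOf_eq_top]
        exact sSup_le fun L hL => (hcases L hL).elim
          (fun h => le_sup_of_le_left (le_sSup ⟨hL, h⟩)) fun h => le_sup_of_le_right (le_sSup ⟨hL, h⟩)
      haveI : (E₁.subgroupOf E).Normal :=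
        (normal_subgroupOf_iff_le_normalizer (hEl A₁)).mpr
          (le_normalizer_sSup fun L hL => layer_le_normalizer_component hL.1)
      have hB : (E₂.subgroupOf E).IsSubnormal :=
        (isSubnormal_sSup fun L hL => hL.1.1).subgroupOf
      obtain ⟨Q, hQ⟩ := S0542.result p E (Normal.isSubnormal inferInstance) S
      have hQle := sylow_le_of_normal Q hB hsup
      intro x hx
      have hxQ : (⟨x, hx.2⟩ : E) ∈ (Q : Subgroup E) := by rw [hQ]; exact hx.1
      have hm := mem_map_of_mem E.subtype (hQle hxQ)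
      rw [Subgroup.map_sup] at hm
      refine (show _ ≤ (A₁ ⊓ (S : Subgroup G)) ⊔ (A₂ ⊓ (S : Subgroup G)) from sup_le ?_ ?_) hm
      · rintro _ ⟨y, ⟨hy1, hy2⟩, rfl⟩
        rw [hQ] at hy2
        exact mem_sup_left ⟨(sSup_le fun L hL => hL.2 : E₁ ≤ A₁) hy1, hy2⟩
      · rintro _ ⟨y, ⟨hy1, hy2⟩, rfl⟩
        rw [hQ] at hy2
        exact mem_sup_right ⟨(sSup_le fun L hL => hL.2 : E₂ ≤ A₂) hy1, hy2⟩
    -- the `p`-core is self-centralising
    have hFp : fittingSubgroup G = Cfsg.pCore p G := fitting_eq_pCore_of_pPrimeCore_eq_bot hO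
    have hCP : centralizer (Cfsg.pCore p G : Set G) ≤ Cfsg.pCore p G := by
      rw [← hFp]
      exact layer_eq_bot_iff_centralizer_fitting.mp hE
    set P := Cfsg.pCore p G with hP
    refine red ⁅P, Cfsg.pResidual p G⁆ inferInstance ?_ (inf_le_right.trans ?_)
    · intro h0
      refine hp ?_
      have hKP : Cfsg.pResidual p G ≤ P :=
        ((commutator_eq_bot_iff_le_centralizer.mp ((commutator_comm _ _).trans h0))).trans hCP
      intro x
      obtain ⟨k, hk⟩ := Fusion.isPGroup_quotient_pResidual (p := p) (G := G) (QuotientGroup.mk x)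
      rw [← QuotientGroup.mk_pow, QuotientGroup.eq_one_iff] at hk
      obtain ⟨l, hl⟩ := Core.pCore_isPGroup (p := p) ⟨_, hKP hk⟩
      exact ⟨k + l, by rw [pow_add, pow_mul]; exact congrArg Subtype.val hl⟩
    · have hPn : ∀ A : Subgroup G, A.IsSubnormal →
          P ≤ normalizer (LocalStructure.resOf p A : Set G) := fun A hA =>
        (LocalStructure.resOf_sup_of_subnormal (Normal.isSubnormal inferInstance)
          Core.pCore_isPGroup hA).1
      rw [pResidual_eq_sup h₁ h₂ hG]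
      refine (commutator_sup_le_of (commutator_le_left _ _) (commutator_le_left _ _)).trans ?_
      have hle : ∀ A : Subgroup G, A.IsSubnormal →
          ⁅P, LocalStructure.resOf p A⁆ ≤ A ⊓ (S : Subgroup G) := by
        intro A hA
        refine le_inf ?_ ((commutator_le_left _ _).trans (Core.pCore_le_sylow S))
        refine le_trans ?_ (LocalStructure.resOf_le p A)
        rw [commutator_le]
        intro x hx b hb
        exact mul_mem ((mem_normalizer_iff.mp (hPn A hA hx) b).mp hb) (inv_mem hb)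
      exact sup_le_sup (hle A₁ h₁) (hle A₂ h₂)

theorem inf_sylow_sup {G : Type u} [Group G] [Finite G] (S : Sylow p G) {A₁ A₂ : Subgroup G}
    (h₁ : A₁.IsSubnormal) (h₂ : A₂.IsSubnormal) :
    (A₁ ⊔ A₂) ⊓ (S : Subgroup G) = (A₁ ⊓ (S : Subgroup G)) ⊔ (A₂ ⊓ (S : Subgroup G)) := by
  set J := A₁ ⊔ A₂ with hJ
  refine le_antisymm (fun x hx => ?_) (sup_le (inf_le_inf_right _ le_sup_left)
    (inf_le_inf_right _ le_sup_right))
  obtain ⟨Q, hQ⟩ := S0542.result p J (isSubnormal_sup h₁ h₂) S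
  have h := sylow_sup_aux _ J le_rfl Q (A₁.subgroupOf J) (A₂.subgroupOf J) h₁.subgroupOf
    h₂.subgroupOf (by rw [← subgroupOf_sup le_sup_left le_sup_right, subgroupOf_self])
  have hxQ : (⟨x, hx.1⟩ : J) ∈ (Q : Subgroup J) := by rw [hQ]; exact hx.2
  have hm := mem_map_of_mem J.subtype (h hxQ)
  rw [Subgroup.map_sup] at hm
  refine (show _ ≤ (A₁ ⊓ (S : Subgroup G)) ⊔ (A₂ ⊓ (S : Subgroup G)) from sup_le ?_ ?_) hm
  · rintro _ ⟨y, ⟨hy1, hy2⟩, rfl⟩
    rw [hQ] at hy2
    exact mem_sup_left ⟨hy1, hy2⟩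
  · rintro _ ⟨y, ⟨hy1, hy2⟩, rfl⟩
    rw [hQ] at hy2
    exact mem_sup_right ⟨hy1, hy2⟩

end Cfsg.Agent.Layer
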