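import Cfsg.Agent.Layer.Subnormal

/-!
Wielandt's zipper lemma.

* `exists_conj_le_normalizer` : a subnormal non-normal subgroup has a distinct conjugate in its
  normaliser.
* `zipper` : a subgroup subnormal in every proper overgroup but not in `G` lies in exactly one
  maximal subgroup.
-/

set_option autoImplicit false

namespace Cfsg.Agent.Layer

open Subgroup

variable {G : Type*} [Group G]

/-- A subnormal subgroup which is not normal has a distinct conjugate inside its normaliser. -/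
theorem exists_conj_le_normalizer [Finite G] {H : Subgroup G} (hH : H.IsSubnormal)
    (hn : ¬ H.Normal) :
    ∃ g : G, H.map (MulAut.conj g).toMonoidHom ≤ normalizer (H : Set G) ∧
      H.map (MulAut.conj g).toMonoidHom ≠ H := by
  suffices key : ∀ X : Subgroup G, X.IsSubnormal → H ≤ X → X ≤ normalizer (H : Set G) →
      ∃ g : G, H.map (MulAut.conj g).toMonoidHom ≤ normalizer (H : Set G) ∧
        H.map (MulAut.conj g).toMonoidHom ≠ H from key H hH le_rfl le_normalizer
  intro X hX
  induction hX with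
  | top => exact fun _ h => absurd (normalizer_eq_top_iff.mp (top_le_iff.mp h)) hn
  | step X Y hXY hY hN ih =>
    intro hHX hXn
    by_cases hYn : Y ≤ normalizer (H : Set G)
    · exact ih (hHX.trans hXY) hYn
    obtain ⟨l, hlY, hl⟩ := SetLike.not_le_iff_exists.mp hYn
    refine ⟨l, ?_, fun e => hl (mem_normalizer_iff_map_conj_eq.mpr e)⟩
    refine le_trans ?_ hXn
    rintro _ ⟨x, hx, rfl⟩
    have hxX : x ∈ X := hHX hx
    exact mem_subgroupOf.mp (hN.conj_mem ⟨x, hXY hxX⟩ (mem_subgroupOf.mpr hxX) ⟨l, hlY⟩)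

/-- **Wielandt's zipper lemma**. -/
theorem zipper [Finite G] (A : Subgroup G)
    (hsub : ∀ H : Subgroup G, A ≤ H → H ≠ ⊤ → (A.subgroupOf H).IsSubnormal)
    (hA : ¬ A.IsSubnormal) : ∃! M : Subgroup G, IsCoatom M ∧ A ≤ M := by
  induction A using WellFoundedGT.induction with
  | _ A ih =>
  have hAn : normalizer (A : Set G) ≠ ⊤ := fun h => hA (normalizer_eq_top_iff.mp h).isSubnormal
  obtain ⟨M, hM, hNM⟩ := (eq_top_or_exists_le_coatom (normalizer (A : Set G))).resolve_left hAn
  refine ⟨M, ⟨hM, le_normalizer.trans hNM⟩, ?_⟩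
  rintro K ⟨hK, hAK⟩
  by_cases hKn : K ≤ normalizer (A : Set G)
  · exact ((IsCoatom.le_iff hK).mp (hKn.trans hNM)).resolve_left hM.1 |>.symm
  have hnn : ¬ (A.subgroupOf K).Normal := fun h => hKn ((normal_subgroupOf_iff_le_normalizer hAK).mp h)
  obtain ⟨k, hk, hkne⟩ := exists_conj_le_normalizer (hsub K hAK hK.1) hnn
  set A' := A.map (MulAut.conj (k : G)).toMonoidHom with hA'
  have hA'K : A' ≤ K := by
    rintro _ ⟨a, ha, rfl⟩
    exact K.mul_mem (K.mul_mem k.2 (hAK ha)) (K.inv_mem k.2)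
  have hA'N : A' ≤ normalizer (A : Set G) := by
    rintro _ ⟨a, ha, rfl⟩
    have hm := hk ⟨⟨a, hAK ha⟩, mem_subgroupOf.mpr ha, rfl⟩
    rw [mem_normalizer_iff] at hm ⊢
    intro x
    by_cases hx : x ∈ K
    · have := hm ⟨x, hx⟩
      simp only [mem_subgroupOf] at this
      exact this
    · refine ⟨fun h => absurd (hAK h) hx, fun h => absurd ?_ hx⟩
      have hu : (k : G) * a * (k : G)⁻¹ ∈ K := K.mul_mem (K.mul_mem k.2 (hAK ha)) (K.inv_mem k.2)
      have hc : ((k : G) * a * (k : G)⁻¹) * x * ((k : G) * a * (k : G)⁻¹)⁻¹ ∈ K := hAK h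
      have := K.mul_mem (K.mul_mem (K.inv_mem hu) hc) hu
      simpa [mul_assoc] using this
  have hA'ne : A' ≠ A := by
    intro e
    refine hkne (Subgroup.map_injective K.subtype_injective ?_)
    rw [map_subgroupOf_eq_of_le hAK, Subgroup.map_map]
    conv_rhs => rw [← e, hA', ← map_subgroupOf_eq_of_le hAK, Subgroup.map_map]
    rfl
  have hlt : A < A ⊔ A' := by
    refine lt_of_le_of_ne le_sup_left fun e => hA'ne ?_
    exact Subgroup.eq_of_le_of_card_ge (e ▸ le_sup_right) (le_of_eq (card_map_conj A (k : G)).symm)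
  have hBN : A ⊔ A' ≤ normalizer (A : Set G) := sup_le le_normalizer hA'N
  have hBnsn : ¬ (A ⊔ A').IsSubnormal := fun h =>
    hA (IsSubnormal.step A (A ⊔ A') le_sup_left h
      ((normal_subgroupOf_iff_le_normalizer le_sup_left).mpr hBN))
  obtain ⟨M₀, -, hu⟩ := ih (A ⊔ A') hlt (fun H hH hHt => by
    rw [Subgroup.subgroupOf_sup (le_sup_left.trans hH) (le_sup_right.trans hH)]
    refine isSubnormal_sup (hsub H (le_sup_left.trans hH) hHt) ?_
    set H' := H.comap (MulAut.conj (k : G)).toMonoidHom with hH'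
    have hAH' : A ≤ H' := fun a ha => hH (mem_sup_right ⟨a, ha, rfl⟩)
    have hH't : H' ≠ ⊤ := fun e => hHt (eq_top_iff.mpr fun x _ => by
      have hx : (MulAut.conj (k : G)).symm x ∈ H' := e ▸ mem_top _
      rw [hH', mem_comap] at hx
      simpa [mul_assoc] using hx)
    have hs := hsub H' hAH' hH't
    let f : H →* H' :=
      ((MulAut.conj (k : G)).symm.toMonoidHom.comp H.subtype).codRestrict H' fun x => by
        rw [hH', mem_comap]
        simp [mul_assoc]
    convert hs.comap f using 1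
    ext x
    rw [mem_subgroupOf, mem_comap, mem_subgroupOf, hA', mem_map_equiv]
    rfl) hBnsn
  rw [hu K ⟨hK, sup_le hAK hA'K⟩, hu M ⟨hM, hBN.trans hNM⟩]

end Cfsg.Agent.Layer
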